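import Cfsg.Agent.Cit.Nil.CV1.World
import Cfsg.Agent.Cit.WeakCl
import Cfsg.Agent.Cit.Quo

/-!
# (6b)(CV), rank one: basic facts

`Phi Om S` = the members contained in `S`; `TT U K s` = `s` commutes with `zz K` and not with `V_K`.
Frames `Phi Om S`, `S` Sylow: exchange, maximality; the block relation `Conn` of `H`; `full` = (F2).
-/

set_option autoImplicit false
set_option linter.style.haveILetI false
set_option linter.unusedSectionVars false

namespace Cfsg.Agent.Cit.CV1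

open Subgroup Cfsg Cit Tau CV

variable {G : Type*} [Group G]

/-- the members contained in `S` -/
def Phi (Om : Set (Subgroup G)) (S : Subgroup G) : Set (Subgroup G) := {K | K ∈ Om ∧ K ≤ S}

/-- `s` commutes with `zz K`, not with `V_K` -/
def TT (U : Subgroup G → Subgroup G) (K : Subgroup G) (s : G) : Prop :=
  s * zz K = zz K * s ∧ ∃ v ∈ U K, orderOf v = 4 ∧ s * v ≠ v * s

variable {Om : Set (Subgroup G)} {U : Subgroup G → Subgroup G} {H K L M N S T : Subgroup G} {a b e g s u v w x y : G}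

theorem Phi_mono (h : S ≤ T) : Phi Om S ⊆ Phi Om T := fun _ hK => ⟨hK.1, hK.2.trans h⟩

theorem Orth.symm (h : Orth K L) : Orth L K := ⟨h.1.symm, fun x hx y hy => (h.2 y hy x hx).symm⟩

theorem comm_cj (h : ∀ x ∈ K, ∀ y ∈ L, x * y = y * x) (g : G) : ∀ x ∈ cj g K, ∀ y ∈ cj g L, x * y = y * x := by
  rintro _ ⟨x, hx, rfl⟩ _ ⟨y, hy, rfl⟩
  have := h x hx y hy
  simp only [MulEquiv.coe_toMonoidHom, ← map_mul, this]

theorem Orth.cj (h : Orth K L) (g : G) : Orth (cj g K) (cj g L) :=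
  ⟨fun hh => h.1 (cj_inj.1 hh), comm_cj h.2 g⟩

theorem Phi_cj (hO : ∀ K ∈ Om, ∀ g, cj g K ∈ Om) (g : G) : Phi Om (cj g S) = cj g '' Phi Om S := by
  ext K
  constructor
  · rintro ⟨hK, hKS⟩
    refine ⟨cj g⁻¹ K, ⟨hO K hK _, ?_⟩, cj_cj_inv g K⟩
    rw [← cj_le_cj (g := g), cj_cj_inv]
    exact hKS
  · rintro ⟨K, ⟨hK, hKS⟩, rfl⟩
    exact ⟨hO K hK g, cj_mono g hKS⟩

theorem ncard_Phi_cj (hO : ∀ K ∈ Om, ∀ g, cj g K ∈ Om) (g : G) : (Phi Om (cj g S)).ncard = (Phi Om S).ncard := by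
  rw [Phi_cj hO, Set.ncard_image_of_injective _ (cj_injective g)]

theorem cj_top (g : G) : cj g (⊤ : Subgroup G) = ⊤ := by
  ext x; rw [mem_cj]; simp

section finite

variable [Finite G]

theorem syl_cj_top (hS : Syl S ⊤) (g : G) : Syl (cj g S) ⊤ := by
  have := hS.cj g
  rwa [cj_top] at this

theorem ncard_Phi_eq (hO : ∀ K ∈ Om, ∀ g, cj g K ∈ Om) (hS : Syl S ⊤) (hT : Syl T ⊤) :
    (Phi Om S).ncard = (Phi Om T).ncard := by
  obtain ⟨g, -, rfl⟩ := hS.exists_conj hT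
  rw [ncard_Phi_cj hO]

theorem exists_top (hT : IsPGroup 2 T) : ∃ S, Syl S (⊤ : Subgroup G) ∧ T ≤ S := exists_syl_ge hT le_top

/-- a 2-group containing all members of a Sylow subgroup `S` contains no others -/
theorem Phi_eq_of_le (hO : ∀ K ∈ Om, ∀ g, cj g K ∈ Om) (hS : Syl S ⊤) (hT : IsPGroup 2 T)
    (h : ∀ K ∈ Phi Om S, K ≤ T) : Phi Om T = Phi Om S := by
  obtain ⟨S', hS', hTS'⟩ := exists_top hT
  have h1 : Phi Om S ⊆ Phi Om T := fun K hK => ⟨hK.1, h K hK⟩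
  symm
  refine Set.eq_of_subset_of_ncard_le h1 ?_ (Set.toFinite _)
  rw [ncard_Phi_eq hO hS hS']
  exact Set.ncard_le_ncard (Phi_mono hTS') (Set.toFinite _)

omit [Finite G] in
theorem le_centralizer_of_comm (h : ∀ x ∈ K, ∀ y ∈ L, x * y = y * x) : L ≤ centralizer (K : Set G) := by
  intro y hy
  rw [mem_centralizer_iff]
  intro x hx
  exact h x hx y hy

omit [Finite G] in
theorem comm_of_le_centralizer (h : L ≤ centralizer (K : Set G)) : ∀ x ∈ K, ∀ y ∈ L, x * y = y * x :=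
  fun x hx _ hy => mem_centralizer_iff.1 (h hy) x hx

/-- commuting 2-groups generate a 2-group -/
theorem two_sup (hK : IsPGroup 2 K) (hL : IsPGroup 2 L) (h : K ≤ normalizer (L : Set G)) :
    IsPGroup 2 (L ⊔ K : Subgroup G) := by
  haveI : Fact (Nat.Prime 2) := ⟨Nat.prime_two⟩
  exact IsPGroup.to_sup_of_normal_left' hL hK h

theorem two_sup_comm (hK : IsPGroup 2 K) (hL : IsPGroup 2 L) (h : ∀ x ∈ K, ∀ y ∈ L, x * y = y * x) :
    IsPGroup 2 (L ⊔ K : Subgroup G) := by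
  refine two_sup hK hL ?_
  intro x hx
  rw [mem_normalizer_iff_cj]
  ext z
  rw [mem_cj]
  constructor
  · intro hz
    have h1 := h x hx _ hz
    have h2 : z = x * (x⁻¹ * z * x) * x⁻¹ := by group
    rw [h2, h1, mul_inv_cancel_right]
    exact hz
  · intro hz
    have h1 := h x⁻¹ (K.inv_mem hx) z hz
    rw [h1, inv_mul_cancel_right]
    exact hz

/-- pairwise commuting 2-groups generate a 2-group -/
theorem two_sSup {F : Set (Subgroup G)} (h2 : ∀ K ∈ F, IsPGroup 2 K)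
    (hc : ∀ K ∈ F, ∀ L ∈ F, K ≠ L → ∀ x ∈ K, ∀ y ∈ L, x * y = y * x) : IsPGroup 2 (sSup F : Subgroup G) := by
  have hF : F.Finite := Set.toFinite F
  induction F, hF using Set.Finite.induction_on with
  | empty => rw [sSup_empty]; exact IsPGroup.of_bot
  | @insert K F hKF hF ih =>
    have h3 := ih (fun L hL => h2 L (Set.mem_insert_of_mem _ hL))
      (fun L hL M hM => hc L (Set.mem_insert_of_mem _ hL) M (Set.mem_insert_of_mem _ hM))
    rw [sSup_insert, sup_comm]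
    refine two_sup_comm (h2 K (Set.mem_insert _ _)) h3 ?_
    apply comm_of_le_centralizer
    refine sSup_le fun L hL => le_centralizer_of_comm ?_
    exact hc K (Set.mem_insert _ _) L (Set.mem_insert_of_mem _ hL) (by rintro rfl; exact hKF hL)

end finite

/-! ### The block relation -/

section block

theorem Adj.symm (h : Adj Om H K L) : Adj Om H L K := ⟨h.2.1, h.1, by rw [commutator_comm]; exact h.2.2⟩

theorem Conn.symm (h : Conn Om H K L) : Conn Om H L K := by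
  induction h with
  | refl => exact Relation.ReflTransGen.refl
  | tail _ h2 ih => exact Relation.ReflTransGen.head h2.symm ih

theorem Conn.trans (h : Conn Om H K L) (h' : Conn Om H L M) : Conn Om H K M := Relation.ReflTransGen.trans h h'

theorem Adj.conn (h : Adj Om H K L) : Conn Om H K L := Relation.ReflTransGen.single h

theorem Conn.rfl : Conn Om H K K := Relation.ReflTransGen.refl

/-- a commutator outside `O(H)` -/
theorem adj_of_comm (hK : K ∈ Om) (hKH : K ≤ H) (hL : L ∈ Om) (hLH : L ≤ H) (hx : x ∈ K) (hy : y ∈ L)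
    (h : x * y * x⁻¹ * y⁻¹ ∉ OO H) : Adj Om H K L :=
  ⟨⟨hK, hKH⟩, ⟨hL, hLH⟩, fun hh => h (hh (commutator_mem_commutator hx hy))⟩

theorem comm_mem_of_not_conn (hK : K ∈ Om) (hKH : K ≤ H) (hL : L ∈ Om) (hLH : L ≤ H) (h : ¬ Conn Om H K L)
    (hx : x ∈ K) (hy : y ∈ L) : x * y * x⁻¹ * y⁻¹ ∈ OO H := by
  by_contra hh
  exact h (adj_of_comm hK hKH hL hLH hx hy hh).conn

theorem Adj.cj (hO : ∀ K ∈ Om, ∀ g, cj g K ∈ Om) (h : Adj Om H K L) (hg : g ∈ normalizer (H : Set G)) :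
    Adj Om H (cj g K) (cj g L) := by
  have hgH := mem_normalizer_iff_cj.1 hg
  refine ⟨⟨hO K h.1.1 g, ?_⟩, ⟨hO L h.2.1.1 g, ?_⟩, ?_⟩
  · rw [← hgH]; exact cj_mono g h.1.2
  · rw [← hgH]; exact cj_mono g h.2.1.2
  · have h1 : OO H = Cit.cj g (OO H) := by rw [← OO_cj, hgH]
    rw [← cj_commutator, h1, cj_le_cj]
    exact h.2.2

theorem Conn.cj (hO : ∀ K ∈ Om, ∀ g, cj g K ∈ Om) (h : Conn Om H K L) (hg : g ∈ normalizer (H : Set G)) :
    Conn Om H (cj g K) (cj g L) := by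
  induction h with
  | refl => exact Relation.ReflTransGen.refl
  | tail _ h2 ih => exact Relation.ReflTransGen.tail ih (h2.cj hO hg)

theorem Conn.mem (h : Conn Om H K L) (hK : K ∈ Om ∧ K ≤ H) : L ∈ Om ∧ L ≤ H := by
  induction h with
  | refl => exact hK
  | tail _ h2 _ => exact h2.2.1

end block

namespace RW

variable [Finite G] (h : RW Om U)
include h

theorem hO : ∀ K ∈ Om, ∀ g, cj g K ∈ Om := h.hyp.conj

/-- distinct members in a 2-group are orthogonal -/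
theorem orth_of_two (hT : IsPGroup 2 T) (hK : K ∈ Om) (hKT : K ≤ T) (hL : L ∈ Om) (hLT : L ≤ T) (hne : K ≠ L) :
    Orth K L := by
  refine ⟨hne, fun x hx y hy => ?_⟩
  exact h.hyp.comm hT (mem_OmS_of_le hK (syl_self (h.two K hK)) hKT) (mem_OmS_of_le hL (syl_self (h.two L hL)) hLT)
    hne ⟨hx, hKT hx⟩ ⟨hy, hLT hy⟩

theorem orth_of_Phi (hS : Syl S T) (hK : K ∈ Phi Om S) (hL : L ∈ Phi Om S) (hne : K ≠ L) : Orth K L :=
  h.orth_of_two hS.2.1 hK.1 hK.2 hL.1 hL.2 hne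

/-- **(B2)** -/
theorem comm_of_zz (hK : K ∈ Om) (hN : N ∈ Om) (hv : v ∈ U K) (hv4 : orderOf v = 4)
    (hc : zz N * v = v * zz N) : K = N ∨ ∀ x ∈ K, ∀ y ∈ N, x * y = y * x := by
  obtain ⟨w, hw, hw4⟩ := h.exists_v hN
  have h1 : v ∈ normalizer (N : Set G) := h.norm_h3 hK hN (h.vch.le K hK hv) (by rw [hv4]) hc.symm
  have h2 : IsPGroup 2 (N ⊔ zpowers v : Subgroup G) := by
    refine two_sup ((h.two K hK).to_le (zpowers_le.2 (h.vch.le K hK hv))) (h.two N hN) ?_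
    rwa [zpowers_le]
  exact h.lin K hK N hN v hv w hw hv4 hw4 (h.vch.commute h.hyp h2 hK hN hv hw hv4 hw4
    (mem_sup_right (mem_zpowers v)) (mem_sup_left (h.vch.le N hN hw)))

theorem comm_of_not_tt (hK : K ∈ Om) (hN : N ∈ Om) (hc : zz N * zz K = zz K * zz N) (ht : ¬ TT U K (zz N)) :
    K = N ∨ ∀ x ∈ K, ∀ y ∈ N, x * y = y * x := by
  obtain ⟨v, hv, hv4⟩ := h.exists_v hK
  refine h.comm_of_zz hK hN hv hv4 ?_
  by_contra hne
  exact ht ⟨hc, v, hv, hv4, hne⟩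

theorem not_tt_of_comm (hK : K ∈ Om) (hN : N ∈ Om) (hc : K = N ∨ ∀ x ∈ K, ∀ y ∈ N, x * y = y * x) :
    ¬ TT U K (zz N) := by
  rintro ⟨-, v, hv, -, hne⟩
  apply hne
  rcases hc with rfl | hc
  · exact (h.hyp.comm_zz hK (le_normalizer (h.vch.le K hK hv))).symm
  · exact (hc v (h.vch.le K hK hv) _ (h.hyp.zz_mem hN)).symm

theorem tt_symm (hK : K ∈ Om) (hN : N ∈ Om) (ht : TT U K (zz N)) : TT U N (zz K) := by
  by_contra hh
  refine h.not_tt_of_comm hK hN ?_ ht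
  rcases h.comm_of_not_tt hN hK ht.1.symm hh with h1 | h1
  · exact Or.inl h1.symm
  · exact Or.inr fun x hx y hy => (h1 y hy x hx).symm

theorem tt_cj (hK : K ∈ Om) (ht : TT U K s) (g : G) : TT U (cj g K) (g * s * g⁻¹) := by
  obtain ⟨h1, v, hv, hv4, hne⟩ := ht
  refine ⟨?_, g * v * g⁻¹, h.vch.conj_mem hK hv g, orderOf_conj_four hv4 g, ?_⟩
  · rw [h.hyp.zz_cj hK]
    calc g * s * g⁻¹ * (g * zz K * g⁻¹) = g * (s * zz K) * g⁻¹ := by group
      _ = _ := by rw [h1]; group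
  · intro hh
    apply hne
    have h2 : g * (s * v) * g⁻¹ = g * (v * s) * g⁻¹ := by
      calc g * (s * v) * g⁻¹ = g * s * g⁻¹ * (g * v * g⁻¹) := by group
        _ = _ := by rw [hh]; group
    simpa using h2

/-- **(n + 1)**: a member commuting with all members of a Sylow subgroup lies in it -/
theorem mem_Phi_of_comm (hS : Syl S ⊤) (hN : N ∈ Om)
    (hc : ∀ K ∈ Phi Om S, K = N ∨ ∀ x ∈ K, ∀ y ∈ N, x * y = y * x) : N ∈ Phi Om S := by
  by_contra hNS
  have h0 : ∀ K ∈ Phi Om S, ∀ x ∈ K, ∀ y ∈ N, x * y = y * x := by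
    intro K hK
    rcases hc K hK with rfl | h1
    · exact absurd hK hNS
    · exact h1
  have hD : IsPGroup 2 (sSup (Phi Om S) : Subgroup G) := hS.2.1.to_le (sSup_le fun K hK => hK.2)
  have hT : IsPGroup 2 (sSup (Phi Om S) ⊔ N : Subgroup G) := by
    refine two_sup_comm (h.two N hN) hD ?_
    apply comm_of_le_centralizer
    refine sSup_le fun K hK => le_centralizer_of_comm fun x hx y hy => (h0 K hK y hy x hx).symm
  have h1 := Phi_eq_of_le h.hO hS hT (fun K hK => (le_sSup hK).trans le_sup_left)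
  exact hNS (by rw [← h1]; exact ⟨hN, le_sup_right⟩)

/-- a frame: `n` pairwise commuting members lie in a Sylow subgroup -/
theorem exists_frame (hS : Syl S ⊤) {F : Set (Subgroup G)} (hF : F ⊆ Om)
    (hc : ∀ K ∈ F, ∀ L ∈ F, K ≠ L → ∀ x ∈ K, ∀ y ∈ L, x * y = y * x) (hn : (Phi Om S).ncard ≤ F.ncard)
    {P : Subgroup G} (hP : IsPGroup 2 P) (hPF : ∀ K ∈ F, P ≤ normalizer (K : Set G)) :
    ∃ S', Syl S' (⊤ : Subgroup G) ∧ F = Phi Om S' ∧ P ≤ S' := by
  have h1 := two_sSup (fun K hK => h.two K (hF hK)) hc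
  have h2 : P ≤ normalizer ((sSup F : Subgroup G) : Set G) := by
    intro g hg
    rw [mem_normalizer_iff_cj]
    apply le_antisymm
    · have h3 : sSup F ≤ cj g⁻¹ (sSup F) := by
        refine sSup_le fun K hK => ?_
        have h4 : cj g K = K := mem_normalizer_iff_cj.1 (hPF K hK hg)
        rw [← cj_le_cj (g := g), cj_cj_inv, h4]
        exact le_sSup hK
      rw [← cj_le_cj (g := g⁻¹), cj_inv_cj]
      exact h3
    · refine sSup_le fun K hK => ?_
      have h4 : cj g K = K := mem_normalizer_iff_cj.1 (hPF K hK hg)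
      rw [← h4]
      exact cj_mono g (le_sSup hK)
  have h3 := two_sup hP h1 h2
  obtain ⟨S', hS', hle⟩ := exists_top h3
  refine ⟨S', hS', ?_, le_sup_right.trans hle⟩
  refine Set.eq_of_subset_of_ncard_le (fun K hK => ⟨hF hK, (le_sSup hK).trans (le_sup_left.trans hle)⟩) ?_
    (Set.toFinite _)
  rw [← ncard_Phi_eq h.hO hS hS']
  exact hn

/-- `K` and its conjugate under `O(H)` are adjacent -/
theorem adj_conj_core (hK : K ∈ Om) (hKH : K ≤ H) (hg : g ∈ OO H) : Adj Om H (cj g K) K := by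
  obtain ⟨v, hv, c, hc, hvc⟩ := h.hyp.exists_comm_eq hK (h.two K hK)
  have hgH : g ∈ H := OO_le H hg
  have hn := le_normalizer_OO H
  have hm : ∀ k ∈ K, ∀ o ∈ OO H, k * o * k⁻¹ ∈ OO H := fun k hk o ho => (mem_normalizer_iff.1 (hn (hKH hk)) o).1 ho
  have e : g * v * g⁻¹ * c * (g * v * g⁻¹)⁻¹ * c⁻¹ =
      g * (v * g⁻¹ * v⁻¹) * ((v * c) * g * (v * c)⁻¹) * (v * c * v⁻¹ * c⁻¹) * (c * g⁻¹ * c⁻¹) := by group
  refine adj_of_comm (h.hO K hK g) ?_ hK hKH (conj_mem_cj hv) hc ?_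
  · have := cj_mono g hKH
    rwa [mem_normalizer_iff_cj.1 (le_normalizer hgH)] at this
  · intro hh
    rw [e, hvc] at hh
    have h1 : g * (v * g⁻¹ * v⁻¹) * ((v * c) * g * (v * c)⁻¹) ∈ OO H :=
      mul_mem (mul_mem hg (hm v hv _ (inv_mem hg))) (hm _ (K.mul_mem hv hc) _ hg)
    have h2 : c * g⁻¹ * c⁻¹ ∈ OO H := hm c hc _ (inv_mem hg)
    have h3 := mul_mem (inv_mem h1) (mul_mem hh (inv_mem h2))
    have h4 : (g * (v * g⁻¹ * v⁻¹) * ((v * c) * g * (v * c)⁻¹))⁻¹ *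
        (g * (v * g⁻¹ * v⁻¹) * ((v * c) * g * (v * c)⁻¹) * zz K * (c * g⁻¹ * c⁻¹) * (c * g⁻¹ * c⁻¹)⁻¹) = zz K := by group
    rw [h4] at h3
    exact h.hyp.zz_ne hK (eq_one_of_odd (odd_OO H) h3 (a := 1) (by rw [pow_one, pow_two]; exact h.hyp.zz_mul hK))

/-- **(F2)**: if `H` contains `n` pairwise commuting members `F`, every member of `H` is connected to one of them -/
theorem full (hS : Syl S ⊤) {F : Set (Subgroup G)} (hF : F ⊆ Om) (hFH : ∀ K ∈ F, K ≤ H)
    (hc : ∀ K ∈ F, ∀ L ∈ F, K ≠ L → ∀ x ∈ K, ∀ y ∈ L, x * y = y * x) (hn : (Phi Om S).ncard ≤ F.ncard)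
    (hM : M ∈ Om) (hMH : M ≤ H) : ∃ K ∈ F, Conn Om H K M := by
  by_contra hcon
  push Not at hcon
  set D := sSup F with hD
  have hD2 : IsPGroup 2 D := two_sSup (fun K hK => h.two K (hF hK)) hc
  have hDH : D ≤ H := sSup_le hFH
  -- `M` normalises `D ⊔ O`
  have h1 : M ≤ normalizer ((OO H ⊔ D : Subgroup G) : Set G) := by
    have key : ∀ m ∈ M, OO H ⊔ D ≤ cj m (OO H ⊔ D) := by
      intro m hm
      rw [cj_sup]
      have hmO : cj m (OO H) = OO H := mem_normalizer_iff_cj.1 (le_normalizer_OO H (hMH hm))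
      rw [hmO]
      refine sup_le le_sup_left (sSup_le fun K hK x hx => ?_)
      have h2 := comm_mem_of_not_conn (hF hK) (hFH K hK) hM hMH (hcon K hK) hx hm
      have h3 : x = (x * m * x⁻¹ * m⁻¹) * (m * x * m⁻¹) := by group
      rw [h3]
      exact mul_mem (mem_sup_left h2) (mem_sup_right (conj_mem_cj (le_sSup hK hx)))
    intro m hm
    rw [mem_normalizer_iff_cj]
    refine le_antisymm ?_ (key m hm)
    have h2 := key m⁻¹ (M.inv_mem hm)
    rw [← cj_le_cj (g := m), cj_cj_inv] at h2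
    exact h2
  have hDO : D ≤ normalizer (OO H : Set G) := hDH.trans (le_normalizer_OO H)
  obtain ⟨T, hT, hMT⟩ := exists_syl_ge (h.two M hM) (le_sup_right : M ≤ (OO H ⊔ D) ⊔ M)
  have hJn : (OO H ⊔ D) ⊔ M ≤ normalizer ((OO H ⊔ D : Subgroup G) : Set G) := sup_le le_normalizer h1
  have hTJ : Syl (T ⊓ (OO H ⊔ D)) (OO H ⊔ D) := LB.syl_inf_normal hT le_sup_left hJn
  -- `D` is Sylow in `O D`
  have hDJ : Syl D (OO H ⊔ D) := by
    refine ⟨le_sup_right, hD2, fun h2 => ?_⟩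
    obtain ⟨R, hR, hDR⟩ := exists_syl_ge hD2 (le_sup_right : D ≤ OO H ⊔ D)
    have h3 : R = D := by
      refine le_antisymm (fun r hr => ?_) hDR
      obtain ⟨o, ho, d, hd, rfl⟩ := LB.exists_mul_of_mem_sup hDO (hR.1 hr)
      have h4 : o ∈ R := by
        have := R.mul_mem hr (R.inv_mem (hDR hd))
        rwa [mul_inv_cancel_right] at this
      rw [eq_one_of_mem_odd hR.2.1 (odd_OO H) h4 ho, one_mul]
      exact hd
    rw [h3] at hR
    exact hR.2.2 h2
  obtain ⟨j, hj, hjT⟩ := hDJ.exists_conj hTJ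
  obtain ⟨o, ho, d, hd, rfl⟩ := LB.exists_mul_of_mem_sup hDO hj
  rw [cj_mul, mem_normalizer_iff_cj.1 (le_normalizer hd)] at hjT
  -- the members `cj o K`
  have hDS : ∀ K ∈ F, cj o K ≤ T := fun K hK => by
    have h2 : cj o K ≤ cj o D := cj_mono o (le_sSup hK)
    rw [hjT] at h2
    exact h2.trans inf_le_left
  obtain ⟨S', hS', hTS'⟩ := exists_top hT.2.1
  have h2 : cj o '' F = Phi Om S' := by
    refine Set.eq_of_subset_of_ncard_le ?_ ?_ (Set.toFinite _)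
    · rintro _ ⟨K, hK, rfl⟩
      exact ⟨h.hO K (hF hK) o, (hDS K hK).trans hTS'⟩
    · rw [Set.ncard_image_of_injective _ (cj_injective o), ← ncard_Phi_eq h.hO hS hS']
      exact hn
  have h3 : M ∈ Phi Om S' := ⟨hM, hMT.trans hTS'⟩
  rw [← h2] at h3
  obtain ⟨K, hK, rfl⟩ := h3
  exact hcon K hK (h.adj_conj_core (hF hK) (hFH K hK) ho).conn.symm

end RW

end Cfsg.Agent.Cit.CV1
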