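import Cfsg.Agent.Cit.Nil.CV1.Basic
import Cfsg.Agent.Cit.OneBasic

/-!
# (6b)(CV), rank one: the corollary

`one_of_r1` : if `G` has a normal non-abelian simple subgroup `F` with `C_G(F) = 1`, `O(G) = 1`, and `R1 Om ⊤` holds,
then `One Om`: a 2-subgroup contains at most one member.
-/

set_option autoImplicit false
set_option linter.style.haveILetI false
set_option linter.unusedSectionVars false

namespace Cfsg.Agent.Cit.CV1

open Subgroup Cfsg Cit Tau CV

variable {G : Type*} [Group G] [Finite G] {Om : Set (Subgroup G)} {U : Subgroup G → Subgroup G}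
  {B F K L M N S T : Subgroup G} {a b e g s t u v w x y z : G}

/-- a non-trivial subgroup normalised by `F` contains `F` -/
theorem simple_le (hF : F.Normal) (hs : IsSimpleGroup F) (hc : centralizer (F : Set G) = ⊥) (hB : B ≠ ⊥)
    (hn : F ≤ normalizer (B : Set G)) : F ≤ B := by
  haveI : (B.subgroupOf F).Normal := by
    rw [← inf_subgroupOf_right]
    refine (normal_subgroupOf_iff_le_normalizer inf_le_right).2 ?_
    intro f hf
    rw [mem_normalizer_iff]
    intro b
    rw [mem_inf, mem_inf]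
    constructor
    · rintro ⟨h1, h2⟩
      exact ⟨(mem_normalizer_iff.1 (hn hf) b).1 h1, F.mul_mem (F.mul_mem hf h2) (F.inv_mem hf)⟩
    · rintro ⟨h1, h2⟩
      refine ⟨(mem_normalizer_iff.1 (hn hf) b).2 h1, ?_⟩
      have := F.mul_mem (F.mul_mem (F.inv_mem hf) h2) hf
      have e : f⁻¹ * (f * b * f⁻¹) * f = b := by group
      rwa [e] at this
  rcases hs.eq_bot_or_eq_top_of_normal (B.subgroupOf F) inferInstance with h | h
  · exfalso
    apply hB
    rw [eq_bot_iff, ← hc]
    intro b hb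
    rw [mem_centralizer_iff]
    intro f hf
    have h1 : f * b * f⁻¹ * b⁻¹ ∈ F := by
      have h2 := F.mul_mem hf (hF.conj_mem _ (F.inv_mem hf) b)
      have e : f * (b * f⁻¹ * b⁻¹) = f * b * f⁻¹ * b⁻¹ := by group
      rwa [e] at h2
    have h2 : f * b * f⁻¹ * b⁻¹ ∈ B := B.mul_mem ((mem_normalizer_iff.1 (hn hf) b).1 hb) (B.inv_mem hb)
    have h3 : (⟨f * b * f⁻¹ * b⁻¹, h1⟩ : F) ∈ B.subgroupOf F := h2
    rw [h, mem_bot] at h3
    have h4 : f * b * f⁻¹ * b⁻¹ = 1 := congrArg Subtype.val h3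
    rw [mul_inv_eq_one, mul_inv_eq_iff_eq_mul] at h4
    exact h4
  · exact subgroupOf_eq_top.1 h

theorem le_of_not_dvd {P Q : Subgroup G} (hP : IsPGroup 2 P) (h : ¬ 2 ∣ Q.relIndex P) : P ≤ Q := by
  haveI : Fact (Nat.Prime 2) := ⟨Nat.prime_two⟩
  rw [← relIndex_eq_one]
  obtain ⟨k, hk⟩ := IsPGroup.iff_card.1 hP
  have h1 : Q.relIndex P ∣ 2 ^ k := by rw [← hk]; exact relIndex_dvd_card Q P
  obtain ⟨j, -, hj⟩ := (Nat.dvd_prime_pow Nat.prime_two).1 h1
  rcases Nat.eq_zero_or_pos j with h2 | h2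
  · rw [hj, h2, pow_zero]
  · exact absurd (by rw [hj]; exact dvd_pow_self 2 h2.ne') h

/-- the block of `K` -/
def blk (Om : Set (Subgroup G)) (K : Subgroup G) : Subgroup G := sSup {L | Conn Om ⊤ K L}

theorem RW.one_of_r1 (w : RW Om U) (hO : OO (⊤ : Subgroup G) = ⊥) (hF : F.Normal) (hs : IsSimpleGroup F)
    (hna : ¬ IsMulCommutative F) (hc : centralizer (F : Set G) = ⊥) (hR : R1 Om ⊤) : One Om := by
  refine ⟨w.hyp, fun S hS K hK L hL => ?_⟩
  have hKS := le_of_not_dvd (w.two K hK.1) hK.2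
  have hLS := le_of_not_dvd (w.two L hL.1) hL.2
  by_contra hne
  have ho := w.orth_of_two hS hK.1 hKS hL.1 hLS hne
  have hncon := hR K hK.1 L hL.1 le_top le_top ho
  -- not connected members commute
  have hcom : ∀ A ∈ Om, ∀ B ∈ Om, ¬ Conn Om ⊤ A B → ∀ x ∈ A, ∀ y ∈ B, x * y = y * x := by
    intro A hA B hB hn x hx y hy
    have h1 := comm_mem_of_not_conn hA le_top hB le_top hn hx hy
    rw [hO, mem_bot, mul_inv_eq_one, mul_inv_eq_iff_eq_mul] at h1
    exact h1
  have hmem : ∀ {A B : Subgroup G}, A ∈ Om → Conn Om ⊤ A B → B ∈ Om := fun hA h => (h.mem ⟨hA, le_top⟩).1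
  -- blocks are normalised by all members
  have hnorm : ∀ A ∈ Om, sSup Om ≤ normalizer (blk Om A : Set G) := by
    intro A hA
    refine sSup_le fun M hM => ?_
    by_cases hAM : Conn Om ⊤ A M
    · exact (show M ≤ blk Om A from le_sSup hAM).trans le_normalizer
    · have h1 : M ≤ centralizer (blk Om A : Set G) := by
        rw [le_centralizer_iff]
        refine sSup_le fun B hB => ?_
        apply le_centralizer_of_comm
        exact hcom M hM B (hmem hA hB) fun h2 => hAM (hB.trans h2.symm)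
      exact h1.trans (centralizer_le_normalizer _)
  have hOmn : (sSup Om : Subgroup G).Normal := by
    rw [← normalizer_eq_top_iff, eq_top_iff]
    have key : ∀ g : G, sSup Om ≤ cj g (sSup Om) := by
      intro g
      refine sSup_le fun A hA => ?_
      have h1 := cj_mono g (le_sSup (w.hyp.conj A hA g⁻¹))
      rwa [cj_cj_inv] at h1
    intro g _
    rw [mem_normalizer_iff_cj]
    refine le_antisymm ?_ (key g)
    have h1 := cj_mono g (key g⁻¹)
    rwa [cj_cj_inv] at h1
  have hFOm : F ≤ sSup Om := by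
    refine simple_le hF hs hc ?_ ?_
    · intro h1
      have h2 : zz K ∈ sSup Om := le_sSup hK.1 (w.hyp.zz_mem hK.1)
      rw [h1, mem_bot] at h2
      exact w.hyp.zz_ne hK.1 h2
    · rw [normalizer_eq_top_iff.2 hOmn]; exact le_top
  have hFb : ∀ A ∈ Om, F ≤ blk Om A := by
    intro A hA
    refine simple_le hF hs hc ?_ (hFOm.trans (hnorm A hA))
    intro h1
    have h2 : zz A ∈ blk Om A := le_sSup (show A ∈ {L | Conn Om ⊤ A L} from Conn.rfl) (w.hyp.zz_mem hA)
    rw [h1, mem_bot] at h2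
    exact w.hyp.zz_ne hA h2
  apply hna
  have h1 : blk Om K ≤ centralizer (blk Om L : Set G) := by
    refine sSup_le fun A hA => ?_
    rw [le_centralizer_iff]
    refine sSup_le fun B hB => ?_
    apply le_centralizer_of_comm
    exact hcom A (hmem hK.1 hA) B (hmem hL.1 hB) fun h2 => hncon ((hA.trans h2).trans hB.symm)
  refine ⟨⟨fun x y => Subtype.ext ?_⟩⟩
  exact (mem_centralizer_iff.1 (h1 (hFb K hK.1 x.2)) y (hFb L hL.1 y.2)).symm

end Cfsg.Agent.Cit.CV1
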