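import Cfsg.Agent.Cit.Nil.CV1.NZero

/-!
# (6b)(CV), rank one: the subgroup generated by the `zz K`, `K` without T-partner

`FF Om U S` : the members of `S` without T-partner; `WF Om U S` : generated by their involutions.
`wf_closed` : `WF Om U S` is strongly closed in `S`.
-/

set_option autoImplicit false
set_option linter.style.haveILetI false
set_option linter.unusedSectionVars false

namespace Cfsg.Agent.Cit.CV1

open Subgroup Cfsg Cit Tau CV

variable {G : Type*} [Group G]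

/-- the members of `S` with a T-partner -/
def II (Om : Set (Subgroup G)) (U : Subgroup G → Subgroup G) (S : Subgroup G) : Set (Subgroup G) :=
  {K | K ∈ Phi Om S ∧ ∃ N ∈ Om, TT U K (zz N)}

/-- the members of `S` without T-partner -/
def FF (Om : Set (Subgroup G)) (U : Subgroup G → Subgroup G) (S : Subgroup G) : Set (Subgroup G) :=
  {K | K ∈ Phi Om S ∧ ∀ N ∈ Om, ¬ TT U K (zz N)}

/-- generated by the involutions of the members without T-partner -/
def WF (Om : Set (Subgroup G)) (U : Subgroup G → Subgroup G) (S : Subgroup G) : Subgroup G :=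
  closure {z | ∃ K ∈ FF Om U S, zz K = z}

variable [Finite G] {Om : Set (Subgroup G)} {U : Subgroup G → Subgroup G} {K L M N S S' T : Subgroup G}
  {a b e g s t u v w x y z : G}

namespace LW

variable (h : LW Om U)
include h

theorem no_tt_cj (hK : K ∈ Om) (hn : ∀ N ∈ Om, ¬ TT U K (zz N)) (g : G) : ∀ N ∈ Om, ¬ TT U (cj g K) (zz N) := by
  intro N hN ht
  have h1 := h.tt_cj (h.hO K hK g) ht g⁻¹
  rw [cj_inv_cj, ← h.hyp.zz_cj hN] at h1
  exact hn _ (h.hO N hN _) h1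

theorem FF_cj (g : G) : FF Om U (cj g S) = cj g '' FF Om U S := by
  ext K
  constructor
  · rintro ⟨hK, hn⟩
    rw [Phi_cj h.hO] at hK
    obtain ⟨L, hL, rfl⟩ := hK
    refine ⟨L, ⟨hL, ?_⟩, rfl⟩
    have := h.no_tt_cj (h.hO L hL.1 g) hn g⁻¹
    rwa [cj_inv_cj] at this
  · rintro ⟨L, ⟨hL, hn⟩, rfl⟩
    refine ⟨?_, h.no_tt_cj hL.1 hn g⟩
    rw [Phi_cj h.hO]
    exact ⟨L, hL, rfl⟩

theorem WF_cj (g : G) : WF Om U (cj g S) = cj g (WF Om U S) := by
  have key : ∀ (g : G) (S : Subgroup G), cj g (WF Om U S) ≤ WF Om U (cj g S) := by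
    intro g S
    have h1 : WF Om U S ≤ cj g⁻¹ (WF Om U (cj g S)) := by
      rw [WF, closure_le]
      rintro _ ⟨K, hK, rfl⟩
      have h2 := conj_mem_cj (g := g⁻¹) (K := WF Om U (cj g S))
        (subset_closure ⟨cj g K, by rw [h.FF_cj]; exact ⟨K, hK, rfl⟩, rfl⟩)
      rw [h.hyp.zz_cj hK.1.1] at h2
      have h3 : g⁻¹ * (g * zz K * g⁻¹) * g⁻¹⁻¹ = zz K := by group
      rwa [h3] at h2
    have h2 := cj_mono g h1
    rwa [cj_cj_inv] at h2
  refine le_antisymm ?_ (key g S)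
  have h1 := cj_mono g (key g⁻¹ (cj g S))
  rwa [cj_cj_inv, cj_inv_cj] at h1

theorem WF_le : WF Om U S ≤ S := by
  rw [WF, closure_le]
  rintro _ ⟨K, hK, rfl⟩
  exact hK.1.2 (h.hyp.zz_mem hK.1.1)

/-- a member without T-partner lies in every Sylow subgroup containing its involution -/
theorem mem_FF (hS : Syl S ⊤) (hK : K ∈ Om) (hn : ∀ N ∈ Om, ¬ TT U K (zz N)) (hz : zz K ∈ S) : K ∈ FF Om U S :=
  ⟨h.mem_Phi_of_not_tt hS hK hz fun L hL ht => hn L hL.1 (h.tt_symm hL.1 hK ht), hn⟩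

theorem FF_eq (hS : Syl S ⊤) (hS' : Syl S' ⊤) (hh : ∀ K ∈ FF Om U S, zz K ∈ S') : FF Om U S = FF Om U S' := by
  obtain ⟨g, -, hg⟩ := hS.exists_conj hS'
  refine Set.eq_of_subset_of_ncard_le (fun K hK => h.mem_FF hS' hK.1.1 hK.2 (hh K hK)) ?_ (Set.toFinite _)
  rw [← hg, h.FF_cj, Set.ncard_image_of_injective _ (cj_injective g)]

/-- `WF` centralises the members -/
theorem WF_comm (hS : Syl S ⊤) (hu : u ∈ WF Om U S) (hK : K ∈ Phi Om S) (hx : x ∈ K) : x * u = u * x := by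
  have h1 : WF Om U S ≤ centralizer {x} := by
    rw [WF, closure_le]
    rintro _ ⟨L, hL, rfl⟩
    refine mem_centralizer_singleton_iff.2 ?_
    by_cases hKL : K = L
    · subst hKL
      exact (h.hyp.comm_zz hK.1 (le_normalizer hx)).symm
    · exact ((h.orth_of_Phi hS hK hL.1 hKL).2 x hx _ (h.hyp.zz_mem hL.1.1)).symm
  exact (mem_centralizer_singleton_iff.1 (h1 hu)).symm

theorem WF_n0 (hS : Syl S ⊤) (hu : u ∈ WF Om U S) : N0 Om S u :=
  ⟨h.WF_le hu, fun _ hK => mem_normalizer_iff_cj.1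
    (mem_normalizer_of_comm fun _ hk => (h.WF_comm hS hu hK hk).symm)⟩

/-- **`WF` is strongly closed** -/
theorem wf_closed (hS : Syl S ⊤) (hw : w ∈ WF Om U S) (hg : g * w * g⁻¹ ∈ S) : g * w * g⁻¹ ∈ WF Om U S := by
  obtain ⟨u, hu⟩ : ∃ u, u = g * w * g⁻¹ := ⟨_, rfl⟩
  rw [← hu] at hg ⊢
  have hS1 := syl_cj_top hS g
  have hu1 : u ∈ WF Om U (cj g S) := by rw [h.WF_cj, hu]; exact conj_mem_cj hw
  have hn : N0 Om S u := h.closure' hS1 hS (h.WF_n0 hS1 hu1) hg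
  have hc : WF Om U S ≤ centralizer {u} := by
    rw [WF, closure_le]
    rintro _ ⟨L, hL, rfl⟩
    exact mem_centralizer_singleton_iff.2 (h.hyp.comm_zz hL.1.1 (mem_normalizer_iff_cj.2 (hn.2 L hL.1))).symm
  have hc1 : WF Om U (cj g S) ≤ centralizer {u} := by
    rw [WF, closure_le]
    rintro _ ⟨L, hL, rfl⟩
    exact mem_centralizer_singleton_iff.2 (h.WF_comm hS1 hu1 hL.1 (h.hyp.zz_mem hL.1.1))
  obtain ⟨R, hR, hWR⟩ := exists_syl_ge (hS.2.1.to_le h.WF_le) hc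
  obtain ⟨R1, hR1, hWR1⟩ := exists_syl_ge (hS1.2.1.to_le h.WF_le) hc1
  obtain ⟨c, hcu, rfl⟩ := hR1.exists_conj hR
  obtain ⟨S2, hS2, hRS⟩ := exists_top hR.2.1
  have hS3 := syl_cj_top hS1 c
  have e1 : FF Om U S = FF Om U S2 :=
    h.FF_eq hS hS2 fun K hK => hRS (hWR (subset_closure ⟨K, hK, rfl⟩))
  have e2 : FF Om U (cj c (cj g S)) = FF Om U S2 := by
    refine h.FF_eq hS3 hS2 fun K hK => hRS ?_
    have h3 : zz K ∈ WF Om U (cj c (cj g S)) := subset_closure ⟨K, hK, rfl⟩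
    rw [h.WF_cj] at h3
    exact cj_mono c hWR1 h3
  have e3 : WF Om U S = WF Om U (cj c (cj g S)) := by rw [WF, WF, e1, e2]
  rw [e3, h.WF_cj, mem_cj]
  have h3 : c⁻¹ * u * c = u := by
    rw [mul_assoc, ← mem_centralizer_singleton_iff.1 hcu, inv_mul_cancel_left]
  rw [h3]
  exact hu1

end LW

end Cfsg.Agent.Cit.CV1
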