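import Cfsg.Agent.Cit.Nil.CV1.Five
import Cfsg.Agent.Cit.Nil.CV1.WF
import Cfsg.Agent.TwoFusion.ClosedCommutator

/-!
# (6b)(CV), rank one: the two final arguments of the T-type end

`false_of_comm` : `zz K^g` commutes with `zz L` for all `g`;
`false_of_closed` : a strongly closed subgroup `P ≠ 1` with `P ∩ WF = 1`, and a member without T-partner.
-/

set_option autoImplicit false
set_option linter.style.haveILetI false
set_option linter.unusedSectionVars false

namespace Cfsg.Agent.Cit.CV1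

open Subgroup Cfsg Cit Tau CV

universe u

variable {G : Type u} [Group G] [Finite G] {Om : Set (Subgroup G)} {U : Subgroup G → Subgroup G}
  {K L M N P S S' T : Subgroup G} {a b e g s t v w x y z : G}

theorem oddCore_eq_bot_of_OO (h : OO (⊤ : Subgroup G) = ⊥) : oddCore G = ⊥ := by
  have h0 : (oddCore G).Normal := Lib.Cores.pPrimeCore_normal 2
  rw [eq_bot_iff, ← h]
  refine le_OO le_top (by rw [normalizer_eq_top_iff.2 h0]) ?_
  intro h2
  have h3 := Lib.Cores.pPrimeCore_coprime (G := G) 2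
  have h4 := Nat.dvd_gcd h2 (dvd_refl 2)
  rw [h3] at h4
  omega

theorem Red.false_of_comm (r : Red Om U) (hT : LemT Om U) (hR : ¬ R1 Om ⊤) (hK : K ∈ Om) (hL : L ∈ Om)
    (h : ∀ g : G, g * zz K * g⁻¹ * zz L = zz L * (g * zz K * g⁻¹)) : False := by
  have hne : normalClosure ({zz K} : Set G) ≠ ⊥ := by
    intro hh
    have h1 : zz K ∈ normalClosure ({zz K} : Set G) := subset_normalClosure rfl
    rw [hh, mem_bot] at h1
    exact r.hyp.zz_ne hK h1
  have h1 := (r.normal hT hR (N := normalClosure ({zz K} : Set G)) normalClosure_normal hne).2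
  have h2 : normalClosure ({zz K} : Set G) ≤ centralizer {zz L} := by
    rw [normalClosure, closure_le]
    intro x hx
    rw [Group.mem_conjugatesOfSet_iff] at hx
    obtain ⟨y, hy, hyx⟩ := hx
    rw [Set.mem_singleton_iff] at hy
    obtain ⟨c, hc⟩ := isConj_iff.1 hyx
    rw [hy] at hc
    rw [← hc]
    exact mem_centralizer_singleton_iff.2 (h c)
  have h3 : zz L ∈ centralizer ((normalClosure ({zz K} : Set G) : Subgroup G) : Set G) := by
    rw [mem_centralizer_iff]
    exact fun x hx => mem_centralizer_singleton_iff.1 (h2 hx)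
  rw [h1, mem_bot] at h3
  exact r.hyp.zz_ne hL h3

theorem Red.false_of_closed (r : Red Om U) (hT : LemT Om U) (hR : ¬ R1 Om ⊤) (hS : Syl S ⊤) (hP : P ≤ S)
    (hcl : ∀ x ∈ P, ∀ g : G, g * x * g⁻¹ ∈ S → g * x * g⁻¹ ∈ P) (hne : P ≠ ⊥) (hPW : P ⊓ WF Om U S = ⊥)
    (hF : L ∈ FF Om U S) : False := by
  haveI : Fact (Nat.Prime 2) := ⟨Nat.prime_two⟩
  have h := r.lw hT
  have hS2 : ¬ 2 ∣ S.index := by
    have := hS.2.2
    rwa [relIndex_top_right] at this
  set Q : Sylow 2 G := hS.2.1.toSylow hS2 with hQ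
  have hQS : (Q : Subgroup G) = S := rfl
  have h1 := TwoFusion.ClosedCommutator.commutator_le Q P (WF Om U S) hPW ⟨hP, hcl⟩
    ⟨h.WF_le, fun x hx g hg => h.wf_closed hS hx hg⟩
  rw [oddCore_eq_bot_of_OO r.core, le_bot_iff, commutator_eq_bot_iff_le_centralizer] at h1
  have hne' : normalClosure (P : Set G) ≠ ⊥ := by
    intro hh
    apply hne
    rw [eq_bot_iff, ← hh]
    exact le_normalClosure
  obtain ⟨h2, h3⟩ := r.normal hT hR (N := normalClosure (P : Set G)) normalClosure_normal hne'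
  have h4 : zz L ∈ centralizer ((normalClosure (P : Set G) : Subgroup G) : Set G) := by
    have h5 : zz L ∈ WF Om U S := subset_closure ⟨L, hF, rfl⟩
    rw [mem_centralizer_iff]
    intro x hx
    exact (mem_centralizer_iff.1 (h1 hx) (zz L) (subset_normalClosure h5)).symm
  rw [h3, mem_bot] at h4
  exact r.hyp.zz_ne hF.1.1 h4

end Cfsg.Agent.Cit.CV1
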