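import Cfsg.Agent.Cit.Nil.CV1.Basic

/-!
# (6b)(CV), rank one: local facts

`LW Om U` : the world with R1 for the centralisers of all elements `≠ 1` and LEMMA T.
`norm_mem` = (M), `tt_eq` = (beta), `mem_Phi_of_not_tt` = (delta), `tt_two` = (eps).
-/

set_option autoImplicit false
set_option linter.style.haveILetI false
set_option linter.unusedSectionVars false

namespace Cfsg.Agent.Cit.CV1

open Subgroup Cfsg Cit Tau CV

variable {G : Type*} [Group G]

/-- the world with R1 for proper centralisers and LEMMA T -/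
structure LW (Om : Set (Subgroup G)) (U : Subgroup G → Subgroup G) : Prop extends RW Om U where
  r1 : ∀ e : G, e ≠ 1 → R1 Om (centralizer {e})
  lt : LemT Om U

variable {Om : Set (Subgroup G)} {U : Subgroup G → Subgroup G} {H K K₁ K₂ L M N N' S T : Subgroup G}
  {a b e g s t u v w x y z : G}

theorem inv_ne_of_four (hw : orderOf w = 4) : w⁻¹ ≠ w := by
  intro hh
  have h1 : w ^ 2 = 1 := by rw [pow_two]; nth_rw 1 [← hh]; exact inv_mul_cancel w
  have h2 := orderOf_dvd_of_pow_eq_one h1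
  rw [hw] at h2
  omega

theorem le_centralizer_singleton (h : ∀ k ∈ K, k * e = e * k) : K ≤ centralizer {e} :=
  fun k hk => mem_centralizer_singleton_iff.2 (h k hk)

theorem mem_normalizer_of_comm (h : ∀ k ∈ K, s * k = k * s) : s ∈ normalizer (K : Set G) := by
  rw [mem_normalizer_iff_cj]
  ext x
  rw [mem_cj]
  constructor
  · intro hx
    have h1 := h _ hx
    have h2 : x = s * (s⁻¹ * x * s) * s⁻¹ := by group
    rw [h2, h1, mul_inv_cancel_right]
    exact hx
  · intro hx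
    have h1 := h _ hx
    have h2 : s⁻¹ * x * s = x := by rw [mul_assoc, ← h1, inv_mul_cancel_left]
    rw [h2]
    exact hx

/-- two involutions whose product has order dividing four -/
theorem dih {s z : G} (hss : s * s = 1) (hzz : z * z = 1) (hc : z * (s * z * s) = s * z * s * z) :
    z * (s * z * s) * (z * (s * z * s)) = 1 ∧ s * (z * (s * z * s)) = z * (s * z * s) * s ∧
      z * (z * (s * z * s)) = z * (s * z * s) * z ∧ z * s * z = s * (z * (s * z * s)) := by
  have h1 : s * (z * (s * z * s)) = z * s * z := by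
    rw [hc]
    calc s * (s * z * s * z) = (s * s) * z * s * z := by group
      _ = z * s * z := by rw [hss, one_mul]
  have h2 : z * (s * z * s) * s = z * s * z := by
    calc z * (s * z * s) * s = z * s * z * (s * s) := by group
      _ = z * s * z := by rw [hss, mul_one]
  have h3 : z * (z * (s * z * s)) = s * z * s := by rw [← mul_assoc, hzz, one_mul]
  refine ⟨?_, by rw [h1, h2], ?_, h1.symm⟩
  · calc z * (s * z * s) * (z * (s * z * s)) = z * (s * z * s) * (s * z * s * z) := by rw [hc]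
      _ = z * s * z * (s * s) * z * s * z := by group
      _ = z * s * (z * z) * s * z := by rw [hss]; group
      _ = z * (s * s) * z := by rw [hzz]; group
      _ = 1 := by rw [hss, mul_one, hzz]
  · rw [h3, hc]
    calc s * z * s = s * z * s * (z * z) := by rw [hzz, mul_one]
      _ = s * z * s * z * z := by group

namespace LW

variable [Finite G] (h : LW Om U)
include h

theorem not_mem_OO {t : G} (ht : t ≠ 1) (ht2 : t * t = 1) : t ∉ OO H := fun hh =>
  ht (eq_one_of_odd (odd_OO H) hh (a := 1) (by rw [pow_one, pow_two]; exact ht2))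

theorem tt_unique (hK : K ∈ Om) (hN : N ∈ Om) (ht : TT U K (zz N)) (hL : L ∈ Om) (hz : zz L = zz K) : L = K := by
  obtain ⟨h1, v, hv, hv4, hne⟩ := ht
  exact (h.lt K hK N hN v hv hv4 h1 hne).1 L hL hz

theorem tt_unique' (hK : K ∈ Om) (hN : N ∈ Om) (ht : TT U K (zz N)) (hL : L ∈ Om) (hz : zz L = zz N) : L = N := by
  obtain ⟨h1, v, hv, hv4, hne⟩ := ht
  exact (h.lt K hK N hN v hv hv4 h1 hne).2 L hL hz

/-- an element commuting with `zz K` normalises `K` if `K` is the only member over `zz K` -/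
theorem norm_of_unique (hK : K ∈ Om) (hu : ∀ L ∈ Om, zz L = zz K → L = K) (hg : g * zz K = zz K * g) :
    g ∈ normalizer (K : Set G) := by
  rw [mem_normalizer_iff_cj]
  refine hu _ (h.hO K hK g) ?_
  rw [h.hyp.zz_cj hK, hg, mul_inv_cancel_right]

theorem tt_norm (hK : K ∈ Om) (hN : N ∈ Om) (ht : TT U K (zz N)) : zz N ∈ normalizer (K : Set G) :=
  h.norm_of_unique hK (fun _ hL hz => h.tt_unique hK hN ht hL hz) ht.1

theorem tt_inv (hK : K ∈ Om) (hN : N ∈ Om) (ht : TT U K (zz N)) (hv : v ∈ U K) (hv4 : orderOf v = 4) :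
    zz N * v * (zz N)⁻¹ = v⁻¹ := by
  rcases h.conj_or hK (h.tt_norm hK hN ht) hv hv4 with h1 | h1
  · exfalso
    refine h.not_tt_of_comm hK hN (h.comm_of_zz hK hN hv hv4 ?_) ht
    rwa [mul_inv_eq_iff_eq_mul] at h1
  · exact h1

theorem zz_zz (hK : K ∈ Om) : zz K * zz K = 1 := h.hyp.zz_mul hK

theorem sq (hK : K ∈ Om) (hv : v ∈ U K) (hv4 : orderOf v = 4) : v * v = zz K := h.sq_eq hK hv hv4

theorem inv_sq (hK : K ∈ Om) (hv : v ∈ U K) (hv4 : orderOf v = 4) : v⁻¹ * v⁻¹ = zz K := by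
  rw [← mul_inv_rev, h.sq hK hv hv4, h.hyp.zz_inv hK]

/-- **(M)** -/
theorem norm_mem (hT : IsPGroup 2 T) (hK : K ∈ Om) (hKT : K ≤ T) (hN : N ∈ Om) (hs : zz N ∈ T) :
    zz N ∈ normalizer (K : Set G) := by
  by_contra hne
  obtain ⟨s, hsd⟩ : ∃ s, s = zz N := ⟨_, rfl⟩
  obtain ⟨z, hzd⟩ : ∃ z, z = zz K := ⟨_, rfl⟩
  have hss : s * s = 1 := by rw [hsd]; exact h.zz_zz hN
  have hzz : z * z = 1 := by rw [hzd]; exact h.zz_zz hK
  have hsi : s⁻¹ = s := inv_eq_of_mul_eq_one_right hss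
  have hzi : z⁻¹ = z := inv_eq_of_mul_eq_one_right hzz
  have hK' : cj s K ∈ Om := h.hO K hK s
  have hzK' : zz (cj s K) = s * z * s := by rw [h.hyp.zz_cj hK, hsi, hzd]
  have hK'T : cj s K ≤ T := by
    have h1 := cj_mono s hKT
    rwa [mem_normalizer_iff_cj.1 (le_normalizer (show s ∈ T by rw [hsd]; exact hs))] at h1
  have hKK' : K ≠ cj s K := fun hh => hne (by rw [← hsd]; exact mem_normalizer_iff_cj.2 hh.symm)
  have ho : Orth K (cj s K) := h.orth_of_two hT hK hKT hK' hK'T hKK'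
  have hzK : z ∈ K := by rw [hzd]; exact h.hyp.zz_mem hK
  have hz'K : s * z * s ∈ cj s K := by rw [← hzK']; exact h.hyp.zz_mem hK'
  by_cases hz' : s * z * s = z
  · have hc : s * z = z * s := by
      calc s * z = s * z * s * s := by rw [mul_assoc, hss, mul_one]
        _ = z * s := by rw [hz']
    by_cases ht : TT U K (zz N)
    · exact hne (h.tt_norm hK hN ht)
    · rcases h.comm_of_not_tt hK hN (by rw [← hsd, ← hzd]; exact hc) ht with h1 | h1
      · exact hne (by rw [← h1]; exact le_normalizer (h.hyp.zz_mem hK))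
      · exact hne (mem_normalizer_of_comm fun k hk => (h1 k hk _ (h.hyp.zz_mem hN)).symm)
  · have hc := ho.2 z hzK _ hz'K
    obtain ⟨hee, hse, hze, hzsz⟩ := dih hss hzz hc
    obtain ⟨e, hed⟩ : ∃ e, e = z * (s * z * s) := ⟨_, rfl⟩
    rw [← hed] at hee hse hze hzsz
    have he1 : e ≠ 1 := by
      intro hh
      apply hz'
      rw [hed] at hh
      have h1 := eq_inv_of_mul_eq_one_right hh
      rwa [hzi] at h1
    have hei : e⁻¹ = e := inv_eq_of_mul_eq_one_right hee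
    -- `M = cj z N`
    have hM : cj z N ∈ Om := h.hO N hN z
    have hzM : zz (cj z N) = s * e := by rw [h.hyp.zz_cj hN, ← hsd, hzi, hzsz]
    have hsN : s ∈ N := by rw [hsd]; exact h.hyp.zz_mem hN
    have hseM : s * e ∈ cj z N := by rw [← hzM]; exact h.hyp.zz_mem hM
    have hNM : N ≠ cj z N := by
      intro hh
      have h1 : zz N = zz (cj z N) := by rw [← hh]
      rw [hzM, ← hsd] at h1
      exact he1 (mul_eq_left.1 h1.symm)
    by_cases ht : TT U N (zz (cj z N))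
    · -- both `s e` inverts `V_N`, `s` centralises
      obtain ⟨w, hw, hw4⟩ := h.exists_v hN
      obtain ⟨v, hv, hv4⟩ := h.exists_v hK
      have h1 := h.tt_inv hN hM ht hw hw4
      rw [hzM] at h1
      have hsw : s * w = w * s := by rw [hsd]; exact (h.hyp.comm_zz hN (le_normalizer (h.vch.le N hN hw))).symm
      obtain ⟨q, hqd⟩ : ∃ q, q = v * (s * v * s⁻¹) := ⟨_, rfl⟩
      have hvv : v * v = z := by rw [hzd]; exact h.sq hK hv hv4
      have hvc : v * (s * v * s⁻¹) = (s * v * s⁻¹) * v := ho.2 v (h.vch.le K hK hv) _ (conj_mem_cj (h.vch.le K hK hv))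
      have hqq : q * q = e := by
        calc q * q = v * ((s * v * s⁻¹) * v) * (s * v * s⁻¹) := by rw [hqd]; group
          _ = (v * v) * (s * (v * v) * s⁻¹) := by rw [← hvc]; group
          _ = e := by rw [hvv, hsi, ← hed]
      have hsq : s * q = q * s := by
        calc s * q = (s * v * s⁻¹) * ((s * s) * v * (s * s)⁻¹) * s := by rw [hqd]; group
          _ = (s * v * s⁻¹) * v * s := by rw [hss]; group
          _ = q * s := by rw [← hvc, ← hqd]
      have hqN : q ∈ normalizer (N : Set G) := by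
        refine h.norm_of_unique hN (fun L hL hz => h.tt_unique hN hM ht hL hz) ?_
        rw [← hsd]; exact hsq.symm
      have h2 : e * w * e⁻¹ = w := by
        rw [← hqq]
        rcases h.conj_or hN hqN hw hw4 with h3 | h3
        · calc q * q * w * (q * q)⁻¹ = q * (q * w * q⁻¹) * q⁻¹ := by group
            _ = w := by rw [h3, h3]
        · calc q * q * w * (q * q)⁻¹ = q * (q * w * q⁻¹) * q⁻¹ := by group
            _ = q * w⁻¹ * q⁻¹ := by rw [h3]
            _ = (q * w * q⁻¹)⁻¹ := by group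
            _ = w := by rw [h3, inv_inv]
      have h3 : s * e * w * (s * e)⁻¹ = w := by
        calc s * e * w * (s * e)⁻¹ = s * (e * w * e⁻¹) * s⁻¹ := by group
          _ = w := by rw [h2, hsw, mul_inv_cancel_right]
      rw [h3] at h1
      exact inv_ne_of_four hw4 h1.symm
    · have hcs : zz (cj z N) * zz N = zz N * zz (cj z N) := by
        rw [hzM, ← hsd, mul_assoc, ← hse]
      have hoNM : Orth N (cj z N) := by
        rcases h.comm_of_not_tt hN hM hcs ht with h1 | h1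
        · exact absurd h1 hNM
        · exact ⟨hNM, h1⟩
      have hNe : N ≤ centralizer {e} := by
        refine le_centralizer_singleton fun k hk => ?_
        have h1 := hoNM.2 k hk _ hseM
        have h2 : k * s = s * k := by rw [hsd]; exact h.hyp.comm_zz hN (le_normalizer hk)
        calc k * e = s⁻¹ * (s * k) * e := by group
          _ = s⁻¹ * (k * (s * e)) := by rw [← h2]; group
          _ = e * k := by rw [h1]; group
      have hMe : cj z N ≤ centralizer {e} := by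
        have h1 := cj_mono z hNe
        rw [cj_centralizer, hze, mul_inv_cancel_right] at h1
        exact h1
      have hKe : K ≤ centralizer {e} := by
        refine le_centralizer_singleton fun k hk => ?_
        have h1 := ho.2 k hk _ hz'K
        have h2 : k * z = z * k := by rw [hzd]; exact h.hyp.comm_zz hK (le_normalizer hk)
        calc k * e = (k * z) * (s * z * s) := by rw [hed]; group
          _ = z * (k * (s * z * s)) := by rw [h2]; group
          _ = e * k := by rw [h1, hed]; group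
      have a1 : Adj Om (centralizer {e}) K N := by
        refine adj_of_comm hK hKe hN hNe hzK hsN ?_
        have h1 : z * s * z⁻¹ * s⁻¹ = e := by
          rw [hzi, hzsz, hse, mul_inv_cancel_right]
        rw [h1]; exact h.not_mem_OO he1 hee
      have a2 : Adj Om (centralizer {e}) K (cj z N) := by
        refine adj_of_comm hK hKe hM hMe hzK hseM ?_
        have h1 : z * (s * e) * z⁻¹ * (s * e)⁻¹ = e := by
          calc z * (s * e) * z⁻¹ * (s * e)⁻¹ = (z * s) * (e * z⁻¹) * (s * e)⁻¹ := by group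
            _ = (z * s * z) * (e * e⁻¹) * s⁻¹ := by rw [hzi, ← hze]; group
            _ = s * e * s⁻¹ := by rw [hzsz]; group
            _ = e := by rw [hse, mul_inv_cancel_right]
        rw [h1]; exact h.not_mem_OO he1 hee
      exact h.r1 e he1 N hN _ hM hNe hMe hoNM (a1.symm.conn.trans a2.conn)

/-- **(beta)** -/
theorem tt_eq (hT : IsPGroup 2 T) (hK : K ∈ Om) (hKT : K ≤ T) (hL : L ∈ Om) (hLT : L ≤ T) (hN : N ∈ Om)
    (h1 : TT U K (zz N)) (h2 : TT U L (zz N)) : K = L := by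
  by_contra hne
  have ho := h.orth_of_two hT hK hKT hL hLT hne
  obtain ⟨v₁, hv₁, hv₁4⟩ := h.exists_v hK
  obtain ⟨v₂, hv₂, hv₂4⟩ := h.exists_v hL
  obtain ⟨w, hw, hw4⟩ := h.exists_v hN
  have i1 := h.tt_inv hK hN h1 hv₁ hv₁4
  have i2 := h.tt_inv hL hN h2 hv₂ hv₂4
  have j1 := h.tt_inv hN hK (h.tt_symm hK hN h1) hw hw4
  have j2 := h.tt_inv hN hL (h.tt_symm hL hN h2) hw hw4
  obtain ⟨s, hsd⟩ : ∃ s, s = zz N := ⟨_, rfl⟩
  obtain ⟨z₁, hz₁⟩ : ∃ z, z = zz K := ⟨_, rfl⟩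
  obtain ⟨z₂, hz₂⟩ : ∃ z, z = zz L := ⟨_, rfl⟩
  have hz12 : z₁ ≠ z₂ := by
    rw [hz₁, hz₂]
    intro hh
    exact hne (h.tt_unique hL hN h2 hK hh)
  rw [← hsd] at i1 i2
  rw [← hz₁] at j1
  rw [← hz₂] at j2
  have hz1K : z₁ ∈ K := by rw [hz₁]; exact h.hyp.zz_mem hK
  have hz2L : z₂ ∈ L := by rw [hz₂]; exact h.hyp.zz_mem hL
  have q1 : z₁ * z₁ = 1 := by rw [hz₁]; exact h.zz_zz hK
  have q2 : z₂ * z₂ = 1 := by rw [hz₂]; exact h.zz_zz hL
  have hc := ho.2 z₁ hz1K z₂ hz2L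
  obtain ⟨e, hed⟩ : ∃ e, e = z₁ * z₂ := ⟨_, rfl⟩
  have he1 : e ≠ 1 := by
    intro hh
    rw [hed] at hh
    have h3 := eq_inv_of_mul_eq_one_right hh
    rw [inv_eq_of_mul_eq_one_right q1] at h3
    exact hz12 h3.symm
  have hKe : K ≤ centralizer {e} := by
    refine le_centralizer_singleton fun k hk => ?_
    have h3 := ho.2 k hk z₂ hz2L
    have h4 : k * z₁ = z₁ * k := by rw [hz₁]; exact h.hyp.comm_zz hK (le_normalizer hk)
    rw [hed, ← mul_assoc, h4, mul_assoc, h3, mul_assoc]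
  have hLe : L ≤ centralizer {e} := by
    refine le_centralizer_singleton fun k hk => ?_
    have h3 := ho.2 z₁ hz1K k hk
    have h4 : k * z₂ = z₂ * k := by rw [hz₂]; exact h.hyp.comm_zz hL (le_normalizer hk)
    rw [hed, ← mul_assoc, ← h3, mul_assoc, h4, mul_assoc]
  -- `w` commutes with `e`
  have hwe : w * e = e * w := by
    have h3 : e * w * e⁻¹ = w := by
      calc e * w * e⁻¹ = z₁ * (z₂ * w * z₂⁻¹) * z₁⁻¹ := by rw [hed]; group
        _ = (z₁ * w * z₁⁻¹)⁻¹ := by rw [j2]; group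
        _ = w := by rw [j1, inv_inv]
    rw [mul_inv_eq_iff_eq_mul] at h3
    exact h3.symm
  have hP : cj w K ∈ Om := h.hO K hK w
  have hPe : cj w K ≤ centralizer {e} := by
    have h3 := cj_mono w hKe
    rwa [cj_centralizer, hwe, mul_inv_cancel_right] at h3
  have hss : s * s = 1 := by rw [hsd]; exact h.zz_zz hN
  have hzP : w * z₁ * w⁻¹ = z₁ * s := by
    have h3 : z₁ * w⁻¹ * z₁⁻¹ = w := by
      calc z₁ * w⁻¹ * z₁⁻¹ = (z₁ * w * z₁⁻¹)⁻¹ := by group
        _ = w := by rw [j1, inv_inv]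
    calc w * z₁ * w⁻¹ = (z₁ * w⁻¹ * z₁⁻¹) * z₁ * w⁻¹ := by rw [h3]
      _ = z₁ * (w⁻¹ * w⁻¹) := by group
      _ = z₁ * s := by rw [h.inv_sq hN hw hw4, hsd]
  have hsP : z₁ * s ∈ cj w K := by rw [← hzP]; exact conj_mem_cj hz1K
  have a1 : Adj Om (centralizer {e}) (cj w K) K := by
    refine adj_of_comm hP hPe hK hKe hsP (h.vch.le K hK hv₁) ?_
    have h3 : z₁ * s * v₁ * (z₁ * s)⁻¹ * v₁⁻¹ = z₁ := by
      have h4 : z₁ * v₁⁻¹ = v₁⁻¹ * z₁ := by
        rw [hz₁]; exact (h.hyp.comm_zz hK (le_normalizer (K.inv_mem (h.vch.le K hK hv₁)))).symm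
      calc z₁ * s * v₁ * (z₁ * s)⁻¹ * v₁⁻¹ = z₁ * (s * v₁ * s⁻¹) * z₁⁻¹ * v₁⁻¹ := by group
        _ = v₁⁻¹ * v₁⁻¹ := by rw [i1, h4]; group
        _ = z₁ := by rw [h.inv_sq hK hv₁ hv₁4, hz₁]
    rw [h3]
    exact h.not_mem_OO (by rw [hz₁]; exact h.hyp.zz_ne hK) q1
  have a2 : Adj Om (centralizer {e}) (cj w K) L := by
    refine adj_of_comm hP hPe hL hLe hsP (h.vch.le L hL hv₂) ?_
    have h3 : z₁ * s * v₂ * (z₁ * s)⁻¹ * v₂⁻¹ = z₂ := by
      have h4 : z₁ * v₂⁻¹ = v₂⁻¹ * z₁ := ho.2 z₁ hz1K _ (L.inv_mem (h.vch.le L hL hv₂))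
      calc z₁ * s * v₂ * (z₁ * s)⁻¹ * v₂⁻¹ = z₁ * (s * v₂ * s⁻¹) * z₁⁻¹ * v₂⁻¹ := by group
        _ = v₂⁻¹ * v₂⁻¹ := by rw [i2, h4]; group
        _ = z₂ := by rw [h.inv_sq hL hv₂ hv₂4, hz₂]
    rw [h3]
    exact h.not_mem_OO (by rw [hz₂]; exact h.hyp.zz_ne hL) q2
  exact h.r1 e he1 K hK L hL hKe hLe ho (a1.symm.conn.trans a2.conn)

/-- an involution of ZZ in a 2-group commutes with `zz K`, `K` in it -/
theorem comm_zz_of_mem (hT : IsPGroup 2 T) (hK : K ∈ Om) (hKT : K ≤ T) (hN : N ∈ Om) (hs : zz N ∈ T) :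
    zz N * zz K = zz K * zz N :=
  h.hyp.comm_zz hK (h.norm_mem hT hK hKT hN hs)

/-- **(delta)** -/
theorem mem_Phi_of_not_tt (hS : Syl S ⊤) (hN : N ∈ Om) (hs : zz N ∈ S) (hnt : ∀ K ∈ Phi Om S, ¬ TT U K (zz N)) :
    N ∈ Phi Om S :=
  h.mem_Phi_of_comm hS hN fun K hK =>
    h.comm_of_not_tt hK.1 hN (h.comm_zz_of_mem hS.2.1 hK.1 hK.2 hN hs) (hnt K hK)

/-- the frame obtained by exchange of `K` against its T-partner `N` -/
theorem exists_swap (hS : Syl S ⊤) (hK : K ∈ Phi Om S) (hN : N ∈ Om) (hs : zz N ∈ S) (ht : TT U K (zz N))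
    {P : Subgroup G} (hP : IsPGroup 2 P) (hPN : P ≤ normalizer (N : Set G))
    (hPF : ∀ L ∈ Phi Om S, L ≠ K → P ≤ normalizer (L : Set G)) :
    ∃ S', Syl S' (⊤ : Subgroup G) ∧ Phi Om S' = insert N (Phi Om S \ {K}) ∧ P ≤ S' := by
  have hNS : N ∉ Phi Om S := by
    intro hh
    refine h.not_tt_of_comm hK.1 hN ?_ ht
    by_cases h1 : K = N
    · exact Or.inl h1
    · exact Or.inr (h.orth_of_Phi hS hK hh h1).2
  have hNL : ∀ L ∈ Phi Om S, L ≠ K → ∀ x ∈ N, ∀ y ∈ L, x * y = y * x := by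
    intro L hL hLK x hx y hy
    have h1 : ¬ TT U L (zz N) := fun hh => hLK (h.tt_eq hS.2.1 hL.1 hL.2 hK.1 hK.2 hN hh ht)
    rcases h.comm_of_not_tt hL.1 hN (h.comm_zz_of_mem hS.2.1 hL.1 hL.2 hN hs) h1 with h2 | h2
    · exact absurd (h2 ▸ hL) hNS
    · exact (h2 y hy x hx).symm
  obtain ⟨S', hS', hF, hPS⟩ := h.toRW.exists_frame hS (F := insert N (Phi Om S \ {K}))
    (by
      rintro L (rfl | hL)
      · exact hN
      · exact hL.1.1)
    (by
      rintro L (rfl | hL) M (rfl | hM) hne x hx y hy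
      · exact absurd rfl hne
      · exact hNL M hM.1 hM.2 x hx y hy
      · exact (hNL L hL.1 hL.2 y hy x hx).symm
      · exact (h.orth_of_Phi hS hL.1 hM.1 hne).2 x hx y hy)
    (by
      rw [Set.ncard_insert_of_notMem (fun hh => hNS hh.1) (Set.toFinite _),
        Set.ncard_sdiff_singleton_of_mem hK]
      omega)
    hP
    (by
      rintro L (rfl | hL)
      · exact hPN
      · exact hPF L hL.1 hL.2)
  exact ⟨S', hS', hF.symm, hPS⟩

theorem tt_eq_of_comm (hS : Syl S ⊤) (hK : K ∈ Phi Om S) (hN : N ∈ Om) (hN' : N' ∈ Om) (hs : zz N ∈ S)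
    (hs' : zz N' ∈ S) (ht : TT U K (zz N)) (ht' : TT U K (zz N'))
    (hc : N = N' ∨ ∀ x ∈ N, ∀ y ∈ N', x * y = y * x) : N' = N := by
  obtain ⟨S', hS', hF, -⟩ := h.exists_swap hS hK hN hs ht IsPGroup.of_bot bot_le (fun _ _ _ => bot_le)
  have h1 : N' ∈ Phi Om S' := by
    refine h.mem_Phi_of_comm hS' hN' ?_
    rw [hF]
    rintro L (rfl | hL)
    · exact hc
    · have h1 : ¬ TT U L (zz N') := fun hh => hL.2 (h.tt_eq hS.2.1 hL.1.1 hL.1.2 hK.1 hK.2 hN' hh ht')
      exact h.comm_of_not_tt hL.1.1 hN' (h.comm_zz_of_mem hS.2.1 hL.1.1 hL.1.2 hN' hs') h1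
  rw [hF] at h1
  rcases h1 with h1 | h1
  · exact h1
  · exfalso
    refine h.not_tt_of_comm hK.1 hN' ?_ ht'
    by_cases h2 : K = N'
    · exact Or.inl h2
    · exact Or.inr (h.orth_of_Phi hS hK h1.1 h2).2

theorem zz_cj_of_tt (hK : K ∈ Om) (hN : N ∈ Om) (ht : TT U K (zz N)) (hv : v ∈ U K) (hv4 : orderOf v = 4) :
    zz (cj v N) = zz N * zz K := by
  have h1 := h.tt_inv hK hN ht hv hv4
  have h2 : zz N * v = v⁻¹ * zz N := mul_inv_eq_iff_eq_mul.1 h1
  have h3 : zz N * v⁻¹ = v * zz N := by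
    have h4 : zz N * v⁻¹ * (zz N)⁻¹ = v := by
      calc zz N * v⁻¹ * (zz N)⁻¹ = (zz N * v * (zz N)⁻¹)⁻¹ := by group
        _ = v := by rw [h1, inv_inv]
    exact mul_inv_eq_iff_eq_mul.1 h4
  rw [h.hyp.zz_cj hN, ← h3, mul_assoc, h.inv_sq hK hv hv4]

/-- **(eps)** -/
theorem tt_two (hS : Syl S ⊤) (hK : K ∈ Phi Om S) (hN : N ∈ Om) (hN' : N' ∈ Om) (hs : zz N ∈ S)
    (hs' : zz N' ∈ S) (ht : TT U K (zz N)) (ht' : TT U K (zz N')) (hc : zz N * zz N' = zz N' * zz N) :
    zz N' = zz N ∨ zz N' = zz N * zz K := by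
  by_cases htt : TT U N (zz N')
  · obtain ⟨v, hv, hv4⟩ := h.exists_v hK.1
    obtain ⟨w, hw, hw4⟩ := h.exists_v hN
    have hz := h.zz_cj_of_tt hK.1 hN' ht' hv hv4
    have hN'' : cj v N' ∈ Om := h.hO N' hN' v
    have h1 := h.tt_inv hN hN' htt hw hw4
    have h2 := h.tt_inv hN hK.1 (h.tt_symm hK.1 hN ht) hw hw4
    have h3 : zz (cj v N') * w = w * zz (cj v N') := by
      rw [hz]
      rw [← mul_inv_eq_iff_eq_mul]
      calc zz N' * zz K * w * (zz N' * zz K)⁻¹ = zz N' * (zz K * w * (zz K)⁻¹) * (zz N')⁻¹ := by group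
        _ = (zz N' * w * (zz N')⁻¹)⁻¹ := by rw [h2]; group
        _ = w := by rw [h1, inv_inv]
    have h4 := h.comm_of_zz hN hN'' hw hw4 h3
    have hvK : v ∈ K := h.vch.le K hK.1 hv
    have ht'' : TT U K (zz (cj v N')) := by
      have := h.tt_cj hK.1 ht' v
      rw [mem_normalizer_iff_cj.1 (le_normalizer hvK), ← h.hyp.zz_cj hN'] at this
      exact this
    have h5 := h.tt_eq_of_comm hS hK hN hN'' hs (by rw [hz]; exact S.mul_mem hs' (hK.2 (h.hyp.zz_mem hK.1))) ht ht'' h4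
    right
    rw [h5] at hz
    rw [hz, mul_assoc, h.zz_zz hK.1, mul_one]
  · left
    have h1 := h.comm_of_not_tt hN hN' hc.symm htt
    rw [h.tt_eq_of_comm hS hK hN hN' hs hs' ht ht' h1]

end LW

end Cfsg.Agent.Cit.CV1
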