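import Cfsg.Agent.Cit.Nil.CV1.Inherit
import Cfsg.Agent.Cit.Nil.CV1.Local

/-!
# (6b)(CV), rank one, section 5: the normal subgroups of a reduced world

`Red.lw` : a reduced world with LEMMA T is an `LW`.
`Red.two_eq_bot` : `O_2(G) = 1`.
`Red.normal` : if `R1 Om ⊤` fails, every normal subgroup `N ≠ 1` contains all `zz K`, and `C_G(N) = 1`.
-/

set_option autoImplicit false
set_option linter.style.haveILetI false
set_option linter.unusedSectionVars false

namespace Cfsg.Agent.Cit.CV1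

open Subgroup Cfsg Cit Tau CV

variable {G : Type*} [Group G] {Om : Set (Subgroup G)} {U : Subgroup G → Subgroup G} {H K L M N P : Subgroup G}
  {v : G}

/-- commuting with all members is being central -/
theorem Red.le_bot (r : Red Om U) (h : ∀ K ∈ Om, ∀ x ∈ K, ∀ y ∈ N, x * y = y * x) : N = ⊥ := by
  rw [eq_bot_iff, ← r.cen]
  intro y hy
  rw [mem_center_iff]
  have h1 : sSup Om ≤ centralizer {y} := by
    rw [sSup_le_iff]
    intro K hK x hx
    rw [mem_centralizer_singleton_iff]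
    exact h K hK x hx y hy
  rw [r.gen] at h1
  intro g
  exact mem_centralizer_singleton_iff.1 (h1 (mem_top g))

theorem Red.centralizer_ne_top (r : Red Om U) {e : G} (he : e ≠ 1) : centralizer {e} ≠ (⊤ : Subgroup G) := by
  intro h
  apply he
  rw [← mem_bot, ← r.cen, mem_center_iff]
  intro g
  exact mem_centralizer_singleton_iff.1 (h.ge (mem_top g))

theorem Red.lw (r : Red Om U) (h : LemT Om U) : LW Om U :=
  { r.toRW with r1 := fun _ he => r.ih _ (r.centralizer_ne_top he), lt := h }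

variable [Finite G]

/-- T-type: `V_K ≤ P` for a subgroup `P` normalised by `K` and containing `zz N` -/
theorem LW.mem_of_tt (h : LW Om U) (hK : K ∈ Om) (hN : N ∈ Om) (ht : TT U K (zz N))
    (hP : K ≤ normalizer (P : Set G)) (hs : zz N ∈ P) (hv : v ∈ U K) : v ∈ P := by
  obtain ⟨u, hu, hu4⟩ := h.exists_v hK
  obtain ⟨y, hy, hyX⟩ := h.exists_y hK
  obtain ⟨h1, h2⟩ := Cit.Nil.CV.XLevel.inv_y h.toCVW hN hK hu hu4 (h.tt_inv hK hN ht hu hu4) hy hyX
  obtain ⟨i, hi⟩ := Cit.Nil.CV.XLevel.gen_of_odd h.toCVW hK h1 h2 (h.U_le_XX hK hv)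
  rw [hi]
  refine P.zpow_mem ?_ i
  have h3 : (zz N * y * (zz N)⁻¹)⁻¹ * y = zz N * (y⁻¹ * (zz N)⁻¹ * y⁻¹⁻¹) := by group
  rw [h3]
  exact P.mul_mem hs ((mem_normalizer_iff.1 (hP (K.inv_mem hy)) _).1 (P.inv_mem hs))

/-- a normal 2-subgroup centralises all members which are not isolated -/
theorem LW.comm_two (h : LW Om U) (hP : P.Normal) (hP2 : IsPGroup 2 P) (hK : K ∈ NI Om) :
    ∀ x ∈ K, ∀ y ∈ P, x * y = y * x := by
  have hle : ∀ L : Subgroup G, L ≤ normalizer (P : Set G) := fun L => by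
    rw [normalizer_eq_top_iff.2 hP]; exact le_top
  by_cases hz : zz K ∈ P
  swap
  · exact h.hyp.lemma_one hK.1 (h.two K hK.1) hP2 (hle K) hz
  exfalso
  obtain ⟨hK, L, hL, hne, hLK⟩ := hK
  refine hLK ?_
  have hsym : (L = K ∨ ∀ x ∈ L, ∀ y ∈ K, x * y = y * x) → ∀ x ∈ K, ∀ y ∈ L, x * y = y * x := by
    rintro (h1 | h1)
    · exact absurd h1 hne
    · exact fun x hx y hy => (h1 y hy x hx).symm
  by_cases hzL : zz L ∈ P
  · -- both in `P`
    have hT : IsPGroup 2 (P ⊔ K : Subgroup G) := two_sup (h.two K hK) hP2 (hle K)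
    have hc : zz L * zz K = zz K * zz L :=
      h.comm_zz_of_mem hT hK le_sup_right hL (mem_sup_left hzL)
    by_cases ht : TT U K (zz L)
    · obtain ⟨v, hv, hv4⟩ := h.exists_v hK
      obtain ⟨w, hw, hw4⟩ := h.exists_v hL
      have h1 : v ∈ P := h.mem_of_tt hK hL ht (hle K) hzL hv
      have h2 : w ∈ P := h.mem_of_tt hL hK (h.tt_symm hK hL ht) (hle L) hz hw
      exact hsym (h.lin L hL K hK w hw v hv hw4 hv4 (h.vch.commute h.hyp hP2 hL hK hw hv hw4 hv4 h2 h1))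
    · rcases h.comm_of_not_tt hK hL hc ht with h1 | h1
      · exact absurd h1.symm hne
      · exact h1
  · obtain ⟨w, hw, hw4⟩ := h.exists_v hL
    have h1 := h.hyp.lemma_one hL (h.two L hL) hP2 (hle L) hzL w (h.vch.le L hL hw) _ hz
    exact hsym (h.comm_of_zz hL hK hw hw4 h1.symm)

theorem Red.mem_NI (r : Red Om U) (hK : K ∈ Om) : K ∈ NI Om := ⟨hK, r.iso K hK⟩

/-- `O_2(G) = 1` -/
theorem Red.two_eq_bot (r : Red Om U) (hT : LemT Om U) (hP : P.Normal) (hP2 : IsPGroup 2 P) : P = ⊥ :=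
  r.le_bot fun _ hK => (r.lw hT).comm_two hP hP2 (r.mem_NI hK)

/-- `O(N) = 1` -/
theorem Red.OO_eq_bot (r : Red Om U) (hN : N.Normal) : OO N = ⊥ := by
  rw [eq_bot_iff, ← r.core]
  exact OO_le_OO_of_normal le_top (by rw [normalizer_eq_top_iff.2 hN])

/-- a member with `zz K` outside a normal subgroup centralises it -/
theorem Red.comm_of_not_mem (r : Red Om U) (hN : N.Normal) (hK : K ∈ Om) (hz : zz K ∉ N) :
    ∀ x ∈ K, ∀ y ∈ N, x * y = y * x := by
  have hle : K ≤ normalizer (N : Set G) := by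
    rw [normalizer_eq_top_iff.2 hN]; exact le_top
  have h1 := r.hyp.lemma_two (fun L hL => r.two L hL) hK hle (r.OO_eq_bot hN) hz
  intro x hx y hy
  exact r.hyp.comm_of_not_mem hK (r.two K hK) hle hz hy (mem_centralizer_singleton_iff.1 (h1 hy)) x hx

/-- a normal subgroup `≠ 1` contains some `zz K` -/
theorem Red.exists_zz_mem (r : Red Om U) (hN : N.Normal) (hne : N ≠ ⊥) : ∃ K ∈ Om, zz K ∈ N := by
  by_contra h
  push Not at h
  exact hne (r.le_bot fun K hK => r.comm_of_not_mem hN hK (h K hK))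

/-- normal abelian subgroups are trivial -/
theorem Red.abelian_eq_bot (r : Red Om U) (hT : LemT Om U) (hN : N.Normal) (hab : ∀ x ∈ N, ∀ y ∈ N, x * y = y * x) :
    N = ⊥ := by
  haveI : Fact (Nat.Prime 2) := ⟨Nat.prime_two⟩
  by_contra hne
  obtain ⟨K, hK, hz⟩ := r.exists_zz_mem hN hne
  -- the elements of `N` of order at most two
  let E : Subgroup G :=
    { carrier := {x | x ∈ N ∧ x * x = 1}
      one_mem' := ⟨N.one_mem, one_mul 1⟩
      mul_mem' := by
        rintro a b ⟨ha, ha2⟩ ⟨hb, hb2⟩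
        refine ⟨N.mul_mem ha hb, ?_⟩
        calc a * b * (a * b) = a * (b * a) * b := by group
          _ = (a * a) * (b * b) := by rw [hab b hb a ha]; group
          _ = 1 := by rw [ha2, hb2, one_mul]
      inv_mem' := by
        rintro a ⟨ha, ha2⟩
        exact ⟨N.inv_mem ha, by rw [← mul_inv_rev, ha2, inv_one]⟩ }
  have hE : E.Normal := by
    refine ⟨fun x hx g => ⟨hN.conj_mem x hx.1 g, ?_⟩⟩
    calc g * x * g⁻¹ * (g * x * g⁻¹) = g * (x * x) * g⁻¹ := by group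
      _ = 1 := by rw [hx.2]; group
  have hE2 : IsPGroup 2 E := by
    intro x
    refine ⟨1, Subtype.ext ?_⟩
    change (x : G) ^ 2 ^ 1 = 1
    rw [pow_one, pow_two]
    exact x.2.2
  have h1 := r.two_eq_bot hT hE hE2
  have h2 : zz K ∈ E := ⟨hz, r.hyp.zz_mul hK⟩
  rw [h1, mem_bot] at h2
  exact r.hyp.zz_ne hK h2

/-- the centre of a normal subgroup is trivial -/
theorem Red.inf_centralizer (r : Red Om U) (hT : LemT Om U) (hN : N.Normal) : N ⊓ centralizer (N : Set G) = ⊥ := by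
  haveI := hN
  refine r.abelian_eq_bot hT (inferInstance) ?_
  intro x hx y hy
  exact mem_centralizer_iff.1 hy.2 x hx.1

/-- two commuting families -/
theorem Red.r1_of_split (r : Red Om U) {F : Set (Subgroup G)} (hF : F ⊆ Om) (hc : ∀ K ∈ F, ∀ g, cj g K ∈ F)
    (hcomm : ∀ K ∈ F, ∀ L ∈ Om, L ∉ F → ∀ x ∈ K, ∀ y ∈ L, x * y = y * x) (h1 : F.Nonempty) (h2 : ∃ L ∈ Om, L ∉ F) :
    R1 Om ⊤ := by
  -- one family
  have key : ∀ F : Set (Subgroup G), F ⊆ Om → (∀ K ∈ F, ∀ g, cj g K ∈ F) →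
      (∀ K ∈ F, ∀ L ∈ Om, L ∉ F → ∀ x ∈ K, ∀ y ∈ L, x * y = y * x) → (∃ L ∈ Om, L ∉ F) →
      ∀ K ∈ F, ∀ L ∈ Om, Orth K L → ¬ Conn Om ⊤ K L := by
    intro F hF hc hcomm hne K hK L hL hKL hcon
    have hn := sSup_le_normalizer hc
    have key2 : ∀ {A B : Subgroup G}, Conn Om ⊤ A B → A ∈ F → B ∈ F ∧ Conn Om (sSup F) A B := by
      intro A B hAB hA
      induction hAB with
      | refl => exact ⟨hA, .refl⟩
      | @tail B C _ h4 ih =>
        have hC : C ∈ F := by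
          by_contra hC
          exact h4.2.2 (comm_of_commutator (hcomm B ih.1 C h4.2.1.1 hC))
        exact ⟨hC, ih.2.tail ⟨⟨h4.1.1, le_sSup ih.1⟩, ⟨h4.2.1.1, le_sSup hC⟩, not_le_OO_top hn h4.2.2⟩⟩
    obtain ⟨h5, h6⟩ := key2 hcon hK
    refine r.ih (sSup F) ?_ K (hF hK) L (hF h5) (le_sSup hK) (le_sSup h5) hKL h6
    intro htop
    obtain ⟨M, hM, hMF⟩ := hne
    have h7 : sSup F ≤ centralizer (M : Set G) := by
      rw [sSup_le_iff]
      intro A hA x hx
      rw [mem_centralizer_iff]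
      exact fun y hy => (hcomm A hA M hM hMF x hx y hy).symm
    rw [htop] at h7
    obtain ⟨x, hx, y, hy, hxy⟩ := r.not_comm hM
    exact hxy (mem_centralizer_iff.1 (h7 (mem_top y)) x hx)
  intro K hK L hL _ _ hKL hcon
  by_cases hKF : K ∈ F
  · exact key F hF hc hcomm h2 K hKF L hL hKL hcon
  · refine key {K | K ∈ Om ∧ K ∉ F} (fun _ h => h.1) ?_ ?_ ?_ K ⟨hK, hKF⟩ L hL hKL hcon
    · rintro A ⟨hA, hAF⟩ g
      refine ⟨r.hyp.conj A hA g, fun h => hAF ?_⟩
      have h3 := hc _ h g⁻¹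
      rwa [cj_inv_cj] at h3
    · rintro A ⟨hA, hAF⟩ B hB hBF x hx y hy
      have hB' : B ∈ F := by
        by_contra h3
        exact hBF ⟨hB, h3⟩
      exact (hcomm B hB' A hA hAF y hy x hx).symm
    · obtain ⟨A, hA⟩ := h1
      exact ⟨A, hF hA, fun h => h.2 hA⟩

/-- every normal subgroup `≠ 1` contains all `zz K` -/
theorem Red.zz_mem_of_normal (r : Red Om U) (hR : ¬ R1 Om ⊤) (hN : N.Normal) (hne : N ≠ ⊥) (hK : K ∈ Om) : zz K ∈ N := by
  by_contra hz
  apply hR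
  obtain ⟨L, hL, hzL⟩ := r.exists_zz_mem hN hne
  refine r.r1_of_split (F := {M | M ∈ Om ∧ zz M ∈ N}) (fun _ h => h.1) ?_ ?_ ⟨L, hL, hzL⟩ ⟨K, hK, fun h => hz h.2⟩
  · rintro A ⟨hA, hzA⟩ g
    refine ⟨r.hyp.conj A hA g, ?_⟩
    rw [r.hyp.zz_cj hA]
    exact hN.conj_mem _ hzA g
  · rintro A ⟨hA, hzA⟩ B hB hBF
    have hzB : zz B ∉ N := fun h => hBF ⟨hB, h⟩
    obtain ⟨v, hv, hv4⟩ := r.exists_v hB
    have h1 := r.comm_of_not_mem hN hB hzB v (r.vch.le B hB hv) _ hzA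
    rcases r.comm_of_zz hB hA hv hv4 h1.symm with h2 | h2
    · subst h2
      exact absurd hzA hzB
    · exact fun x hx y hy => (h2 y hy x hx).symm

/-- **section 5**: every normal subgroup `N ≠ 1` contains all `zz K`, and `C_G(N) = 1` -/
theorem Red.normal (r : Red Om U) (hT : LemT Om U) (hR : ¬ R1 Om ⊤) (hN : N.Normal) (hne : N ≠ ⊥) :
    (∀ K ∈ Om, zz K ∈ N) ∧ centralizer (N : Set G) = ⊥ := by
  refine ⟨fun K hK => r.zz_mem_of_normal hR hN hne hK, ?_⟩
  by_contra hC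
  haveI := hN
  obtain ⟨K, hK, hz⟩ := r.exists_zz_mem (N := centralizer (N : Set G)) inferInstance hC
  have h1 : zz K ∈ N ⊓ centralizer (N : Set G) := ⟨r.zz_mem_of_normal hR hN hne hK, hz⟩
  rw [r.inf_centralizer hT hN, mem_bot] at h1
  exact r.hyp.zz_ne hK h1

end Cfsg.Agent.Cit.CV1
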