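import Cfsg.Agent.Cit.Nil.CV1.World
import Cfsg.Agent.Cit.QuoCen

/-!
# (6b)(CV), rank one: inheritance

The world `RW Om U` passes to subgroups (`RW.restr`), to quotients with kernel of odd order (`RW.img`), to central
quotients (`RW.imgc`) and to subfamilies (`RW.sub`), and `R1` comes back (`r1_restr`, `RW.r1_of_img`, `RW.r1_of_imgc`,
`r1_of_sSup`, `r1_of_NI`).  `r1_of_red` : it is enough to prove `R1 Om ⊤` for the reduced worlds `Red Om U`.
-/

set_option autoImplicit false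
set_option linter.style.haveILetI false
set_option linter.unusedSectionVars false

namespace Cfsg.Agent.Cit.CV1

open Subgroup Cfsg Cit Tau CV

variable {G : Type*} [Group G] {Om : Set (Subgroup G)} {U : Subgroup G → Subgroup G} {H K L : Subgroup G}

/-! ### Two facts on the world -/

section basic

variable [Finite G]

/-- a member is not abelian -/
theorem RW.not_comm (w : RW Om U) (hK : K ∈ Om) : ∃ x ∈ K, ∃ y ∈ K, x * y ≠ y * x := by
  obtain ⟨v, hv, hv4⟩ := w.exists_v hK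
  obtain ⟨y, hy, hyX⟩ := w.exists_y hK
  refine ⟨y, hy, v, w.vch.le K hK hv, fun h => ?_⟩
  have h1 := w.y_inv hK hy hyX hv
  rw [h, mul_inv_cancel_right] at h1
  have h2 : v * v = 1 := by
    nth_rewrite 1 [h1]
    exact inv_mul_cancel v
  rw [w.sq_eq hK hv hv4] at h2
  exact w.hyp.zz_ne hK h2

/-- **(B2)** `zz L` commutes with `v ∈ U K` of order 4: `K = L` or `[K, L] = 1` -/
theorem RW.comm_of_zz_comm (w : RW Om U) (hK : K ∈ Om) (hL : L ∈ Om) {v : G} (hv : v ∈ U K) (hv4 : orderOf v = 4)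
    (hc : v * zz L = zz L * v) : K = L ∨ ∀ x ∈ K, ∀ y ∈ L, x * y = y * x := by
  have h1 := w.norm_h3 hK hL (w.vch.le K hK hv) hv4.ge hc
  obtain ⟨u, hu, hu4⟩ := w.exists_v hL
  have hv2 : IsPGroup 2 (zpowers v) := (w.two K hK).to_le (zpowers_le.2 (w.vch.le K hK hv))
  have hT : IsPGroup 2 (zpowers v ⊔ L : Subgroup G) :=
    hv2.to_sup_of_normal_right' (w.two L hL) (zpowers_le.2 h1)
  exact w.lin K hK L hL v hv u hu hv4 hu4 (w.vch.commute w.hyp hT hK hL hv hu hv4 hu4
    (mem_sup_left (mem_zpowers v)) (mem_sup_right (w.vch.le L hL hu)))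

end basic

/-! ### Subgroups -/

/-- the choice for a subgroup -/
def uH (H : Subgroup G) (U : Subgroup G → Subgroup G) : Subgroup H → Subgroup H :=
  fun J => (U (J.map H.subtype)).subgroupOf H

theorem mem_uH {J : Subgroup H} {x : H} : x ∈ uH H U J ↔ (x : G) ∈ U (J.map H.subtype) := Iff.rfl

theorem RW.restr [Finite G] (w : RW Om U) (H : Subgroup G) : RW (restr Om H) (uH H U) := by
  have hle : ∀ J ∈ Cit.restr Om H, U (J.map H.subtype) ≤ H := fun J hJ =>
    (w.vch.le _ hJ).trans (map_subtype_le J)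
  have htwo : ∀ J ∈ Cit.restr Om H, IsPGroup 2 J := fun J hJ =>
    (w.two _ hJ).of_equiv (J.equivMapOfInjective _ H.subtype_injective).symm
  refine ⟨⟨w.hyp.restr H, htwo, ⟨?_, ?_, ?_, ?_, ?_⟩, ?_⟩, ?_⟩
  · intro J hJ x hx
    obtain ⟨y, hy, hyx⟩ := w.vch.le _ hJ (mem_uH.1 hx)
    have : y = x := Subtype.ext hyx
    rwa [← this]
  · intro J hJ g
    ext x
    rw [mem_uH, cj_map, w.vch.cj _ hJ, mem_cj, mem_cj, mem_uH]
    simp
  · intro J hJ
    rw [OO_eq_bot_of_two (htwo J hJ)]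
    exact bot_le
  · intro J hJ
    rw [OO_eq_bot_of_two (htwo J hJ), card_bot]
    have h1 := w.vch.card _ hJ
    rw [w.oo hJ, card_bot] at h1
    rw [← h1]
    exact Nat.card_congr (subgroupOfEquivOfLe (hle J hJ)).toEquiv
  · intro J hJ
    obtain ⟨v, hv, hv4⟩ := w.exists_v hJ
    exact ⟨⟨v, hle J hJ hv⟩, hv, by rw [Subgroup.orderOf_mk]; exact hv4⟩
  · intro J hJ J' hJ'
    have h1 := w.eqc _ hJ _ hJ'
    rwa [card_map_of_injective H.subtype_injective, card_map_of_injective H.subtype_injective] at h1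
  · intro J hJ J' hJ' v hv u hu hv4 hu4 hvu
    rcases w.lin _ hJ _ hJ' v hv u hu (by rw [orderOf_coe]; exact hv4) (by rw [orderOf_coe]; exact hu4)
      (congrArg Subtype.val hvu) with h1 | h1
    · left
      exact Subgroup.map_injective H.subtype_injective h1
    · right
      intro x hx y hy
      exact Subtype.ext (h1 x ⟨x, hx, rfl⟩ y ⟨y, hy, rfl⟩)

theorem orth_map_iff {J J' : Subgroup H} : Orth (J.map H.subtype) (J'.map H.subtype) ↔ Orth J J' := by
  constructor
  · rintro ⟨h1, h2⟩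
    refine ⟨fun h => h1 (by rw [h]), fun x hx y hy => Subtype.ext (h2 x ⟨x, hx, rfl⟩ y ⟨y, hy, rfl⟩)⟩
  · rintro ⟨h1, h2⟩
    refine ⟨fun h => h1 (Subgroup.map_injective H.subtype_injective h), ?_⟩
    rintro _ ⟨x, hx, rfl⟩ _ ⟨y, hy, rfl⟩
    exact congrArg Subtype.val (h2 x hx y hy)

theorem adj_map_iff {M J J' : Subgroup H} :
    Adj Om (M.map H.subtype) (J.map H.subtype) (J'.map H.subtype) ↔ Adj (restr Om H) M J J' := by
  rw [Adj, Adj, ← map_commutator, OO_map _ H.subtype_injective, mem_restr, mem_restr,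
    map_le_map_iff_of_injective H.subtype_injective, map_le_map_iff_of_injective H.subtype_injective,
    map_le_map_iff_of_injective H.subtype_injective]

theorem conn_map_iff {M J J' : Subgroup H} :
    Conn Om (M.map H.subtype) (J.map H.subtype) (J'.map H.subtype) ↔ Conn (restr Om H) M J J' := by
  constructor
  · intro h
    have key : ∀ {A B : Subgroup G}, Conn Om (M.map H.subtype) A B → ∀ J : Subgroup H, A = J.map H.subtype →
        ∃ J', B = J'.map H.subtype ∧ Conn (Cit.restr Om H) M J J' := by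
      intro A B hAB J hJ
      induction hAB with
      | refl => exact ⟨J, hJ, .refl⟩
      | @tail B C _ h2 ih =>
        obtain ⟨J', rfl, hJJ'⟩ := ih
        have hC : C ≤ H := h2.2.1.2.trans (map_subtype_le M)
        refine ⟨C.subgroupOf H, (map_subgroupOf_eq_of_le hC).symm, hJJ'.tail ?_⟩
        rw [← adj_map_iff, map_subgroupOf_eq_of_le hC]
        exact h2
    obtain ⟨J'', hJ'', h1⟩ := key h J rfl
    rwa [← Subgroup.map_injective H.subtype_injective hJ''] at h1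
  · intro h
    induction h with
    | refl => exact .refl
    | tail _ h2 ih => exact ih.tail (adj_map_iff.2 h2)

/-- `R1` of a subgroup `M` of `H`, computed in `H` -/
theorem r1_restr {M : Subgroup H} : R1 (restr Om H) M ↔ R1 Om (M.map H.subtype) := by
  constructor
  · intro h K hK L hL hKM hLM hKL hc
    have hK' : K ≤ H := hKM.trans (map_subtype_le M)
    have hL' : L ≤ H := hLM.trans (map_subtype_le M)
    rw [← map_subgroupOf_eq_of_le hK'] at hK hKM hKL hc
    rw [← map_subgroupOf_eq_of_le hL'] at hL hLM hKL hc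
    rw [map_le_map_iff_of_injective H.subtype_injective] at hKM hLM
    exact h _ hK _ hL hKM hLM (orth_map_iff.1 hKL) (conn_map_iff.1 hc)
  · intro h J hJ J' hJ' h1 h2 h3 h4
    exact h _ hJ _ hJ' (Subgroup.map_mono h1) (Subgroup.map_mono h2) (orth_map_iff.2 h3) (conn_map_iff.2 h4)

theorem top_map_subtype (H : Subgroup G) : (⊤ : Subgroup H).map H.subtype = H := by
  rw [← MonoidHom.range_eq_map, H.range_subtype]

theorem r1_restr_top : R1 (restr Om H) ⊤ ↔ R1 Om H := by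
  rw [r1_restr, top_map_subtype]

/-! ### The image family and the image choice -/

section img

variable {G' : Type*} [Group G'] {f : G →* G'}

/-- the choice for an image: the join of the images of the `U K`, `K` over `J` -/
def imgU (f : G →* G') (Om : Set (Subgroup G)) (U : Subgroup G → Subgroup G) : Subgroup G' → Subgroup G' :=
  fun J => ⨆ K : {K : Subgroup G // K ∈ Om ∧ K.map f = J}, (U K.1).map f

/-- well defined -/
theorem imgU_map (hU : ∀ K ∈ Om, ∀ L ∈ Om, K.map f = L.map f → (U K).map f = (U L).map f) (hK : K ∈ Om) :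
    imgU f Om U (K.map f) = (U K).map f := by
  apply le_antisymm
  · refine iSup_le ?_
    rintro ⟨L, hL, hLK⟩
    exact (hU L hL K hK hLK).le
  · exact le_iSup (fun K' : {K' : Subgroup G // K' ∈ Om ∧ K'.map f = K.map f} => (U K'.1).map f) ⟨K, hK, rfl⟩

/-- the world passes to images as soon as `f` is injective on the members, the choice is well defined, and `lin` holds -/
theorem RW.img_aux [Finite G] (w : RW Om U) (hf : Function.Surjective f) (hyp : Hyp (Cit.img f Om))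
    (hinj : ∀ K ∈ Om, K ⊓ f.ker = ⊥)
    (hU : ∀ K ∈ Om, ∀ L ∈ Om, K.map f = L.map f → (U K).map f = (U L).map f)
    (hlin : ∀ K ∈ Om, ∀ L ∈ Om, ∀ v ∈ U K, ∀ u ∈ U L, orderOf v = 4 → orderOf u = 4 → f v * f u = f u * f v →
      K.map f = L.map f ∨ ∀ x ∈ K.map f, ∀ y ∈ L.map f, x * y = y * x) :
    RW (Cit.img f Om) (imgU f Om U) := by
  haveI : Finite G' := Finite.of_surjective f hf
  have hUinf : ∀ K ∈ Om, U K ⊓ f.ker = ⊥ := fun K hK =>
    le_bot_iff.1 ((inf_le_inf_right _ (w.vch.le K hK)).trans (hinj K hK).le)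
  have htwo : ∀ J ∈ Cit.img f Om, IsPGroup 2 J := by
    rintro _ ⟨K, hK, rfl⟩
    exact (w.two K hK).map f
  refine ⟨⟨hyp, htwo, ⟨?_, ?_, ?_, ?_, ?_⟩, ?_⟩, ?_⟩
  · rintro _ ⟨K, hK, rfl⟩
    rw [imgU_map hU hK]
    exact Subgroup.map_mono (w.vch.le K hK)
  · rintro _ ⟨K, hK, rfl⟩ g'
    obtain ⟨g, rfl⟩ := hf g'
    rw [← cj_map, imgU_map hU hK, imgU_map hU (w.hyp.conj K hK g), w.vch.cj K hK, cj_map]
  · intro J hJ
    rw [OO_eq_bot_of_two (htwo J hJ)]
    exact bot_le
  · rintro _ ⟨K, hK, rfl⟩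
    rw [OO_eq_bot_of_two (htwo _ ⟨K, hK, rfl⟩), card_bot, imgU_map hU hK]
    have h1 := w.vch.card _ hK
    rw [w.oo hK, card_bot] at h1
    rw [← h1]
    exact (Nat.card_congr (QuoCen.equivMap (hUinf K hK)).toEquiv).symm
  · rintro _ ⟨K, hK, rfl⟩
    obtain ⟨v, hv, hv4⟩ := w.exists_v hK
    rw [imgU_map hU hK]
    exact ⟨f v, ⟨v, hv, rfl⟩, by rw [QuoCen.orderOf_map (hUinf K hK) hv]; exact hv4⟩
  · rintro _ ⟨K, hK, rfl⟩ _ ⟨L, hL, rfl⟩
    rw [← Nat.card_congr (QuoCen.equivMap (hinj K hK)).toEquiv, ← Nat.card_congr (QuoCen.equivMap (hinj L hL)).toEquiv]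
    exact w.eqc K hK L hL
  · rintro _ ⟨K, hK, rfl⟩ _ ⟨L, hL, rfl⟩ v' hv' u' hu' hv4 hu4 hc
    rw [imgU_map hU hK] at hv'
    rw [imgU_map hU hL] at hu'
    obtain ⟨v, hv, rfl⟩ := hv'
    obtain ⟨u, hu, rfl⟩ := hu'
    rw [QuoCen.orderOf_map (hUinf K hK) hv] at hv4
    rw [QuoCen.orderOf_map (hUinf L hL) hu] at hu4
    exact hlin K hK L hL v hv u hu hv4 hu4 hc

/-- images of orthogonal members are orthogonal when `f` is injective on the members -/
theorem RW.orth_map [Finite G] (w : RW Om U) (hK : K ∈ Om) (hinj : K ⊓ f.ker = ⊥) (h : Orth K L) :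
    Orth (K.map f) (L.map f) := by
  have h1 : ∀ x ∈ K.map f, ∀ y ∈ L.map f, x * y = y * x := by
    rintro _ ⟨x, hx, rfl⟩ _ ⟨y, hy, rfl⟩
    rw [← map_mul, ← map_mul, h.2 x hx y hy]
  refine ⟨fun hKL => ?_, h1⟩
  obtain ⟨x, hx, y, hy, hxy⟩ := w.not_comm hK
  have h2 := h1 (f x) ⟨x, hx, rfl⟩ (f y) (by rw [← hKL]; exact ⟨y, hy, rfl⟩)
  rw [← map_mul, ← map_mul] at h2
  exact hxy (congrArg Subtype.val (QuoCen.injOn_of_inf hinj
    (a₁ := ⟨x * y, K.mul_mem hx hy⟩) (a₂ := ⟨y * x, K.mul_mem hy hx⟩) h2))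

/-- images with abelian intersection: two members with the same image do not commute -/
theorem RW.not_comm_map [Finite G] (w : RW Om U) (hK : K ∈ Om) (hinj : K ⊓ f.ker = ⊥) (hKL : K.map f = L.map f) :
    ¬ ∀ x ∈ K, ∀ y ∈ L, x * y = y * x := by
  intro h
  obtain ⟨x, hx, y, hy, hxy⟩ := w.not_comm hK
  obtain ⟨y', hy', hyy⟩ : f y ∈ L.map f := by rw [← hKL]; exact ⟨y, hy, rfl⟩
  have h2 : f (x * y) = f (y * x) := by
    rw [map_mul, map_mul, ← hyy, ← map_mul, ← map_mul, h x hx y' hy']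
  exact hxy (congrArg Subtype.val (QuoCen.injOn_of_inf hinj
    (a₁ := ⟨x * y, K.mul_mem hx hy⟩) (a₂ := ⟨y * x, K.mul_mem hy hx⟩) h2))

end img

/-! ### Quotients by odd normal subgroups -/

section odd

variable {G' : Type*} [Group G'] {f : G →* G'} [Finite G]

theorem inf_ker_of_odd (hker : ¬ 2 ∣ Nat.card f.ker) (hK : IsPGroup 2 K) : K ⊓ f.ker = ⊥ := by
  rw [eq_bot_iff]
  intro x hx
  obtain ⟨a, ha⟩ := hK ⟨x, hx.1⟩
  rw [mem_bot]
  exact eq_one_of_odd hker hx.2 (a := a) (congrArg Subtype.val ha)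

/-- members with the same image are conjugate under the kernel -/
theorem RW.exists_cj_of_map_eq (w : RW Om U) (hker : ¬ 2 ∣ Nat.card f.ker) (hK : K ∈ Om) (hL : L ∈ Om)
    (hKL : K.map f = L.map f) : ∃ n ∈ f.ker, cj n K = L := by
  have h1 : f (zz K) = f (zz L) := by rw [← zz_map' w.hyp hker hK, ← zz_map' w.hyp hker hL, hKL]
  obtain ⟨n, hn, hn2⟩ := exists_ker_conj hker (w.hyp.zz_mul hK) (w.hyp.zz_mul hL) h1
  refine ⟨n, hn, ?_⟩
  by_contra hne
  have hcK := w.hyp.conj K hK n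
  refine w.not_comm_map (f := f) (K := cj n K) (L := L) hcK (inf_ker_of_odd hker (w.two _ hcK))
    (by rw [map_cj_ker hn K, hKL]) fun x hx y hy => ?_
  exact w.comm_of_zz_eq hcK hL (by rw [w.hyp.zz_cj hK, hn2]) hne hx hy

theorem RW.img (w : RW Om U) (hf : Function.Surjective f) (hker : ¬ 2 ∣ Nat.card f.ker) :
    RW (Cit.img f Om) (imgU f Om U) := by
  refine w.img_aux hf (w.hyp.img hf hker) (fun K hK => inf_ker_of_odd hker (w.two K hK)) ?_ ?_
  · intro K hK L hL hKL
    obtain ⟨n, hn, rfl⟩ := w.exists_cj_of_map_eq hker hK hL hKL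
    rw [w.vch.cj K hK, map_cj_ker hn]
  · intro K hK L hL v hv u hu hv4 hu4 hc
    have hzu : u * u = zz L := w.sq_eq hL hu hu4
    have hc' : f v * f (zz L) = f (zz L) * f v := by
      rw [← hzu, map_mul, ← mul_assoc, hc, mul_assoc, hc, mul_assoc]
    have hv4' : v ^ 2 ^ 2 = 1 := by
      rw [show (2 : ℕ) ^ 2 = 4 by norm_num, ← hv4]; exact pow_orderOf_eq_one v
    obtain ⟨n, hn, hn2⟩ := exists_conj_comm hker (w.hyp.zz_mul hL) hv4' hc'
    rw [← w.hyp.zz_cj hL] at hn2
    rcases w.comm_of_zz_comm hK (w.hyp.conj L hL n) hv hv4 hn2 with h1 | h1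
    · left
      rw [h1, map_cj_ker hn]
    · right
      rw [← map_cj_ker hn L]
      rintro _ ⟨x, hx, rfl⟩ _ ⟨y, hy, rfl⟩
      rw [← map_mul, ← map_mul, h1 x hx y hy]

/-- the preimage of `O(f H)` in `H` is contained in `O(H)` -/
theorem comap_OO_le (hker : ¬ 2 ∣ Nat.card f.ker) (H : Subgroup G) : (OO (H.map f)).comap f ⊓ H ≤ OO H := by
  refine le_OO inf_le_right ?_ ?_
  · intro h hh
    rw [mem_normalizer_iff_cj, cj_inf, mem_normalizer_iff_cj.1 (le_normalizer hh)]
    congr 1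
    have h1 : f h ∈ normalizer (OO (H.map f) : Set G') := le_normalizer_OO _ ⟨h, hh, rfl⟩
    rw [mem_normalizer_iff] at h1
    ext x
    rw [mem_cj, mem_comap, mem_comap, h1]
    simp [mul_assoc]
  · intro h2
    set N : Subgroup G := (OO (H.map f)).comap f ⊓ H with hN
    have h3 : Nat.card N ∣ Nat.card f.ker * Nat.card (N.map f) := by
      have h4 : Nat.card (f.ker ⊓ N : Subgroup G) * f.ker.relIndex N = Nat.card N := by
        rw [← inf_relIndex_right f.ker N, ← relIndex_bot_left (f.ker ⊓ N),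
          relIndex_mul_relIndex ⊥ _ _ bot_le inf_le_right, relIndex_bot_left]
      rw [← h4, relIndex_ker]
      exact Nat.mul_dvd_mul_right (card_dvd_of_le inf_le_left) _
    rcases (Nat.Prime.dvd_mul Nat.prime_two).1 (h2.trans h3) with h5 | h5
    · exact hker h5
    · have h6 : N.map f ≤ OO (H.map f) := by
        rintro _ ⟨x, hx, rfl⟩
        exact hx.1
      haveI : Finite (H.map f : Subgroup G') := Finite.of_surjective _ (f.subgroupMap_surjective H)
      haveI : Finite (OO (H.map f)) :=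
        Finite.Set.subset ((H.map f : Subgroup G') : Set G') (fun x hx => OO_le _ hx)
      have h7 : ¬ 2 ∣ Nat.card (OO (H.map f)) := by
        rw [OO, card_map_of_injective (Subgroup.subtype_injective _)]
        have h := Lib.Cores.pPrimeCore_coprime (G := (H.map f : Subgroup G')) 2
        intro h2
        have := Nat.dvd_gcd h2 (dvd_refl 2)
        rw [h] at this
        omega
      exact h7 (h5.trans (card_dvd_of_le h6))

/-- adjacency survives in the quotient -/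
theorem adj_img (hker : ¬ 2 ∣ Nat.card f.ker) (h : Adj Om H K L) : Adj (Cit.img f Om) (H.map f) (K.map f) (L.map f) := by
  refine ⟨⟨⟨K, h.1.1, rfl⟩, Subgroup.map_mono h.1.2⟩, ⟨⟨L, h.2.1.1, rfl⟩, Subgroup.map_mono h.2.1.2⟩, fun h1 => h.2.2 ?_⟩
  rw [← map_commutator, map_le_iff_le_comap] at h1
  refine (le_inf h1 ?_).trans (comap_OO_le hker H)
  rw [commutator_le]
  intro x hx y hy
  rw [commutatorElement_def]
  exact H.mul_mem (H.mul_mem (H.mul_mem (h.1.2 hx) (h.2.1.2 hy)) (H.inv_mem (h.1.2 hx))) (H.inv_mem (h.2.1.2 hy))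

theorem conn_img (hker : ¬ 2 ∣ Nat.card f.ker) (h : Conn Om H K L) :
    Conn (Cit.img f Om) (H.map f) (K.map f) (L.map f) := by
  induction h with
  | refl => exact .refl
  | tail _ h2 ih => exact ih.tail (adj_img hker h2)

/-- `R1` comes back from odd quotients -/
theorem RW.r1_of_img (w : RW Om U) (hker : ¬ 2 ∣ Nat.card f.ker) (h : R1 (Cit.img f Om) (H.map f)) : R1 Om H := by
  intro K hK L hL hKH hLH hKL hc
  exact h _ ⟨K, hK, rfl⟩ _ ⟨L, hL, rfl⟩ (Subgroup.map_mono hKH) (Subgroup.map_mono hLH)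
    (w.orth_map hK (inf_ker_of_odd hker (w.two K hK)) hKL) (conn_img hker hc)

end odd

/-! ### Central quotients -/

section cen

variable {G' : Type*} [Group G'] {f : G →* G'} [Finite G]

/-- `f` is injective on `Om` -/
theorem RW.eq_of_map_eq (w : RW Om U) (hC : f.ker ≤ center G) (hKC : ∀ K ∈ Om, K ⊓ f.ker = ⊥) (hK : K ∈ Om)
    (hL : L ∈ Om) (hKL : K.map f = L.map f) : K = L := by
  by_contra hne
  -- `zz K = [y, v]`
  obtain ⟨v, hv, hv4⟩ := w.exists_v hK
  obtain ⟨y, hy, hyX⟩ := w.exists_y hK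
  have hvK := w.vch.le K hK hv
  have h1 := w.y_inv hK hy hyX hv
  obtain ⟨v', hv', hvv⟩ : f v ∈ L.map f := by rw [← hKL]; exact ⟨v, hvK, rfl⟩
  obtain ⟨y', hy', hyy⟩ : f y ∈ L.map f := by rw [← hKL]; exact ⟨y, hy, rfl⟩
  have hcen : ∀ {a b : G}, f a = f b → ∀ x : G, x * (a⁻¹ * b) = a⁻¹ * b * x := by
    intro a b hab x
    exact mem_center_iff.1 (hC (by rw [MonoidHom.mem_ker, map_mul, map_inv, hab, inv_mul_cancel])) x
  have e1 : y' * v' * y'⁻¹ * v'⁻¹ = y * v * y⁻¹ * v⁻¹ := by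
    have c1 := hcen hyy.symm
    have c2 := hcen hvv.symm
    have f1 : y' = y * (y⁻¹ * y') := by group
    have f2 : v' = v * (v⁻¹ * v') := by group
    set c := y⁻¹ * y' with hc
    set d := v⁻¹ * v' with hd
    rw [f1, f2]
    have g1 : ∀ x : G, Commute c x := fun x => (c1 x).symm
    have g2 : ∀ x : G, Commute d x := fun x => (c2 x).symm
    calc y * c * (v * d) * (y * c)⁻¹ * (v * d)⁻¹ = y * (c * (v * d * c⁻¹)) * y⁻¹ * (d⁻¹ * v⁻¹) := by group
      _ = y * ((v * d * c⁻¹) * c) * y⁻¹ * (d⁻¹ * v⁻¹) := by rw [(g1 _).eq]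
      _ = y * v * (d * (y⁻¹ * d⁻¹)) * v⁻¹ := by group
      _ = y * v * ((y⁻¹ * d⁻¹) * d) * v⁻¹ := by rw [(g2 _).eq]
      _ = y * v * y⁻¹ * v⁻¹ := by group
  have h2 : v * v = zz K := w.sq_eq hK hv hv4
  have e2 : zz K ∈ L := by
    have e3 : (y * v * y⁻¹ * v⁻¹)⁻¹ = zz K := by rw [h1, mul_inv_rev, inv_inv, h2]
    rw [← e3, ← e1]
    exact L.inv_mem (L.mul_mem (L.mul_mem (L.mul_mem hy' hv') (L.inv_mem hy')) (L.inv_mem hv'))
  have e4 : zz K = zz L := w.hyp.uniq L hL _ e2 (w.hyp.orderOf_zz hK)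
  exact w.not_comm_map hK (hKC K hK) hKL fun x hx y hy => w.comm_of_zz_eq hK hL e4 hne hx hy

/-- **central quotients** -/
theorem RW.imgc (w : RW Om U) (hf : Function.Surjective f) (hC : f.ker ≤ center G)
    (hKC : ∀ K ∈ Om, K ⊓ f.ker = ⊥) : RW (Cit.img f Om) (imgU f Om U) := by
  refine w.img_aux hf (QuoCen.hyp_img_central w.hyp hf hC hKC) hKC ?_ ?_
  · intro K hK L hL hKL
    rw [w.eq_of_map_eq hC hKC hK hL hKL]
  · intro K hK L hL v hv u hu hv4 hu4 hc
    have hzu : u * u = zz L := w.sq_eq hL hu hu4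
    have hc' : f v * f (zz L) = f (zz L) * f v := by
      rw [← hzu, map_mul, ← mul_assoc, hc, mul_assoc, hc, mul_assoc]
    have hvK := w.vch.le K hK hv
    have h1 : v * zz L = zz L * v := by
      refine QuoCen.comm_of_central w.hyp hK hL hC (hKC K hK) hvK
        ((w.two K hK).to_le (zpowers_le.2 hvK)) hv4.ge ?_
      rw [MonoidHom.mem_ker, map_mul, map_mul, map_mul, map_inv, map_inv, hc']
      group
    rcases w.comm_of_zz_comm hK hL hv hv4 h1 with h2 | h2
    · left; rw [h2]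
    · right
      rintro _ ⟨x, hx, rfl⟩ _ ⟨y, hy, rfl⟩
      rw [← map_mul, ← map_mul, h2 x hx y hy]

/-- `[K, L] ≤ ker f`, `ker f` central: `[K, L] = 1` -/
theorem RW.comm_of_commutator_le_ker (w : RW Om U) (hC : f.ker ≤ center G) (hKC : ∀ K ∈ Om, K ⊓ f.ker = ⊥) (hK : K ∈ Om)
    (hL : L ∈ Om) (h : ⁅K, L⁆ ≤ f.ker) : ∀ x ∈ K, ∀ y ∈ L, x * y = y * x := by
  obtain ⟨v, hv, hv4⟩ := w.exists_v hK
  have hvK := w.vch.le K hK hv
  have h1 : v * zz L = zz L * v := by
    refine QuoCen.comm_of_central w.hyp hK hL hC (hKC K hK) hvK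
      ((w.two K hK).to_le (zpowers_le.2 hvK)) hv4.ge ?_
    exact h (commutator_mem_commutator hvK (w.hyp.zz_mem hL))
  rcases w.comm_of_zz_comm hK hL hv hv4 h1 with h2 | h2
  · exfalso
    subst h2
    obtain ⟨x, hx, y, hy, hxy⟩ := w.not_comm hK
    have h3 : x * y * x⁻¹ * y⁻¹ ∈ K ⊓ f.ker :=
      ⟨K.mul_mem (K.mul_mem (K.mul_mem hx hy) (K.inv_mem hx)) (K.inv_mem hy), h (commutator_mem_commutator hx hy)⟩
    rw [hKC K hK, mem_bot, mul_inv_eq_one, mul_inv_eq_iff_eq_mul] at h3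
    exact hxy h3
  · exact h2

theorem OO_le_OO_of_normal {M : Subgroup G} (hHM : H ≤ M) (hn : M ≤ normalizer (H : Set G)) : OO H ≤ OO M := by
  refine le_OO ((OO_le H).trans hHM) ?_ (odd_OO H)
  intro g hg
  rw [mem_normalizer_iff_cj, ← OO_cj, mem_normalizer_iff_cj.1 (hn hg)]

/-- `O(G) = 1`, `Z` a central 2-group, `N / Z` of odd order: `N = Z` -/
theorem le_of_odd_relIndex {N Z : Subgroup G} (hN : N.Normal) (hZ : Z ≤ center G) (hZN : Z ≤ N) (hZ2 : IsPGroup 2 Z)
    (hO : OO (⊤ : Subgroup G) = ⊥) (hodd : ¬ 2 ∣ Z.relIndex N) : N ≤ Z := by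
  haveI : Fact (Nat.Prime 2) := ⟨Nat.prime_two⟩
  have hcen : ∀ z ∈ Z.subgroupOf N, ∀ x : N, x * z = z * x := by
    intro z hz x
    exact Subtype.ext (mem_center_iff.1 (hZ hz) x)
  haveI hZn : (Z.subgroupOf N).Normal := by
    refine ⟨fun z hz x => ?_⟩
    rw [hcen z hz x, mul_inv_cancel_right]
    exact hz
  have hcop : Nat.Coprime (Nat.card (Z.subgroupOf N)) (Z.subgroupOf N).index := by
    obtain ⟨k, hk⟩ := (IsPGroup.iff_card (p := 2)).1 hZ2
    rw [Nat.card_congr (subgroupOfEquivOfLe hZN).toEquiv, hk]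
    exact Nat.Coprime.pow_left k ((Nat.Prime.coprime_iff_not_dvd Nat.prime_two).2 hodd)
  obtain ⟨C, hC⟩ := exists_right_complement'_of_coprime hcop
  have hCn : (⊤ : Subgroup N) ≤ normalizer (C : Set N) := by
    rw [← hC.sup_eq_top]
    refine sup_le ?_ le_normalizer
    intro z hz
    rw [mem_normalizer_iff]
    intro x
    have h1 : z * x * z⁻¹ = x := by rw [← hcen z hz x, mul_inv_cancel_right]
    rw [h1]
  have hCo : ¬ 2 ∣ Nat.card C := by
    rw [← hC.symm.index_eq_card]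
    exact hodd
  have h1 : C ≤ OO (⊤ : Subgroup N) := le_OO le_top hCn hCo
  have h2 : C.map N.subtype ≤ OO N := by
    have h3 := OO_map N.subtype N.subtype_injective ⊤
    rw [top_map_subtype] at h3
    rw [h3]
    exact Subgroup.map_mono h1
  have h3 : C = ⊥ := by
    have h4 : OO N ≤ OO (⊤ : Subgroup G) := OO_le_OO_of_normal le_top (by rw [normalizer_eq_top_iff.2 hN])
    rw [hO] at h4
    rw [eq_bot_iff]
    intro x hx
    have h5 : (x : G) ∈ (⊥ : Subgroup G) := h4 (h2 ⟨x, hx, rfl⟩)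
    rw [mem_bot] at h5 ⊢
    exact Subtype.ext h5
  have h4 := hC.sup_eq_top
  rw [h3, sup_bot_eq, subgroupOf_eq_top] at h4
  exact h4

theorem RW.adj_imgc (w : RW Om U) (hf : Function.Surjective f) (hC : f.ker ≤ center G) (hk2 : IsPGroup 2 f.ker)
    (hKC : ∀ K ∈ Om, K ⊓ f.ker = ⊥) (hO : OO (⊤ : Subgroup G) = ⊥) (h : Adj Om ⊤ K L) :
    Adj (Cit.img f Om) ⊤ (K.map f) (L.map f) := by
  haveI : Finite G' := Finite.of_surjective f hf
  refine ⟨⟨⟨K, h.1.1, rfl⟩, le_top⟩, ⟨⟨L, h.2.1.1, rfl⟩, le_top⟩, fun h1 => h.2.2 ?_⟩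
  have hn' : (OO (⊤ : Subgroup G')).Normal :=
    normalizer_eq_top_iff.1 (top_le_iff.1 (le_normalizer_OO (⊤ : Subgroup G')))
  have hn : ((OO (⊤ : Subgroup G')).comap f).Normal := hn'.comap f
  have h2 : (OO (⊤ : Subgroup G')).comap f ≤ f.ker := by
    refine le_of_odd_relIndex hn hC ?_ hk2 hO ?_
    · intro x hx
      rw [mem_comap, MonoidHom.mem_ker.1 hx]
      exact one_mem _
    · rw [relIndex_ker, map_comap_eq_self_of_surjective hf]
      exact odd_OO _
  rw [← map_commutator, map_le_iff_le_comap] at h1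
  have h3 := w.comm_of_commutator_le_ker hC hKC h.1.1 h.2.1.1 (h1.trans h2)
  rw [commutator_le]
  intro x hx y hy
  rw [commutatorElement_def, h3 x hx y hy, mul_inv_cancel_right, mul_inv_cancel]
  exact one_mem _

/-- `R1` comes back from central quotients, `O(G) = 1` -/
theorem RW.r1_of_imgc (w : RW Om U) (hf : Function.Surjective f) (hC : f.ker ≤ center G) (hk2 : IsPGroup 2 f.ker)
    (hKC : ∀ K ∈ Om, K ⊓ f.ker = ⊥) (hO : OO (⊤ : Subgroup G) = ⊥) (h : R1 (Cit.img f Om) ⊤) : R1 Om ⊤ := by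
  have key : ∀ {A B : Subgroup G}, Conn Om ⊤ A B → Conn (Cit.img f Om) ⊤ (A.map f) (B.map f) := by
    intro A B hAB
    induction hAB with
    | refl => exact .refl
    | tail _ h2 ih => exact ih.tail (w.adj_imgc hf hC hk2 hKC hO h2)
  intro K hK L hL _ _ hKL hc
  exact h _ ⟨K, hK, rfl⟩ _ ⟨L, hL, rfl⟩ le_top le_top (w.orth_map hK (hKC K hK) hKL) (key hc)

end cen

/-! ### Subfamilies, isolated members, central `zz K` -/

section red

variable [Finite G]

/-- subfamilies -/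
theorem RW.sub (w : RW Om U) {Om' : Set (Subgroup G)} (hsub : Om' ⊆ Om) (hc : ∀ K ∈ Om', ∀ g, cj g K ∈ Om') :
    RW Om' U :=
  { hyp := QuoCen.hyp_subset w.hyp hsub hc
    two := fun K hK => w.two K (hsub hK)
    vch :=
      { le := fun K hK => w.vch.le K (hsub hK)
        cj := fun K hK => w.vch.cj K (hsub hK)
        oo := fun K hK => w.vch.oo K (hsub hK)
        card := fun K hK => w.vch.card K (hsub hK)
        ex := fun K hK => w.vch.ex K (hsub hK) }
    eqc := fun K hK L hL => w.eqc K (hsub hK) L (hsub hL)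
    lin := fun K hK L hL => w.lin K (hsub hK) L (hsub hL) }

/-- `⟨Om⟩` is normal -/
theorem sSup_le_normalizer {Om' : Set (Subgroup G)} (hc : ∀ K ∈ Om', ∀ g, cj g K ∈ Om') :
    (⊤ : Subgroup G) ≤ normalizer (sSup Om' : Subgroup G) := by
  have key : ∀ g : G, cj g (sSup Om') ≤ sSup Om' := by
    intro g
    rw [cj_def, map_le_iff_le_comap, sSup_le_iff]
    intro K hK
    rw [← map_le_iff_le_comap]
    exact le_sSup (hc K hK g)
  intro g _
  rw [mem_normalizer_iff_cj]
  refine le_antisymm (key g) ?_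
  have h1 := cj_mono g (key g⁻¹)
  rwa [cj_cj_inv] at h1

theorem not_le_OO_top {M : Subgroup G} (hn : ⊤ ≤ normalizer (M : Set G)) (hKL : ¬ ⁅K, L⁆ ≤ OO (⊤ : Subgroup G)) :
    ¬ ⁅K, L⁆ ≤ OO M := fun h => hKL (h.trans (OO_le_OO_of_normal le_top hn))

/-- `R1` for `⟨Om⟩` gives `R1` -/
theorem r1_of_sSup (hc : ∀ K ∈ Om, ∀ g, cj g K ∈ Om) (h : R1 Om (sSup Om)) : R1 Om ⊤ := by
  have key : ∀ {A B : Subgroup G}, Conn Om ⊤ A B → Conn Om (sSup Om) A B := by
    intro A B hAB
    induction hAB with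
    | refl => exact .refl
    | tail _ h2 ih =>
      exact ih.tail ⟨⟨h2.1.1, le_sSup h2.1.1⟩, ⟨h2.2.1.1, le_sSup h2.2.1.1⟩,
        not_le_OO_top (sSup_le_normalizer hc) h2.2.2⟩
  intro K hK L hL _ _ hKL hcon
  exact h K hK L hL (le_sSup hK) (le_sSup hL) hKL (key hcon)

/-- the members which are not isolated -/
def NI (Om : Set (Subgroup G)) : Set (Subgroup G) :=
  {K | K ∈ Om ∧ ∃ L ∈ Om, L ≠ K ∧ ¬ ∀ x ∈ K, ∀ y ∈ L, x * y = y * x}

theorem cj_mem_NI (hc : ∀ K ∈ Om, ∀ g, cj g K ∈ Om) : ∀ K ∈ NI Om, ∀ g, cj g K ∈ NI Om := by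
  rintro K ⟨hK, L, hL, hne, hLK⟩ g
  refine ⟨hc K hK g, cj g L, hc L hL g, fun h => hne (cj_inj.1 h), fun h => hLK fun x hx y hy => ?_⟩
  have h1 := h _ (conj_mem_cj (g := g) hx) _ (conj_mem_cj (g := g) hy)
  have h2 : g * (x * y) * g⁻¹ = g * (y * x) * g⁻¹ := by
    calc g * (x * y) * g⁻¹ = g * x * g⁻¹ * (g * y * g⁻¹) := by group
      _ = g * y * g⁻¹ * (g * x * g⁻¹) := h1
      _ = g * (y * x) * g⁻¹ := by group
  simpa using h2

theorem comm_of_commutator {A B : Subgroup G} (h : ∀ x ∈ A, ∀ y ∈ B, x * y = y * x) {M : Subgroup G} : ⁅A, B⁆ ≤ M := by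
  rw [commutator_le]
  intro x hx y hy
  rw [commutatorElement_def, h x hx y hy, mul_inv_cancel_right, mul_inv_cancel]
  exact one_mem _

/-- isolated members may be dropped -/
theorem r1_of_NI (hc : ∀ K ∈ Om, ∀ g, cj g K ∈ Om) (h : R1 (NI Om) (sSup (NI Om))) : R1 Om ⊤ := by
  have key : ∀ {A B : Subgroup G}, Conn Om ⊤ A B → A = B ∨
      (A ∈ NI Om ∧ B ∈ NI Om ∧ Conn (NI Om) (sSup (NI Om)) A B) := by
    intro A B hAB
    induction hAB with
    | refl => exact Or.inl rfl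
    | @tail B C _ h2 ih =>
      by_cases hBC : B = C
      · rwa [← hBC]
      right
      have hB : B ∈ NI Om := ⟨h2.1.1, C, h2.2.1.1, Ne.symm hBC, fun h => h2.2.2 (comm_of_commutator h)⟩
      have hC : C ∈ NI Om := ⟨h2.2.1.1, B, h2.1.1, hBC, fun h => h2.2.2
        (comm_of_commutator fun x hx y hy => (h y hy x hx).symm)⟩
      have hadj : Adj (NI Om) (sSup (NI Om)) B C := ⟨⟨hB, le_sSup hB⟩, ⟨hC, le_sSup hC⟩,
        not_le_OO_top (sSup_le_normalizer (cj_mem_NI hc)) h2.2.2⟩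
      rcases ih with rfl | ⟨h3, -, h5⟩
      · exact ⟨hB, hC, Relation.ReflTransGen.refl.tail hadj⟩
      · exact ⟨h3, hC, h5.tail hadj⟩
  intro K hK L hL _ _ hKL hcon
  rcases key hcon with h1 | ⟨h1, h2, h3⟩
  · exact hKL.1 h1
  · exact h K h1 L h2 (le_sSup h1) (le_sSup h2) hKL h3

/-- if some member is isolated, the members which are not isolated generate a proper subgroup -/
theorem RW.sSup_NI_ne (w : RW Om U) (hK : K ∈ Om) (hKN : K ∉ NI Om) : sSup (NI Om) ≠ ⊤ := by
  intro htop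
  have h1 : ∀ L ∈ NI Om, ∀ x ∈ K, ∀ y ∈ L, x * y = y * x := by
    intro L hL
    by_contra h2
    exact hKN ⟨hK, L, hL.1, fun h => hKN (by rw [← h]; exact hL), h2⟩
  have h2 : sSup (NI Om) ≤ centralizer (K : Set G) := by
    rw [sSup_le_iff]
    intro L hL y hy
    rw [mem_centralizer_iff]
    exact fun x hx => h1 L hL x hx y hy
  rw [htop] at h2
  obtain ⟨x, hx, y, hy, hxy⟩ := w.not_comm hK
  exact hxy (mem_centralizer_iff.1 (h2 (mem_top y)) x hx)

/-- if `zz K` is central, `K` is isolated -/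
theorem RW.not_mem_NI_of_central (w : RW Om U) (hK : K ∈ Om) (hz : zz K ∈ center G) : K ∉ NI Om := by
  rintro ⟨-, L, hL, hne, hLK⟩
  obtain ⟨v, hv, hv4⟩ := w.exists_v hL
  rcases w.comm_of_zz_comm hL hK hv hv4 (mem_center_iff.1 hz v) with h1 | h1
  · exact hne h1
  · exact hLK fun x hx y hy => (h1 y hy x hx).symm

end red

/-! ### The reduction -/

/-- the reduced worlds: `R1` holds for the proper subgroups, `O(G) = Z(G) = 1`, `G = ⟨Om⟩`, no isolated members -/
structure Red (Om : Set (Subgroup G)) (U : Subgroup G → Subgroup G) : Prop extends RW Om U where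
  ih : ∀ H : Subgroup G, H ≠ ⊤ → R1 Om H
  core : OO (⊤ : Subgroup G) = ⊥
  cen : center G = ⊥
  gen : sSup Om = ⊤
  iso : ∀ K ∈ Om, ∃ L ∈ Om, L ≠ K ∧ ¬ ∀ x ∈ K, ∀ y ∈ L, x * y = y * x

universe u

theorem r1_of_red_aux
    (hred : ∀ (G : Type u) [Group G] [Finite G] (Om : Set (Subgroup G)) (U : Subgroup G → Subgroup G),
      Red Om U → R1 Om ⊤) :
    ∀ (n : ℕ) (G : Type u) [Group G] [Finite G] (Om : Set (Subgroup G)) (U : Subgroup G → Subgroup G),
      Nat.card G = n → RW Om U → R1 Om ⊤ := by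
  haveI : Fact (Nat.Prime 2) := ⟨Nat.prime_two⟩
  intro n
  induction n using Nat.strong_induction_on with
  | _ n ih =>
    intro G _ _ Om U hn w
    -- proper subgroups, all subfamilies
    have hsub : ∀ {Om' : Set (Subgroup G)}, RW Om' U → ∀ H : Subgroup G, H ≠ ⊤ → R1 Om' H := by
      intro Om' w' H hH
      rw [← r1_restr_top]
      refine ih _ ?_ H _ _ rfl (w'.restr H)
      rw [← hn]
      refine lt_of_le_of_ne (Nat.le_of_dvd Nat.card_pos (card_subgroup_dvd_card H)) fun h => hH ?_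
      exact (card_eq_iff_eq_top H).1 h
    -- quotients
    have hquo : ∀ {N : Subgroup G} [N.Normal], N ≠ ⊥ → Nat.card (G ⧸ N) < n := by
      intro N _ hN
      rw [← hn, card_eq_card_quotient_mul_card_subgroup N]
      have h1 : 1 < Nat.card N := (one_lt_card_iff_ne_bot N).2 hN
      have h2 : 0 < Nat.card (G ⧸ N) := Nat.card_pos
      nlinarith
    by_cases hcore : OO (⊤ : Subgroup G) = ⊥
    swap
    · haveI hNn : (OO (⊤ : Subgroup G)).Normal :=
        normalizer_eq_top_iff.1 (top_le_iff.1 (le_normalizer_OO (⊤ : Subgroup G)))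
      have hker : ¬ 2 ∣ Nat.card (QuotientGroup.mk' (OO (⊤ : Subgroup G))).ker := by
        rw [QuotientGroup.ker_mk']
        exact odd_OO _
      refine w.r1_of_img (f := QuotientGroup.mk' (OO (⊤ : Subgroup G))) hker ?_
      rw [map_top_of_surjective _ (QuotientGroup.mk'_surjective _)]
      exact ih _ (hquo hcore) _ _ _ rfl (w.img (QuotientGroup.mk'_surjective _) hker)
    by_cases hgen : sSup Om = ⊤
    swap
    · exact r1_of_sSup w.hyp.conj (hsub w _ hgen)
    by_cases hiso : ∀ K ∈ Om, K ∈ NI Om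
    swap
    · simp only [not_forall] at hiso
      obtain ⟨K, hK, hKN⟩ := hiso
      exact r1_of_NI w.hyp.conj (hsub (w.sub (fun _ h => h.1) (cj_mem_NI w.hyp.conj)) _ (w.sSup_NI_ne hK hKN))
    by_cases hcen : center G = ⊥
    · exact hred G Om U { w with ih := hsub w, core := hcore, cen := hcen, gen := hgen, iso := fun K hK => (hiso K hK).2 }
    -- a central involution
    have h2 : 2 ∣ Nat.card (center G) := by
      by_contra h3
      apply hcen
      have h4 : center G ≤ OO (⊤ : Subgroup G) := le_OO le_top (by rw [normalizer_eq_top_iff.2 inferInstance]) h3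
      rwa [hcore, le_bot_iff] at h4
    obtain ⟨⟨e, he⟩, he2⟩ := exists_prime_orderOf_dvd_card' 2 h2
    rw [Subgroup.orderOf_mk] at he2
    have hle : zpowers e ≤ center G := zpowers_le.2 he
    haveI hNn : (zpowers e).Normal := by
      refine ⟨fun z hz x => ?_⟩
      rw [mem_center_iff.1 (hle hz) x, mul_inv_cancel_right]
      exact hz
    have hkr : (QuotientGroup.mk' (zpowers e)).ker = zpowers e := QuotientGroup.ker_mk' _
    have hKC : ∀ K ∈ Om, K ⊓ (QuotientGroup.mk' (zpowers e)).ker = ⊥ := by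
      intro K hK
      rw [hkr, eq_bot_iff]
      rintro x ⟨hx, hxe⟩
      rw [mem_bot]
      by_contra hx1
      have h3 : x * x = 1 := by
        obtain ⟨i, rfl⟩ := hxe
        change e ^ i * e ^ i = 1
        rw [← zpow_add, ← two_mul, zpow_mul]
        have h4 : e ^ (2 : ℤ) = 1 := by
          rw [show (2 : ℤ) = ((2 : ℕ) : ℤ) by norm_num, zpow_natCast, ← he2, pow_orderOf_eq_one]
        rw [h4, one_zpow]
      have h4 : x = zz K := w.hyp.eq_zz hK hx h3 hx1
      exact w.not_mem_NI_of_central hK (by rw [← h4]; exact hle hxe) (hiso K hK)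
    refine w.r1_of_imgc (f := QuotientGroup.mk' (zpowers e)) (QuotientGroup.mk'_surjective _) (by rw [hkr]; exact hle)
      ?_ hKC hcore ?_
    · rw [hkr]
      exact IsPGroup.of_card (n := 1) (by rw [Nat.card_zpowers, he2, pow_one])
    · refine ih _ (hquo ?_) _ _ _ rfl (w.imgc (QuotientGroup.mk'_surjective _) (by rw [hkr]; exact hle) hKC)
      rw [ne_eq, zpowers_eq_bot]
      rintro rfl
      rw [orderOf_one] at he2
      omega

/-- **REDUCTION**: `R1` for the reduced worlds gives `R1` for all subgroups of all worlds -/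
theorem r1_of_red
    (hred : ∀ (G : Type u) [Group G] [Finite G] (Om : Set (Subgroup G)) (U : Subgroup G → Subgroup G),
      Red Om U → R1 Om ⊤)
    {G : Type u} [Group G] [Finite G] {Om : Set (Subgroup G)} {U : Subgroup G → Subgroup G} (w : RW Om U)
    (H : Subgroup G) : R1 Om H := by
  rw [← r1_restr_top]
  exact r1_of_red_aux hred _ H _ _ rfl (w.restr H)

end Cfsg.Agent.Cit.CV1
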