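import Cfsg.Agent.Cit.Nil.CV1.LemT.TwoB

/-!
# (6b)(CV), rank one: LEMMA T

`TW.no_mm` : there are no M/M pairs.  `lemT` : LEMMA T.
-/

set_option autoImplicit false
set_option linter.style.haveILetI false
set_option linter.unusedSectionVars false

namespace Cfsg.Agent.Cit.CV1

open Subgroup Cfsg Cit Tau CV

variable {G : Type*} [Group G] [Finite G] {Om : Set (Subgroup G)} {U : Subgroup G → Subgroup G}

/-- there are no M/M pairs -/
theorem TW.no_mm (h : TW Om U) (z s : G) : ¬ MM Om z s := fun m => by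
  obtain ⟨z', s', K, N, m'⟩ := h.exists_m2 m
  exact h.m2_false m'

/-- **LEMMA T** -/
theorem lemT (w : RW Om U) (hR : ∀ e : G, e ≠ 1 → R1 Om (centralizer {e})) : LemT Om U :=
  TW.lemT_of ⟨w, hR⟩ (TW.no_mm ⟨w, hR⟩)

end Cfsg.Agent.Cit.CV1
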