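import Cfsg.Agent.Cit.Nil.CV1.World
import Cfsg.Agent.Cit.CoreTools
import Cfsg.Agent.Cit.Nil.ROne.Close
import Cfsg.Agent.GH.QAZStar
import Cfsg.Agent.TwoFusion.StronglyEmbeddedBasic

/-!
# (6b)(CV), rank one, section 7: the T-free end

`TF Om` : `zz K ∈ S` implies `K ≤ S` (`S` a Sylow 2-subgroup, `K ∈ Om`): no T-pairs.
`WZ Om S` : generated by the `zz K`, `K ≤ S`.
`NoClo Om` : the N_0-closure theorem (section 4).

* `wz_closed` : `TF` and `NoClo` imply that `WZ Om S` is strongly closed;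
* `tfree_false` : impossible for `O(G) = 1`, `O_2(G) = 1` (S0215, S1169).

Text: `blueprints/CIT-6b-CV-rank1-helper516.md`.
-/

set_option autoImplicit false
set_option linter.style.haveILetI false
set_option linter.unusedSectionVars false

namespace Cfsg.Agent.Cit.Nil.CV1.TFree

open Subgroup Cfsg Cit Tau CV Cit.CV1 Cfsg.Agent.Cit.Comp
open Cfsg.Agent.SignalizersComponents.Components

variable {G : Type*} [Group G]

/-- no T-pairs -/
def TF (Om : Set (Subgroup G)) : Prop :=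
  ∀ S : Sylow 2 G, ∀ K ∈ Om, zz K ∈ (S : Subgroup G) → K ≤ S

/-- `W(S) = ⟨zz K | K ≤ S⟩` -/
def WZ (Om : Set (Subgroup G)) (S : Subgroup G) : Subgroup G :=
  closure {z | ∃ K ∈ Om, K ≤ S ∧ zz K = z}

/-- the N_0-closure theorem -/
def NoClo (Om : Set (Subgroup G)) : Prop :=
  ∀ S T : Sylow 2 G, ∀ u ∈ (S : Subgroup G), u ∈ (T : Subgroup G) →
    (∀ K ∈ Om, K ≤ (S : Subgroup G) → cj u K = K) → ∀ K ∈ Om, K ≤ (T : Subgroup G) → cj u K = K

variable [Finite G] {Om : Set (Subgroup G)} {U : Subgroup G → Subgroup G} {E K L S T : Subgroup G}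
  {a b e f g s t u v w x y z : G}

/-- members in a common 2-group are equal or commute -/
theorem eq_or_comm (h : RW Om U) (hK : K ∈ Om) (hL : L ∈ Om) (hS : IsPGroup 2 S) (hKS : K ≤ S) (hLS : L ≤ S) :
    K = L ∨ ∀ x ∈ K, ∀ y ∈ L, x * y = y * x := by
  obtain ⟨v, hv, hv4⟩ := h.exists_v hK
  obtain ⟨w, hw, hw4⟩ := h.exists_v hL
  exact h.lin K hK L hL v hv w hw hv4 hw4 (h.vch.commute h.hyp hS hK hL hv hw hv4 hw4
    (hKS (h.vch.le K hK hv)) (hLS (h.vch.le L hL hw)))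

/-- the centre -/
theorem comm_self_zz (h : RW Om U) (hK : K ∈ Om) (hx : x ∈ K) : x * zz K = zz K * x :=
  h.hyp.comm_zz hK (le_normalizer hx)

/-- `zz L` commutes with `K` -/
theorem comm_zz_of_le (h : RW Om U) (hK : K ∈ Om) (hL : L ∈ Om) (hS : IsPGroup 2 S) (hKS : K ≤ S) (hLS : L ≤ S)
    (hx : x ∈ K) : x * zz L = zz L * x := by
  rcases eq_or_comm h hK hL hS hKS hLS with h1 | h1
  · subst h1
    exact comm_self_zz h hK hx
  · exact h1 x hx _ (h.hyp.zz_mem hL)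

/-- two commuting involutions in a Sylow 2-subgroup -/
theorem exists_sylow_two (ha : a * a = 1) (hb : b * b = 1) (hab : a * b = b * a) :
    ∃ S : Sylow 2 G, a ∈ (S : Subgroup G) ∧ b ∈ (S : Subgroup G) := by
  haveI : Fact (Nat.Prime 2) := ⟨Nat.prime_two⟩
  have h1 : ∀ {a : G}, a * a = 1 → IsPGroup 2 (zpowers a) := by
    rintro a ha ⟨x, hx⟩
    refine ⟨1, Subtype.ext ?_⟩
    obtain ⟨k, rfl⟩ := hx
    change (a ^ k) ^ 2 ^ 1 = 1
    rw [pow_one, ← zpow_natCast, ← zpow_mul, mul_comm, zpow_mul, zpow_natCast, pow_two, ha, one_zpow]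
  have h2 : zpowers b ≤ normalizer (zpowers a : Set G) := by
    rw [zpowers_le]
    have h3 : b ∈ centralizer (zpowers a : Set G) := by
      rw [mem_centralizer_iff]
      rintro _ ⟨k, rfl⟩
      exact ((show Commute a b from hab).zpow_left k).eq
    exact centralizer_le_normalizer _ h3
  obtain ⟨S, hS⟩ := ((h1 ha).to_sup_of_normal_left' (h1 hb) h2).exists_le_sylow
  exact ⟨S, hS (mem_sup_left (mem_zpowers a)), hS (mem_sup_right (mem_zpowers b))⟩

/-- commuting `zz K`, `zz L` -/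
theorem exists_sylow_of_comm (h : RW Om U) (htf : TF Om) (hK : K ∈ Om) (hL : L ∈ Om)
    (hc : zz K * zz L = zz L * zz K) : ∃ S : Sylow 2 G, K ≤ S ∧ L ≤ S := by
  obtain ⟨S, h1, h2⟩ := exists_sylow_two (h.hyp.zz_mul hK) (h.hyp.zz_mul hL) hc
  exact ⟨S, htf S K hK h1, htf S L hL h2⟩

/-! ### `W(S)` is strongly closed -/

theorem WZ_le (h : RW Om U) (S : Subgroup G) : WZ Om S ≤ S := by
  rw [WZ, closure_le]
  rintro _ ⟨K, hK, hKS, rfl⟩
  exact hKS (h.hyp.zz_mem hK)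

theorem WZ_mono {S T : Subgroup G} (hh : ∀ K ∈ Om, K ≤ S → K ≤ T) : WZ Om S ≤ WZ Om T := by
  rw [WZ, WZ]
  apply Subgroup.closure_mono
  rintro _ ⟨K, hK, hKS, rfl⟩
  exact ⟨K, hK, hh K hK hKS, rfl⟩

theorem WZ_cj (h : RW Om U) (g : G) (S : Subgroup G) : WZ Om (cj g S) = cj g (WZ Om S) := by
  have key : ∀ (g : G) (S : Subgroup G), cj g (WZ Om S) ≤ WZ Om (cj g S) := by
    intro g S
    have h1 : WZ Om S ≤ cj g⁻¹ (WZ Om (cj g S)) := by
      rw [WZ, closure_le]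
      rintro _ ⟨K, hK, hKS, rfl⟩
      have h2 := conj_mem_cj (g := g⁻¹) (K := WZ Om (cj g S))
        (subset_closure ⟨cj g K, h.hyp.conj K hK g, cj_mono g hKS, rfl⟩)
      rw [h.hyp.zz_cj hK] at h2
      have h3 : g⁻¹ * (g * zz K * g⁻¹) * g⁻¹⁻¹ = zz K := by group
      rwa [h3] at h2
    have h2 := cj_mono g h1
    rwa [cj_cj_inv] at h2
  refine le_antisymm ?_ (key g S)
  have h1 := cj_mono g (key g⁻¹ (cj g S))
  rwa [cj_cj_inv, cj_inv_cj] at h1

theorem coe_smul_eq (g : G) (S : Sylow 2 G) : ((g • S : Sylow 2 G) : Subgroup G) = cj g S := by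
  ext x
  rw [mem_cj, Sylow.coe_subgroup_smul, Subgroup.mem_pointwise_smul_iff_inv_smul_mem]
  simp [MulAut.smul_def]

theorem card_WZ_eq (h : RW Om U) (S T : Sylow 2 G) :
    Nat.card (WZ Om (S : Subgroup G)) = Nat.card (WZ Om (T : Subgroup G)) := by
  haveI : Fact (Nat.Prime 2) := ⟨Nat.prime_two⟩
  obtain ⟨g, rfl⟩ := MulAction.exists_smul_eq G S T
  rw [coe_smul_eq, WZ_cj h, card_cj]

theorem WZ_eq_of_le (h : RW Om U) (S T : Sylow 2 G) (hh : WZ Om (S : Subgroup G) ≤ WZ Om (T : Subgroup G)) :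
    WZ Om (S : Subgroup G) = WZ Om (T : Subgroup G) :=
  Subgroup.eq_of_le_of_card_ge hh (card_WZ_eq h S T).ge

/-- `W(S)` commutes with the members in `S` -/
theorem WZ_comm (h : RW Om U) (hS : IsPGroup 2 S) (hu : u ∈ WZ Om S) (hK : K ∈ Om) (hKS : K ≤ S) (hx : x ∈ K) :
    x * u = u * x := by
  have h1 : WZ Om S ≤ centralizer {x} := by
    rw [WZ, closure_le]
    rintro _ ⟨L, hL, hLS, rfl⟩
    exact mem_centralizer_singleton_iff.2 (comm_zz_of_le h hK hL hS hKS hLS hx).symm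
  exact (mem_centralizer_singleton_iff.1 (h1 hu)).symm

theorem cj_eq_self_of_comm (hc : ∀ x ∈ K, x * u = u * x) : cj u K = K := by
  rw [← mem_normalizer_iff_cj]
  apply centralizer_le_normalizer
  rw [mem_centralizer_iff]
  exact hc

theorem WZ_mulComm (h : RW Om U) (hS : IsPGroup 2 S) (hu : u ∈ WZ Om S) (hw : w ∈ WZ Om S) : u * w = w * u := by
  have h1 : WZ Om S ≤ centralizer {u} := by
    rw [WZ, closure_le]
    rintro _ ⟨L, hL, hLS, rfl⟩
    exact mem_centralizer_singleton_iff.2 (WZ_comm h hS hu hL hLS (h.hyp.zz_mem hL))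
  exact (mem_centralizer_singleton_iff.1 (h1 hw)).symm

/-- **`W(S)` is strongly closed** -/
theorem wz_closed (h : RW Om U) (htf : TF Om) (hN : NoClo Om) (S : Sylow 2 G) :
    IsStronglyClosed (WZ Om (S : Subgroup G)) (S : Subgroup G) := by
  haveI : Fact (Nat.Prime 2) := ⟨Nat.prime_two⟩
  refine ⟨WZ_le h _, ?_⟩
  intro w hw g hg
  obtain ⟨u, hu⟩ : ∃ u, u = g * w * g⁻¹ := ⟨_, rfl⟩
  rw [← hu] at hg ⊢
  -- `u ∈ W(S1)`
  have hu1 : u ∈ WZ Om ((g • S : Sylow 2 G) : Subgroup G) := by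
    rw [coe_smul_eq, WZ_cj h, hu]
    exact conj_mem_cj hw
  set S1 : Sylow 2 G := g • S with hS1
  have hn1 : ∀ K ∈ Om, K ≤ (S1 : Subgroup G) → cj u K = K := fun K hK hKS =>
    cj_eq_self_of_comm fun x hx => WZ_comm h S1.isPGroup' hu1 hK hKS hx
  have hn : ∀ K ∈ Om, K ≤ (S : Subgroup G) → cj u K = K := hN S1 S u (WZ_le h _ hu1) hg hn1
  -- `W(S) ≤ C(u)`
  have hc : WZ Om (S : Subgroup G) ≤ centralizer {u} := by
    rw [WZ, closure_le]
    rintro _ ⟨L, hL, hLS, rfl⟩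
    refine mem_centralizer_singleton_iff.2 ?_
    have h1 := h.hyp.comm_zz hL (mem_normalizer_iff_cj.2 (hn L hL hLS))
    exact h1.symm
  have hc1 : WZ Om (S1 : Subgroup G) ≤ centralizer {u} := by
    intro x hx
    exact mem_centralizer_singleton_iff.2 (WZ_mulComm h S1.isPGroup' hx hu1)
  have h2W : ∀ S : Sylow 2 G, IsPGroup 2 (WZ Om (S : Subgroup G)) := fun S => S.isPGroup'.to_le (WZ_le h _)
  -- a Sylow 2-subgroup of `C(u)` containing `W(S)`
  obtain ⟨R, hR, hWR⟩ := LB.exists_syl_ge (h2W S) hc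
  obtain ⟨R1, hR1, hWR1⟩ := LB.exists_syl_ge (h2W S1) hc1
  obtain ⟨c, hcu, hcR1⟩ := hR1.exists_conj hR
  have hcR : cj c (WZ Om (S1 : Subgroup G)) ≤ R := by
    rw [← hcR1]
    exact cj_mono c hWR1
  obtain ⟨S2, hS2, -⟩ := hR.exists_sylow_ge
  have e1 : WZ Om (S : Subgroup G) = WZ Om (S2 : Subgroup G) := by
    apply WZ_eq_of_le h
    apply WZ_mono
    intro K hK hKS
    exact htf S2 K hK (hS2 (hWR (subset_closure ⟨K, hK, hKS, rfl⟩)))
  have e2 : WZ Om ((c • S1 : Sylow 2 G) : Subgroup G) = WZ Om (S2 : Subgroup G) := by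
    apply WZ_eq_of_le h
    apply WZ_mono
    intro K hK hKS
    refine htf S2 K hK (hS2 (hcR ?_))
    rw [coe_smul_eq] at hKS
    have h3 : zz K ∈ WZ Om (cj c (S1 : Subgroup G)) := subset_closure ⟨K, hK, hKS, rfl⟩
    rwa [WZ_cj h] at h3
  rw [e1, ← e2, coe_smul_eq, WZ_cj h, mem_cj]
  have h3 : c⁻¹ * u * c = u := by
    rw [mul_assoc, ← mem_centralizer_singleton_iff.1 hcu, inv_mul_cancel_left]
  rw [h3]
  exact hu1

/-! ### The component -/

section comp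

variable (hO : pPrimeCore 2 G = ⊥) (hO2 : pCore 2 G = ⊥) (hev : EvQ G)

include hO hO2

/-- some component is not centralised by `zz K` -/
theorem exists_comp (h : RW Om U) (hK : K ∈ Om) : ∃ E : Subgroup G, IsComponent E ∧ ¬ E ≤ centralizer {zz K} := by
  by_contra hcon
  push Not at hcon
  apply h.hyp.zz_ne hK
  have h1 : zz K ∈ pCore 2 G := by
    refine OneComp.centralizer_genFit_le hO (OneComp.mem_centralizer_genFit hO (fun L hL => ?_) ?_)
    · have h2 := hcon L hL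
      rw [mem_centralizer_iff]
      exact fun l hl => mem_centralizer_singleton_iff.1 (h2 hl)
    · rw [hO2, mem_centralizer_iff]
      intro l hl
      rw [SetLike.mem_coe, mem_bot] at hl
      rw [hl, one_mul, mul_one]
  rwa [hO2, mem_bot] at h1

theorem eq_one_of_center (hE : IsComponent E) (hx : x ∈ E) (hc : ∀ y ∈ E, y * x = x * y) : x = 1 := by
  have h1 := CoreTools.mem_pCore_of_mem_center hO hE hx (mem_centralizer_iff.2 hc)
  rwa [hO2, mem_bot] at h1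

/-- components are simple -/
theorem simple (hE : IsComponent E) : IsSimpleGroup E := by
  haveI := quasisimple_nontrivial hE.2
  refine ⟨fun N hN => ?_⟩
  rcases quasisimple_normal hE.2 N hN with h1 | h1
  · exact Or.inr h1
  · left
    rw [eq_bot_iff]
    intro x hx
    have h2 := mem_center_iff.1 (h1 hx)
    exact mem_bot.2 (Subtype.ext (eq_one_of_center hO hO2 hE x.2 fun y hy => congrArg Subtype.val (h2 ⟨y, hy⟩)))

include hev

theorem OO_comp (hE : IsComponent E) : OO E = ⊥ := by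
  haveI := simple hO hO2 hE
  haveI : Fact (Nat.Prime 2) := ⟨Nat.prime_two⟩
  have h0 : (oddCore E).Normal := Lib.Cores.pPrimeCore_normal 2
  rcases h0.eq_bot_or_eq_top with h1 | h1
  · rw [OO, h1, Subgroup.map_bot]
  · exfalso
    apply odd_OO E
    have h2 : OO E = E := by
      rw [OO, h1, ← MonoidHom.range_eq_map, range_subtype]
    rw [h2]
    exact hev E hE.2

/-- Glauberman's theorem -/
theorem exists_conj (h : RW Om U) (hK : K ∈ Om) (hE : IsComponent E) (hEz : ¬ E ≤ centralizer {zz K}) :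
    ∃ f ∈ E, zz K * (f * zz K * f⁻¹) = f * zz K * f⁻¹ * zz K ∧ f * zz K * f⁻¹ ≠ zz K := by
  haveI : Fact (Nat.Prime 2) := ⟨Nat.prime_two⟩
  by_contra hcon
  push Not at hcon
  apply hEz
  have hzE : zz K ∈ normalizer (E : Set G) := mem_normalizer_iff_cj.2 (cj_zz_component h.hyp hev hK hE)
  obtain ⟨z, hz⟩ : ∃ z, z = zz K := ⟨_, rfl⟩
  have hz2 : z * z = 1 := by rw [hz]; exact h.hyp.zz_mul hK
  have hz1 : z ≠ 1 := by rw [hz]; exact h.hyp.zz_ne hK
  rw [← hz] at hcon hzE ⊢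
  obtain ⟨M, hM⟩ : ∃ M, M = E ⊔ zpowers z := ⟨_, rfl⟩
  have hzM : z ∈ M := by rw [hM]; exact mem_sup_right (mem_zpowers _)
  have hEM : E ≤ M := by rw [hM]; exact le_sup_left
  have hMn : M ≤ normalizer (E : Set G) := by rw [hM]; exact sup_le le_normalizer (zpowers_le.2 hzE)
  have key : ∀ m ∈ M, ∃ e ∈ E, m * z * m⁻¹ = e * z * e⁻¹ := by
    intro m hm
    rw [hM] at hm
    obtain ⟨e, he, q, hq, rfl⟩ := LB.exists_mul_of_mem_sup (zpowers_le.2 hzE) hm
    refine ⟨e, he, ?_⟩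
    obtain ⟨k, rfl⟩ := hq
    have h1 : z ^ k * z = z * z ^ k := ((Commute.refl z).zpow_left k).eq
    calc e * z ^ k * z * (e * z ^ k)⁻¹ = e * (z ^ k * z) * (z ^ k)⁻¹ * e⁻¹ := by group
      _ = e * z * e⁻¹ := by rw [h1]; group
  obtain ⟨N, hN, hNodd, hNz⟩ := GH.QA.zstar (G := M) (u := ⟨z, hzM⟩) (Subtype.ext hz2)
    (fun h1 => hz1 (congrArg Subtype.val h1)) (by
      rintro ⟨m, hm⟩ h1
      have h2 : z * (m * z * m⁻¹) = m * z * m⁻¹ * z := congrArg Subtype.val h1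
      obtain ⟨e, he, h3⟩ := key m hm
      apply Subtype.ext
      change m * z * m⁻¹ = z
      rw [h3] at h2 ⊢
      exact hcon e he h2)
  intro m hm
  rw [mem_centralizer_singleton_iff]
  have h3 : z * m * z⁻¹ * m⁻¹ ∈ N.map M.subtype ⊓ E := by
    refine ⟨⟨_, hNz ⟨m, hEM hm⟩, rfl⟩, ?_⟩
    exact E.mul_mem ((mem_normalizer_iff.1 hzE _).1 hm) (E.inv_mem hm)
  have h4 : N.map M.subtype ⊓ E ≤ OO E := by
    refine le_OO inf_le_right ?_ ?_
    · intro y hy
      rw [mem_normalizer_iff_cj, cj_inf, mem_normalizer_iff_cj.1 (le_normalizer hy)]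
      congr 1
      rw [← mem_normalizer_iff_cj]
      have h5 := (normal_subgroupOf_iff_le_normalizer (map_subtype_le N : N.map M.subtype ≤ _)).1 (by
        rw [subgroupOf, comap_map_eq_self_of_injective M.subtype_injective]
        exact hN)
      exact h5 (hEM hy)
    · intro h5
      have h6 : Nat.card (N.map M.subtype) = Nat.card N :=
        card_map_of_injective M.subtype_injective
      have h7 := h5.trans (card_dvd_of_le (inf_le_left : N.map M.subtype ⊓ E ≤ _))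
      rw [h6] at h7
      rw [← Nat.not_even_iff_odd, even_iff_two_dvd] at hNodd
      exact hNodd h7
  have h5 := h4 h3
  rw [OO_comp hO hO2 hev hE, Subgroup.mem_bot, mul_inv_eq_one, mul_inv_eq_iff_eq_mul] at h5
  exact h5.symm

/-- `K` normalises `E` -/
theorem norm_comp (h : RW Om U) (htf : TF Om) (hK : K ∈ Om) (hE : IsComponent E) (hEz : ¬ E ≤ centralizer {zz K}) :
    K ≤ normalizer (E : Set G) := by
  obtain ⟨f, hf, hc, hne⟩ := exists_conj hO hO2 hev h hK hE hEz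
  have hzE : zz K ∈ normalizer (E : Set G) := mem_normalizer_iff_cj.2 (cj_zz_component h.hyp hev hK hE)
  have hzf : zz (cj f K) = f * zz K * f⁻¹ := h.hyp.zz_cj hK f
  obtain ⟨S, hKS, hKfS⟩ := exists_sylow_of_comm h htf hK (h.hyp.conj K hK f) (by rw [hzf]; exact hc)
  obtain ⟨e, he⟩ : ∃ e, e = zz K * (f * zz K * f⁻¹) := ⟨_, rfl⟩
  have heE : e ∈ E := by
    have h1 : e = zz K * f * (zz K)⁻¹ * f⁻¹ := by rw [he, h.hyp.zz_inv hK]; group
    rw [h1]
    exact E.mul_mem ((mem_normalizer_iff.1 hzE f).1 hf) (E.inv_mem hf)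
  have he1 : e ≠ 1 := by
    intro h1
    apply hne
    rw [he, mul_eq_one_iff_inv_eq, h.hyp.zz_inv hK] at h1
    exact h1.symm
  intro k hk
  have hke : k * e = e * k := by
    have h1 := comm_self_zz h hK hk
    have h2 := comm_zz_of_le h hK (h.hyp.conj K hK f) S.isPGroup' hKS hKfS hk
    rw [hzf] at h2
    calc k * e = k * zz K * (f * zz K * f⁻¹) := by rw [he]; group
      _ = zz K * (k * (f * zz K * f⁻¹)) := by rw [h1]; group
      _ = e * k := by rw [h2, he]; group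
  rw [mem_normalizer_iff_cj]
  by_contra hkE
  apply he1
  apply eq_one_of_center hO hO2 hE heE
  intro y hy
  have h1 : e ∈ cj k E := by
    have h2 := conj_mem_cj (g := k) heE
    rwa [hke, mul_inv_cancel_right] at h2
  exact comm_of_ne hE (isComponent_cj hE k) (Ne.symm hkE) hy h1

/-- `zz K ∈ E` -/
theorem zz_mem_comp (h : RW Om U) (htf : TF Om) (hK : K ∈ Om) (hE : IsComponent E) (hEz : ¬ E ≤ centralizer {zz K}) :
    zz K ∈ E := by
  by_contra hz
  exact hEz (h.hyp.lemma_two (fun L hL => h.two L hL) hK (norm_comp hO hO2 hev h htf hK hE hEz)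
    (OO_comp hO hO2 hev hE) hz)

end comp

/-! ### The two ends -/

/-- `E ∩ S` is not abelian -/
theorem not_abelian (h : RW Om U) (hK : K ∈ Om) (hKE : K ≤ normalizer (E : Set G)) (hf : f ∈ E)
    (hne : f * zz K * f⁻¹ ≠ zz K) (hS : IsPGroup 2 S) (hKS : K ≤ S) (hKfS : cj f K ≤ S) :
    ∃ a ∈ S ⊓ E, ∃ b ∈ S ⊓ E, a * b ≠ b * a := by
  obtain ⟨v, hv, hv4⟩ := h.exists_v hK
  obtain ⟨y, hy, hyX⟩ := h.exists_y hK
  have hyv := h.y_inv hK hy hyX hv
  have hvv := h.sq_eq hK hv hv4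
  have hvK := h.vch.le K hK hv
  have hcom : ∀ a ∈ K, ∀ b ∈ cj f K, a * b = b * a := by
    refine (eq_or_comm h hK (h.hyp.conj K hK f) hS hKS hKfS).resolve_left fun h1 => hne ?_
    rw [← h.hyp.zz_cj hK, ← h1]
  have hmem : ∀ v ∈ K, v⁻¹ * (f * v * f⁻¹) ∈ S ⊓ E := by
    intro v hv
    refine mem_inf.2 ⟨S.mul_mem (S.inv_mem (hKS hv)) (hKfS (conj_mem_cj hv)), ?_⟩
    have h1 : v⁻¹ * (f * v * f⁻¹) = v⁻¹ * f * v⁻¹⁻¹ * f⁻¹ := by group
    rw [h1]
    exact E.mul_mem ((mem_normalizer_iff.1 (hKE (K.inv_mem hv)) f).1 hf) (E.inv_mem hf)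
  refine ⟨_, hmem v hvK, _, hmem y hy, fun he => hne ?_⟩
  obtain ⟨v', hv'⟩ : ∃ v', v' = f * v * f⁻¹ := ⟨_, rfl⟩
  obtain ⟨y', hy'⟩ : ∃ y', y' = f * y * f⁻¹ := ⟨_, rfl⟩
  have hvk' : v' ∈ cj f K := by rw [hv']; exact conj_mem_cj hvK
  have hyk' : y' ∈ cj f K := by rw [hy']; exact conj_mem_cj hy
  rw [← hv', ← hy'] at he
  have c1 := hcom y⁻¹ (K.inv_mem hy) v' hvk'
  have c2 := hcom v⁻¹ (K.inv_mem hvK) y' hyk'
  have e1 : v⁻¹ * v' * (y⁻¹ * y') = v⁻¹ * y⁻¹ * (v' * y') := by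
    calc v⁻¹ * v' * (y⁻¹ * y') = v⁻¹ * (v' * y⁻¹) * y' := by group
      _ = _ := by rw [← c1]; group
  have e2 : y⁻¹ * y' * (v⁻¹ * v') = y⁻¹ * v⁻¹ * (y' * v') := by
    calc y⁻¹ * y' * (v⁻¹ * v') = y⁻¹ * (y' * v⁻¹) * v' := by group
      _ = _ := by rw [← c2]; group
  rw [e1, e2] at he
  -- `v y v⁻¹ y⁻¹ = y' v' y'⁻¹ v'⁻¹`
  have e3 : v * y * v⁻¹ * y⁻¹ = y' * v' * y'⁻¹ * v'⁻¹ := by
    calc v * y * v⁻¹ * y⁻¹ = (v * y) * (v⁻¹ * y⁻¹ * (v' * y')) * (v' * y')⁻¹ := by group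
      _ = (v * y) * (y⁻¹ * v⁻¹ * (y' * v')) * (v' * y')⁻¹ := by rw [he]
      _ = _ := by group
  have e4 : v * y * v⁻¹ * y⁻¹ = zz K := by
    calc v * y * v⁻¹ * y⁻¹ = v * (y * v * y⁻¹)⁻¹ := by group
      _ = zz K := by rw [hyv, inv_inv, hvv]
  have e5 : y' * v' * y'⁻¹ * v'⁻¹ = f * zz K * f⁻¹ := by
    calc y' * v' * y'⁻¹ * v'⁻¹ = f * ((y * v * y⁻¹) * v⁻¹) * f⁻¹ := by rw [hv', hy']; group
      _ = f * (v * v)⁻¹ * f⁻¹ := by rw [hyv]; group
      _ = _ := by rw [hvv, h.hyp.zz_inv hK]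
  rw [← e5, ← e3, e4]

/-- the involutions of `E` are not all conjugate -/
theorem not_conj (h : RW Om U) (htf : TF Om) (hK : K ∈ Om) (hKE : K ≤ normalizer (E : Set G)) (hzE : zz K ∈ E)
    (hf : f ∈ E) (hne : f * zz K * f⁻¹ ≠ zz K) (S : Sylow 2 G) (hKS : K ≤ S) (hKfS : cj f K ≤ S)
    (hall : ∀ x ∈ E, x * x = 1 → x ≠ 1 → ∃ g ∈ E, g * zz K * g⁻¹ = x) : False := by
  obtain ⟨v, hv, hv4⟩ := h.exists_v hK
  obtain ⟨y, hy, hyX⟩ := h.exists_y hK
  obtain ⟨hyy, -, -⟩ := h.y_facts hK hy hyX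
  have hyv := h.y_inv hK hy hyX hv
  have hvv := h.sq_eq hK hv hv4
  have hvK := h.vch.le K hK hv
  have hS := S.isPGroup'
  have hKf : cj f K ∈ Om := h.hyp.conj K hK f
  have hzf : zz (cj f K) = f * zz K * f⁻¹ := h.hyp.zz_cj hK f
  obtain ⟨z, hz⟩ : ∃ z, z = zz K := ⟨_, rfl⟩
  obtain ⟨u, hu⟩ : ∃ u, u = f * z * f⁻¹ := ⟨_, rfl⟩
  have hzz : z * z = 1 := by rw [hz]; exact h.hyp.zz_mul hK
  have hz1 : z ≠ 1 := by rw [hz]; exact h.hyp.zz_ne hK
  have huu : u * u = 1 := by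
    have h1 : u * u = f * (z * z) * f⁻¹ := by rw [hu]; group
    rw [h1, hzz]; group
  have hu1 : u ≠ 1 := by
    intro h1
    apply hz1
    rw [hu, mul_inv_eq_one] at h1
    exact mul_eq_left.mp h1
  rw [← hz, ← hu] at hzf
  rw [← hz] at hzE hall hyy hvv hne
  rw [← hu] at hne
  have hcom : ∀ a ∈ K, ∀ b ∈ cj f K, a * b = b * a := by
    refine (eq_or_comm h hK hKf hS hKS hKfS).resolve_left fun h1 => hne ?_
    rw [← hzf, ← h1, hz]
  have hzu : z * u = u * z := by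
    refine hcom z (by rw [hz]; exact h.hyp.zz_mem hK) u ?_
    rw [← hzf]
    exact h.hyp.zz_mem hKf
  have huE : u ∈ E := by rw [hu]; exact E.mul_mem (E.mul_mem hf hzE) (E.inv_mem hf)
  -- the third involution
  obtain ⟨g, hg, hgz⟩ := hall (z * u) (E.mul_mem hzE huE)
    (by
      calc z * u * (z * u) = z * (u * z) * u := by group
        _ = (z * z) * (u * u) := by rw [← hzu]; group
        _ = 1 := by rw [hzz, huu, one_mul])
    (by
      intro h1
      apply hne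
      rw [mul_eq_one_iff_inv_eq] at h1
      rw [← h1, inv_eq_iff_mul_eq_one.2 hzz])
  have hKg : cj g K ∈ Om := h.hyp.conj K hK g
  have hzg : zz (cj g K) = z * u := by rw [h.hyp.zz_cj hK g, ← hz, hgz]
  have hKgS : cj g K ≤ S := by
    refine htf S _ hKg ?_
    rw [hzg]
    refine (S : Subgroup G).mul_mem (hKS (by rw [hz]; exact h.hyp.zz_mem hK)) (hKfS ?_)
    rw [← hzf]
    exact h.hyp.zz_mem hKf
  have hcomg : ∀ a ∈ K, ∀ b ∈ cj g K, a * b = b * a := by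
    refine (eq_or_comm h hK hKg hS hKS hKgS).resolve_left fun h1 => hu1 ?_
    rw [← h1, ← hz] at hzg
    exact mul_eq_left.mp hzg.symm
  have hcomfg : ∀ a ∈ cj f K, ∀ b ∈ cj g K, a * b = b * a := by
    refine (eq_or_comm h hKf hKg hS hKfS hKgS).resolve_left fun h1 => hz1 ?_
    rw [← h1, hzf] at hzg
    exact mul_eq_right.mp hzg.symm
  have hvy : (v * y) * (v * y) = z := by
    calc (v * y) * (v * y) = v * (y * v * y⁻¹) * (y * y) := by group
      _ = z := by rw [hyv, hyy]; group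
  obtain ⟨k, hk⟩ : ∃ k, k = (v * y)⁻¹ := ⟨_, rfl⟩
  have hkK : k ∈ K := by rw [hk]; exact K.inv_mem (K.mul_mem hvK hy)
  have hkk : k * k = z := by rw [hk, ← mul_inv_rev, hvy, inv_eq_iff_mul_eq_one.2 hzz]
  obtain ⟨b, hb⟩ : ∃ b, b = f * y * f⁻¹ := ⟨_, rfl⟩
  obtain ⟨c, hc⟩ : ∃ c, c = g * k * g⁻¹ := ⟨_, rfl⟩
  have hbK : b ∈ cj f K := by rw [hb]; exact conj_mem_cj hy
  have hcK : c ∈ cj g K := by rw [hc]; exact conj_mem_cj hkK
  have hbb : b * b = u := by
    have h1 : b * b = f * (y * y) * f⁻¹ := by rw [hb]; group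
    rw [h1, hyy, hu]
  have hcc : c * c = z * u := by
    have h1 : c * c = g * (k * k) * g⁻¹ := by rw [hc]; group
    rw [h1, hkk, hgz]
  have hvb := hcom v hvK b hbK
  have hvc := hcomg v hvK c hcK
  have hbc := hcomfg b hbK c hcK
  have hxE : v * b * c ∈ E := by
    have hvyk : (v * y) * k = 1 := by rw [hk, mul_inv_cancel]
    have h1 : v * b * c = (v * (f * (y * f⁻¹ * y⁻¹)) * v⁻¹) * ((v * y) * (g * (k * g⁻¹ * k⁻¹)) * (v * y)⁻¹) *
        ((v * y) * k) := by rw [hb, hc]; group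
    rw [h1, hvyk, mul_one]
    have hn : ∀ k ∈ K, ∀ e ∈ E, k * e * k⁻¹ ∈ E := fun k hk e he => (mem_normalizer_iff.1 (hKE hk) e).1 he
    exact E.mul_mem (hn v hvK _ (E.mul_mem hf (hn y hy _ (E.inv_mem hf))))
      (hn _ (K.mul_mem hvK hy) _ (E.mul_mem hg (hn k hkK _ (E.inv_mem hg))))
  have hxx : v * b * c * (v * b * c) = 1 := by
    calc v * b * c * (v * b * c) = v * b * (c * v) * b * c := by group
      _ = v * (b * v) * (c * b) * c := by rw [← hvc]; group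
      _ = (v * v) * (b * b) * (c * c) := by rw [← hvb, ← hbc]; group
      _ = z * u * (z * u) := by rw [hvv, hbb, hcc]
      _ = z * (u * z) * u := by group
      _ = (z * z) * (u * u) := by rw [← hzu]; group
      _ = 1 := by rw [hzz, huu, one_mul]
  have hact : ∀ k ∈ K, (v * b * c) * k * (v * b * c)⁻¹ = v * k * v⁻¹ := by
    intro k hk
    have h1 : c * k = k * c := (hcomg k hk c hcK).symm
    have h2 : b * k = k * b := (hcom k hk b hbK).symm
    calc (v * b * c) * k * (v * b * c)⁻¹ = v * b * (c * k) * c⁻¹ * b⁻¹ * v⁻¹ := by group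
      _ = v * (b * k) * b⁻¹ * v⁻¹ := by rw [h1]; group
      _ = _ := by rw [h2]; group
  have hnc : ¬ y * (v * b * c) = (v * b * c) * y := by
    intro h1
    have h2 := hact y hy
    rw [← h1, mul_inv_cancel_right] at h2
    have h3 : y * v = v * y := eq_mul_inv_iff_mul_eq.1 h2
    rw [h3, mul_inv_cancel_right] at hyv
    have h4 : v * v = 1 := mul_eq_one_iff_eq_inv.2 hyv
    rw [hvv] at h4
    exact hz1 h4
  have hx1 : v * b * c ≠ 1 := by
    intro h1
    rw [h1] at hnc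
    exact hnc (by rw [mul_one, one_mul])
  obtain ⟨r, hr, hrx⟩ := hall _ hxE hxx hx1
  have hKr : cj r K ∈ Om := h.hyp.conj K hK r
  have hzr : zz (cj r K) = v * b * c := by rw [h.hyp.zz_cj hK r, ← hz, hrx]
  have hKrS : cj r K ≤ S := by
    refine htf S _ hKr ?_
    rw [hzr]
    exact (S : Subgroup G).mul_mem ((S : Subgroup G).mul_mem (hKS hvK) (hKfS hbK)) (hKgS hcK)
  have h1 := comm_zz_of_le h hK hKr hS hKS hKrS hy
  rw [hzr] at h1
  exact hnc h1

/-- **the T-free end** -/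
theorem tfree_false (h : RW Om U) (hO : pPrimeCore 2 G = ⊥) (hO2 : pCore 2 G = ⊥) (hev : EvQ G)
    (hgold : ∀ E : Subgroup G, IsSimpleGroup E → Cit.ROne.Gold E) (htf : TF Om) (hN : NoClo Om) (hK : K ∈ Om) :
    False := by
  haveI : Fact (Nat.Prime 2) := ⟨Nat.prime_two⟩
  obtain ⟨E, hE, hEz⟩ := exists_comp hO hO2 h hK
  have hKE := norm_comp hO hO2 hev h htf hK hE hEz
  have hzE := zz_mem_comp hO hO2 hev h htf hK hE hEz
  obtain ⟨f, hf, hc, hne⟩ := exists_conj hO hO2 hev h hK hE hEz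
  have hzf : zz (cj f K) = f * zz K * f⁻¹ := h.hyp.zz_cj hK f
  obtain ⟨S, hKS, hKfS⟩ := exists_sylow_of_comm h htf hK (h.hyp.conj K hK f) (by rw [hzf]; exact hc)
  have hS := S.isPGroup'
  -- the Sylow 2-subgroup of `E`
  have h1 : Syl (S : Subgroup G) (⊤ : Subgroup G) := by
    refine ⟨le_top, hS, ?_⟩
    rw [relIndex_top_right]
    exact S.not_dvd_index
  have h2 : Syl ((S : Subgroup G) ⊓ layer G) (layer G) := by
    refine LB.syl_inf_normal h1 le_top ?_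
    haveI := layer_normal (G := G)
    rw [normalizer_eq_top]
  have h3 : Syl ((S : Subgroup G) ⊓ layer G ⊓ E) E :=
    LB.syl_inf_normal h2 (component_le_layer hE) (layer_le_normalizer_component hE)
  rw [inf_assoc, inf_eq_right.2 (component_le_layer hE)] at h3
  obtain ⟨T, hT⟩ := h3.exists_sylow
  have hTm : ∀ x : E, x ∈ (T : Subgroup E) ↔ (x : G) ∈ (S : Subgroup G) := by
    intro x
    rw [hT, mem_subgroupOf, mem_inf]
    exact ⟨fun h => h.1, fun h => ⟨h, x.2⟩⟩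
  have hsc := wz_closed h htf hN S
  have hA : (WZ Om (S : Subgroup G)).subgroupOf E ≠ ⊥ := by
    intro h4
    apply h.hyp.zz_ne hK
    have h5 : (⟨zz K, hzE⟩ : E) ∈ (WZ Om (S : Subgroup G)).subgroupOf E :=
      show zz K ∈ WZ Om (S : Subgroup G) from subset_closure ⟨K, hK, hKS, rfl⟩
    rw [h4, mem_bot] at h5
    exact congrArg Subtype.val h5
  have hcA : IsMulCommutative ((WZ Om (S : Subgroup G)).subgroupOf E) :=
    ⟨⟨fun a b => Subtype.ext (Subtype.ext (WZ_mulComm h hS a.2 b.2))⟩⟩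
  have hscA : IsStronglyClosed ((WZ Om (S : Subgroup G)).subgroupOf E) (T : Subgroup E) := by
    refine ⟨fun x hx => (hTm x).2 (hsc.1 hx), fun x hx g hg => ?_⟩
    exact hsc.2 x hx g ((hTm _).1 hg)
  haveI hsim := simple hO hO2 hE
  rcases hgold E hsim T _ hA hcA hscA with h4 | ⟨H, hH⟩
  · obtain ⟨a, ha, b, hb, hab⟩ := not_abelian h hK hKE hf hne hS hKS hKfS
    apply hab
    have ha' : (⟨a, (mem_inf.1 ha).2⟩ : E) ∈ (T : Subgroup E) := (hTm _).2 (mem_inf.1 ha).1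
    have hb' : (⟨b, (mem_inf.1 hb).2⟩ : E) ∈ (T : Subgroup E) := (hTm _).2 (mem_inf.1 hb).1
    have h5 := congrArg Subtype.val (h4.is_comm.comm ⟨_, ha'⟩ ⟨_, hb'⟩)
    exact congrArg Subtype.val h5
  · refine not_conj h htf hK hKE hzE hf hne S hKS hKfS fun x hx hxx hx1 => ?_
    have h5 := Cfsg.Agent.TwoFusion.StronglyEmbeddedBasic.isConj_of_involutions hH (⟨zz K, hzE⟩ : E) ⟨x, hx⟩
      (by rw [← Subgroup.orderOf_coe]; exact h.hyp.orderOf_zz hK)
      (by rw [← Subgroup.orderOf_coe]; exact orderOf_eq_prime (by rw [pow_two]; exact hxx) hx1)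
    obtain ⟨g, hg⟩ := isConj_iff.1 h5
    exact ⟨g, g.2, congrArg Subtype.val hg⟩

end Cfsg.Agent.Cit.Nil.CV1.TFree
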