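import Cfsg.Agent.Cit.Nil.CV1.TPartB

/-!
# (6b)(CV), rank one, T-type end: the parts `PP Om U S K`

`mem_PP` : the elements of `PP Om U S K`;
`PP_inf_WF` : `PP Om U S K` meets `WF Om U S` trivially.
-/

set_option autoImplicit false
set_option linter.style.haveILetI false
set_option linter.unusedSectionVars false

namespace Cfsg.Agent.Cit.CV1

open Subgroup Cfsg Cit Tau CV

variable {G : Type*} [Group G] [Finite G] {Om : Set (Subgroup G)} {U : Subgroup G → Subgroup G}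
  {K K' L M N N' S S' T : Subgroup G} {a b c e g s t u v w x y z : G}

namespace LW

variable (h : LW Om U)
include h

theorem mem_PP (hS : Syl S ⊤) (hK : K ∈ Phi Om S) (hx : x ∈ PP Om U S K) :
    x ∈ XX U K ∨ (x ∈ S ∧ ∃ N ∈ Om, zz N = x ∧ TT U K x) := by
  have hmul : ∀ N ∈ Om, zz N ∈ S → TT U K (zz N) → ∀ x ∈ XX U K,
      zz N * x ∈ S ∧ ∃ N' ∈ Om, zz N' = zz N * x ∧ TT U K (zz N * x) := by
    intro N hN hs ht x hx
    obtain ⟨k, hk, hkz⟩ := h.exists_cj_mul hK.1 hN ht hx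
    exact ⟨S.mul_mem hs (hK.2 (XX_le K hx)), cj k N, h.hO N hN k, hkz, h.tt_mul hK.1 hN ht hx⟩
  induction hx using closure_induction with
  | mem x hx => exact hx
  | one => exact Or.inl (one_mem _)
  | mul x y _ _ hx hy =>
    rcases hx with hx | ⟨hxS, N, hN, rfl, htx⟩
    · rcases hy with hy | ⟨hyS, N, hN, rfl, hty⟩
      · exact Or.inl (mul_mem hx hy)
      · right
        have h1 : x * zz N = zz N * x⁻¹ := by
          have h2 := h.inv_XX hK.1 hN hty ((XX U K).inv_mem hx)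
          rw [inv_inv] at h2
          exact (mul_inv_eq_iff_eq_mul.1 h2).symm
        rw [h1]
        exact hmul N hN hyS hty _ ((XX U K).inv_mem hx)
    · rcases hy with hy | ⟨hyS, N', hN', rfl, hty⟩
      · exact Or.inr (hmul N hN hxS htx _ hy)
      · obtain ⟨c, hc, hcz⟩ := h.tt_coset hS hK hN hN' hxS hyS htx hty
        left
        rw [hcz, ← mul_assoc, h.zz_zz hN, one_mul]
        exact hc
  | inv x _ hx =>
    rcases hx with hx | ⟨hxS, N, hN, rfl, htx⟩
    · exact Or.inl ((XX U K).inv_mem hx)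
    · rw [h.hyp.zz_inv hN]
      exact Or.inr ⟨hxS, N, hN, rfl, htx⟩

theorem PP_le (hK : K ∈ Phi Om S) : PP Om U S K ≤ S := by
  refine (closure_le _).2 ?_
  rintro x (hx | hx)
  · exact hK.2 (XX_le K hx)
  · exact hx.1

/-- an element of the part commuting with `K` is `1` or `zz K` -/
theorem PP_cent (hS : Syl S ⊤) (hK : K ∈ Phi Om S) (hx : x ∈ PP Om U S K) (hc : ∀ k ∈ K, k * x = x * k) :
    x = 1 ∨ x = zz K := by
  rcases h.mem_PP hS hK hx with hx | ⟨-, N, hN, rfl, ht⟩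
  · obtain ⟨y, hy, hyX⟩ := h.exists_y hK.1
    have h1 := (h.y_facts hK.1 hy hyX).2.2 x hx
    rw [hc y hy, mul_inv_cancel_right] at h1
    by_cases hx1 : x = 1
    · exact Or.inl hx1
    · right
      refine h.hyp.eq_zz hK.1 (XX_le K hx) ?_ hx1
      nth_rw 1 [h1]; exact inv_mul_cancel x
  · exfalso
    obtain ⟨-, v, hv, -, hne⟩ := ht
    exact hne (hc v (h.vch.le K hK.1 hv)).symm

/-- `WF` commutes with the T-partners in `S` -/
theorem WF_comm_tt (hS : Syl S ⊤) (hK : K ∈ Phi Om S) (hN : N ∈ Om) (hs : zz N ∈ S) (ht : TT U K (zz N))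
    (hx : x ∈ WF Om U S) (hy : y ∈ N) : y * x = x * y := by
  have h1 : WF Om U S ≤ centralizer {y} := by
    rw [WF, closure_le]
    rintro _ ⟨L, hL, rfl⟩
    refine mem_centralizer_singleton_iff.2 ?_
    rcases h.comm_of_not_tt hL.1.1 hN (h.comm_zz_of_mem hS.2.1 hL.1.1 hL.1.2 hN hs) (hL.2 N hN) with h2 | h2
    · subst h2
      exact absurd (h.tt_symm hK.1 hN ht) (hL.2 K hK.1)
    · exact h2 _ (h.hyp.zz_mem hL.1.1) y hy
  exact (mem_centralizer_singleton_iff.1 (h1 hx)).symm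

theorem PP_inf_WF (hS : Syl S ⊤) (hK : K ∈ II Om U S) : PP Om U S K ⊓ WF Om U S = ⊥ := by
  rw [eq_bot_iff]
  rintro x ⟨hxP, hxW⟩
  rw [mem_bot]
  rcases h.PP_cent hS hK.1 hxP (fun k hk => h.WF_comm hS hxW hK.1 hk) with h1 | h1
  · exact h1
  · exfalso
    obtain ⟨N, hN, hs, ht⟩ := h.exists_tt hS hK
    obtain ⟨-, w, hw, -, hne⟩ := h.tt_symm hK.1.1 hN ht
    rw [← h1] at hne
    exact hne (h.WF_comm_tt hS hK.1 hN hs ht hxW (h.vch.le N hN hw)).symm

end LW

end Cfsg.Agent.Cit.CV1
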