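import Cfsg.Agent.Cit.Nil.CV1.TPartB
import Cfsg.Agent.Cit.Nil.CV1.PPart
import Cfsg.Agent.Cit.Nil.CV1.Five
import Cfsg.Agent.PermParts.Consumer

/-!
# (6b)(CV), rank one, section 6: the permuted product data

`AF Om` : the elements `u` with `N0 Om S u` for some Sylow subgroup `S`; a closed family by the `N₀`-closure theorem.
* `PP_iff` : `PP Om U S K = X_K ∪ s X_K`, `s` a T-partner of `K` in `S`.
* `pp_closed` = (6.3): `x ∈ PP K`, `g x g⁻¹ ∈ S` implies `g x g⁻¹ ∈ PP L` for some `L ∈ II Om U S`.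
* `pp_indep` : the parts are independent; `data` : the permuted product data.
* `Red.subsingleton` : `II Om U S` has at most one element.

Text: `blueprints/CIT-6b-CV-rank1-helper516.md`.
-/

set_option autoImplicit false
set_option linter.style.haveILetI false
set_option linter.unusedSectionVars false

namespace Cfsg.Agent.Cit.CV1

open Subgroup Cfsg Cit Tau CV
open Cfsg.Agent.TwoFusion.ClosedFam Cfsg.Agent.PermParts.OfProd

/-- the family of the elements fixing all members of a Sylow subgroup containing them -/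
def AF {G : Type*} [Group G] (Om : Set (Subgroup G)) : Set G := {u | ∃ S, Syl S (⊤ : Subgroup G) ∧ N0 Om S u}

section

universe u

variable {G : Type u} [Group G] [Finite G] {Om : Set (Subgroup G)} {U : Subgroup G → Subgroup G}
  {K K' L M N N' S S' T : Subgroup G} {a b e g q s t u v w x y z : G}

theorem syl_sylow (S : Sylow 2 G) : Syl (S : Subgroup G) ⊤ :=
  ⟨le_top, S.isPGroup', by
    haveI : Fact (Nat.Prime 2) := ⟨Nat.prime_two⟩
    rw [relIndex_top_right]; exact S.not_dvd_index⟩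

theorem exists_sylow_eq (hS : Syl S ⊤) : ∃ T : Sylow 2 G, (T : Subgroup G) = S := by
  obtain ⟨T, -, hT⟩ := hS.exists_sylow_ge
  exact ⟨T, by rwa [inf_top_eq] at hT⟩

namespace LW

variable (h : LW Om U)
include h

theorem N0_of_mem (hS : Syl S ⊤) (hK : K ∈ Phi Om S) (hx : x ∈ K) : N0 Om S x :=
  ⟨hK.2 hx, fun L hL => mem_normalizer_iff_cj.1 (by
    by_cases hKL : K = L
    · subst hKL; exact le_normalizer hx
    · exact mem_normalizer_of_comm fun k hk => (h.orth_of_Phi hS hK hL hKL).2 x hx k hk)⟩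

theorem N0_of_zz (hS : Syl S ⊤) (hN : N ∈ Om) (hs : zz N ∈ S) : N0 Om S (zz N) :=
  ⟨hs, fun _ hL => mem_normalizer_iff_cj.1 (h.norm_mem hS.2.1 hL.1 hL.2 hN hs)⟩

omit [Finite G] h in
theorem N0_mul (hx : N0 Om S x) (hy : N0 Om S y) : N0 Om S (x * y) :=
  ⟨S.mul_mem hx.1 hy.1, fun K hK => mem_normalizer_iff_cj.1
    (mul_mem (mem_normalizer_iff_cj.2 (hx.2 K hK)) (mem_normalizer_iff_cj.2 (hy.2 K hK)))⟩

omit [Finite G] h in
theorem N0_conj (hO : ∀ K ∈ Om, ∀ g, cj g K ∈ Om) (hx : N0 Om S x) (g : G) : N0 Om (cj g S) (g * x * g⁻¹) := by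
  refine ⟨conj_mem_cj hx.1, fun K hK => ?_⟩
  rw [Phi_cj hO] at hK
  obtain ⟨L, hL, rfl⟩ := hK
  rw [← cj_mul]
  have h1 : g * x * g⁻¹ * g = g * x := by group
  rw [h1, cj_mul, hx.2 L hL]

/-- **the closed family** -/
theorem closedFam : IsClosedFam (AF Om) where
  one_mem := by
    obtain ⟨S, hS, -⟩ := exists_top (G := G) (T := ⊥) IsPGroup.of_bot
    exact ⟨S, hS, S.one_mem, fun K _ => cj_one K⟩
  conj_mem := by
    rintro x ⟨S, hS, hx⟩ g
    exact ⟨cj g S, syl_cj_top hS g, N0_conj h.hO hx g⟩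
  two := by
    rintro x ⟨S, hS, hx⟩
    obtain ⟨k, hk⟩ := hS.2.1 ⟨x, hx.1⟩
    exact ⟨k, by simpa using congrArg Subtype.val hk⟩
  mul_mem := by
    rintro Q hQ x hxQ y hyQ ⟨S, hS, hx⟩ ⟨S', hS', hy⟩
    obtain ⟨T, hT, hQT⟩ := exists_top hQ
    exact ⟨T, hT, N0_mul (h.closure' hS hT hx (hQT hxQ)) (h.closure' hS' hT hy (hQT hyQ))⟩

theorem N0_of_AF (hS : Syl S ⊤) (hx : x ∈ AF Om) (hxS : x ∈ S) : N0 Om S x := by
  obtain ⟨T, hT, hxT⟩ := hx
  exact h.closure' hT hS hxT hxS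

/-! ### The parts -/

theorem PP_iff (hS : Syl S ⊤) (hK : K ∈ Phi Om S) (hN : N ∈ Om) (hs : zz N ∈ S) (ht : TT U K (zz N)) :
    g ∈ PP Om U S K ↔ g ∈ XX U K ∨ ∃ x ∈ XX U K, g = zz N * x := by
  constructor
  · intro hg
    have hinv : ∀ x ∈ XX U K, x * zz N = zz N * x⁻¹ := fun x hx => by
      have h1 := h.inv_XX hK.1 hN ht hx
      rw [← h1, h.hyp.zz_inv hN, ← mul_assoc, ← mul_assoc, h.zz_zz hN, one_mul]
    induction hg using closure_induction with
    | mem x hx =>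
      rcases hx with hx | ⟨hxS, M, hM, rfl, htM⟩
      · exact Or.inl hx
      · exact Or.inr (h.tt_coset hS hK hN hM hs hxS ht htM)
    | one => exact Or.inl (one_mem _)
    | mul a b _ _ ha hb =>
      rcases ha with ha | ⟨a', ha', rfl⟩ <;> rcases hb with hb | ⟨b', hb', rfl⟩
      · exact Or.inl (mul_mem ha hb)
      · refine Or.inr ⟨a⁻¹ * b', mul_mem (inv_mem ha) hb', ?_⟩
        rw [← mul_assoc, hinv a ha, mul_assoc]
      · exact Or.inr ⟨a' * b, mul_mem ha' hb, by rw [mul_assoc]⟩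
      · refine Or.inl ?_
        have h1 : zz N * a' * (zz N * b') = a'⁻¹ * b' := by
          rw [mul_assoc, ← mul_assoc a', hinv a' ha', ← mul_assoc, ← mul_assoc, h.zz_zz hN, one_mul]
        rw [h1]; exact mul_mem (inv_mem ha') hb'
    | inv a _ ha =>
      rcases ha with ha | ⟨a', ha', rfl⟩
      · exact Or.inl (inv_mem ha)
      · refine Or.inr ⟨a', ha', ?_⟩
        rw [mul_inv_rev, h.hyp.zz_inv hN, hinv _ (inv_mem ha'), inv_inv]
  · rintro (hg | ⟨x, hx, rfl⟩)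
    · exact subset_closure (Or.inl hg)
    · exact mul_mem (subset_closure (Or.inr ⟨hs, N, hN, rfl, ht⟩)) (subset_closure (Or.inl hx))

theorem mem_AF_of_PP (hS : Syl S ⊤) (hK : K ∈ Phi Om S) (hx : x ∈ PP Om U S K) : N0 Om S x := by
  induction hx using closure_induction with
  | mem x hx =>
    rcases hx with hx | ⟨hxS, M, hM, rfl, -⟩
    · exact h.N0_of_mem hS hK (XX_le K hx)
    · exact h.N0_of_zz hS hM hxS
  | one => exact ⟨S.one_mem, fun K _ => cj_one K⟩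
  | mul a b _ _ ha hb => exact N0_mul ha hb
  | inv a _ ha =>
    refine ⟨S.inv_mem ha.1, fun K hK => ?_⟩
    exact mem_normalizer_iff_cj.1 (inv_mem (mem_normalizer_iff_cj.2 (ha.2 K hK)))

/-- the parts are normalised by `N₀(S)` -/
theorem PP_norm (hK : K ∈ Phi Om S) (hq : N0 Om S q) (hx : x ∈ PP Om U S K) : q * x * q⁻¹ ∈ PP Om U S K := by
  have hqK := hq.2 K hK
  induction hx using closure_induction with
  | mem x hx =>
    apply Subgroup.subset_closure
    rcases hx with hx | ⟨hxS, M, hM, rfl, ht⟩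
    · refine Or.inl ?_
      have h1 := (conj_mem_XX (h.vch.cj K hK.1 q)).2 hx
      rwa [hqK] at h1
    · refine Or.inr ⟨S.mul_mem (S.mul_mem hq.1 hxS) (S.inv_mem hq.1), cj q M, h.hO M hM q, h.hyp.zz_cj hM q, ?_⟩
      have h1 := h.tt_cj hK.1 ht q
      rwa [hqK] at h1
  | one => rw [mul_one, mul_inv_cancel]; exact one_mem _
  | mul a b _ _ ha hb =>
    have h1 : q * (a * b) * q⁻¹ = (q * a * q⁻¹) * (q * b * q⁻¹) := by group
    rw [h1]; exact mul_mem ha hb
  | inv a _ ha =>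
    have h1 : q * a⁻¹ * q⁻¹ = (q * a * q⁻¹)⁻¹ := by group
    rw [h1]; exact inv_mem ha

/-- a member with a T-partner -/
theorem mem_II_or (hS : Syl S ⊤) (hM : M ∈ Om) (hz : zz M ∈ S) (hp : ∃ N ∈ Om, TT U M (zz N)) :
    M ∈ II Om U S ∨ ∃ L ∈ Phi Om S, TT U L (zz M) := by
  by_cases hh : ∃ L ∈ Phi Om S, TT U L (zz M)
  · exact Or.inr hh
  · push Not at hh
    exact Or.inl ⟨h.mem_Phi_of_not_tt hS hM hz hh, hp⟩

theorem exists_tt_cj (hK : K ∈ Om) (hp : ∃ N ∈ Om, TT U K (zz N)) (g : G) : ∃ N ∈ Om, TT U (cj g K) (zz N) := by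
  obtain ⟨N, hN, ht⟩ := hp
  exact ⟨cj g N, h.hO N hN g, by rw [h.hyp.zz_cj hN]; exact h.tt_cj hK ht g⟩

/-- an element `zz M` of `S`, `M` with a T-partner, lies in a part -/
theorem zz_mem_part (hS : Syl S ⊤) (hM : M ∈ Om) (hz : zz M ∈ S) (hp : ∃ N ∈ Om, TT U M (zz N)) :
    ∃ L ∈ II Om U S, zz M ∈ PP Om U S L := by
  rcases h.mem_II_or hS hM hz hp with h1 | ⟨L, hL, ht⟩
  · exact ⟨M, h1, Subgroup.subset_closure (Or.inl (h.zz_mem_XX hM))⟩
  · exact ⟨L, ⟨hL, M, hM, ht⟩, Subgroup.subset_closure (Or.inr ⟨hz, M, hM, rfl, ht⟩)⟩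

/-- **(6.3)** -/
theorem pp_closed (hS : Syl S ⊤) (hK : K ∈ II Om U S) (hx : x ∈ PP Om U S K)
    (hg : g * x * g⁻¹ ∈ S) : ∃ L ∈ II Om U S, g * x * g⁻¹ ∈ PP Om U S L := by
  haveI : Fact (Nat.Prime 2) := ⟨Nat.prime_two⟩
  obtain ⟨N, hN, hs, ht⟩ := h.exists_tt hS hK
  have hKO := hK.1.1
  rcases (h.PP_iff hS hK.1 hN hs ht).1 hx with hx | ⟨x', hx', rfl⟩
  · -- `x ∈ X_K`
    have hxM : g * x * g⁻¹ ∈ XX U (cj g K) := (conj_mem_XX (h.vch.cj K hKO g)).2 hx
    have hM : cj g K ∈ Om := h.hO K hKO g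
    by_cases hx2 : x * x = 1
    · by_cases hx1 : x = 1
      · refine ⟨K, hK, ?_⟩
        rw [hx1, mul_one, mul_inv_cancel]; exact one_mem _
      · have h1 : x = zz K := h.hyp.eq_zz hKO (XX_le K hx) hx2 hx1
        rw [h1, ← h.hyp.zz_cj hKO] at hg ⊢
        exact h.zz_mem_part hS hM hg (h.exists_tt_cj hKO hK.2 g)
    · -- order at least four
      obtain ⟨c, hc⟩ : ∃ c, c = g * x * g⁻¹ := ⟨_, rfl⟩
      have hcc : c * c ≠ 1 := by
        intro hh
        apply hx2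
        have h1 : c * c = g * (x * x) * g⁻¹ := by rw [hc]; group
        rw [h1] at hh
        have h2 : x * x = g⁻¹ * (g * (x * x) * g⁻¹) * g := by group
        rw [h2, hh]; group
      rw [← hc] at hg hxM ⊢
      obtain ⟨m, hm⟩ := (IsPGroup.iff_orderOf.1 hS.2.1) ⟨c, hg⟩
      rw [Subgroup.orderOf_mk] at hm
      have hm2 : 2 ≤ m := by
        by_contra hlt
        have h1 : m = 0 ∨ m = 1 := by omega
        rcases h1 with rfl | rfl
        · rw [pow_zero, orderOf_eq_one_iff] at hm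
          exact hcc (by rw [hm, one_mul])
        · rw [pow_one] at hm
          exact hcc (by rw [← pow_two, ← hm]; exact pow_orderOf_eq_one c)
      obtain ⟨w, hw⟩ : ∃ w, w = c ^ (2 ^ (m - 2)) := ⟨_, rfl⟩
      have hw4 : orderOf w = 4 := by
        rw [hw, orderOf_pow_of_dvd (pow_ne_zero _ (by norm_num))
          (by rw [hm]; exact pow_dvd_pow 2 (Nat.sub_le m 2)), hm,
          Nat.pow_div (Nat.sub_le m 2) (by norm_num), show m - (m - 2) = 2 by omega]
      have hwX : w ∈ XX U (cj g K) := by rw [hw]; exact pow_mem hxM _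
      have hwU : w ∈ U (cj g K) := h.mem_U_of_pow_four hM hwX (by rw [← hw4]; exact pow_orderOf_eq_one w)
      have hwS : w ∈ S := by rw [hw]; exact S.pow_mem hg _
      have hzS : zz (cj g K) ∈ S := by
        rw [← h.sq hM hwU hw4]; exact S.mul_mem hwS hwS
      rcases h.mem_II_or hS hM hzS (h.exists_tt_cj hKO hK.2 g) with h1 | ⟨L, hL, htL⟩
      · exact ⟨_, h1, Subgroup.subset_closure (Or.inl hxM)⟩
      · exfalso
        obtain ⟨-, v, hv, hv4, hne⟩ := htL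
        have h1 := h.vch.commute h.hyp hS.2.1 hM hL.1 hwU hv hw4 hv4 hwS (hL.2 (h.vch.le L hL.1 hv))
        apply hne
        rw [← h.sq hM hwU hw4, mul_assoc, h1, ← mul_assoc, h1, mul_assoc]
  · -- `x = s x'`
    obtain ⟨k, hk, hkz⟩ := h.exists_cj_mul hKO hN ht hx'
    have hN' : cj k N ∈ Om := h.hO N hN k
    rw [← hkz, ← h.hyp.zz_cj hN'] at hg ⊢
    refine h.zz_mem_part hS (h.hO _ hN' g) hg (h.exists_tt_cj hN' ?_ g)
    exact h.exists_tt_cj hN ⟨K, hKO, h.tt_symm hKO hN ht⟩ k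

/-- the other parts centralise `K` and the T-partners of `K` in `S` -/
theorem PP_cent_ne (hS : Syl S ⊤) (hK : K ∈ Phi Om S) (hN : N ∈ Om) (hs : zz N ∈ S) (ht : TT U K (zz N))
    (hL : L ∈ Phi Om S) (hKL : K ≠ L) (hx : x ∈ PP Om U S L) :
    (∀ y ∈ K, x * y = y * x) ∧ ∀ y ∈ N, x * y = y * x := by
  have hKs : ∀ M ∈ Om, zz M ∈ S → TT U L (zz M) → ∀ y ∈ K, zz M * y = y * zz M := by
    intro M hM hsM htM y hy
    have h1 : ¬ TT U K (zz M) := fun hh => hKL (h.tt_eq hS.2.1 hK.1 hK.2 hL.1 hL.2 hM hh htM)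
    rcases h.comm_of_not_tt hK.1 hM (h.comm_zz_of_mem hS.2.1 hK.1 hK.2 hM hsM) h1 with h2 | h2
    · exfalso
      subst h2
      exact h.not_tt_of_comm hL.1 hK.1 (Or.inr (h.orth_of_Phi hS hL hK hKL.symm).2) htM
    · exact (h2 y hy _ (h.hyp.zz_mem hM)).symm
  have hNL : ∀ y ∈ N, ∀ z ∈ L, z * y = y * z := by
    have h1 : ¬ TT U L (zz N) := fun hh => hKL (h.tt_eq hS.2.1 hK.1 hK.2 hL.1 hL.2 hN ht hh)
    rcases h.comm_of_not_tt hL.1 hN (h.comm_zz_of_mem hS.2.1 hL.1 hL.2 hN hs) h1 with h2 | h2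
    · exfalso
      subst h2
      exact h.not_tt_of_comm hK.1 hL.1 (Or.inr (h.orth_of_Phi hS hK hL hKL).2) ht
    · exact fun y hy z hz => h2 z hz y hy
  have h1 : PP Om U S L ≤ centralizer (K : Set G) ⊓ centralizer (N : Set G) := by
    rw [PP, closure_le]
    rintro a (ha | ⟨haS, M, hM, rfl, htM⟩)
    · refine ⟨mem_centralizer_iff.2 fun y hy => ?_, mem_centralizer_iff.2 fun y hy => ?_⟩
      · exact (h.orth_of_Phi hS hK hL hKL).2 y hy a (XX_le L ha)
      · exact (hNL y hy a (XX_le L ha)).symm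
    · refine ⟨mem_centralizer_iff.2 fun y hy => ?_, mem_centralizer_iff.2 fun y hy => ?_⟩
      · exact (hKs M hM haS htM y hy).symm
      · exact (h.tt_comm hS hK hL hKL hN hM hs haS ht htM y hy).symm
  exact ⟨fun y hy => (mem_centralizer_iff.1 (h1 hx).1 y hy).symm, fun y hy => (mem_centralizer_iff.1 (h1 hx).2 y hy).symm⟩

/-- **the parts are independent** -/
theorem pp_indep (hS : Syl S ⊤) (hK : K ∈ II Om U S) (hx : x ∈ PP Om U S K)
    (hx' : x ∈ (⨆ L : {L : {L // L ∈ II Om U S} // (L : Subgroup G) ≠ K}, PP Om U S L : Subgroup G)) : x = 1 := by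
  by_contra hx1
  obtain ⟨N, hN, hs, ht⟩ := h.exists_tt hS hK
  have hKO := hK.1.1
  have h1 : (⨆ L : {L : {L // L ∈ II Om U S} // (L : Subgroup G) ≠ K}, PP Om U S L : Subgroup G) ≤
      centralizer (K : Set G) ⊓ centralizer (N : Set G) := by
    refine iSup_le fun L y hy => ?_
    have h2 := h.PP_cent_ne hS hK.1 hN hs ht L.1.2.1 (Ne.symm L.2) hy
    exact ⟨mem_centralizer_iff.2 fun z hz => (h2.1 z hz).symm, mem_centralizer_iff.2 fun z hz => (h2.2 z hz).symm⟩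
  have h2 := h1 hx'
  have hxK : ∀ y ∈ K, x * y = y * x := fun y hy => (mem_centralizer_iff.1 h2.1 y hy).symm
  have hxN : ∀ y ∈ N, x * y = y * x := fun y hy => (mem_centralizer_iff.1 h2.2 y hy).symm
  obtain ⟨v, hv, hv4⟩ := h.exists_v hKO
  rcases (h.PP_iff hS hK.1 hN hs ht).1 hx with hx | ⟨x', hxX, rfl⟩
  · obtain ⟨y, hy, hyX⟩ := h.exists_y hKO
    have h3 := (h.y_facts hKO hy hyX).2.2 x hx
    have h4 : x * x = 1 := by
      have h5 : y * x * y⁻¹ = x := by rw [← hxK y hy, mul_inv_cancel_right]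
      rw [h5] at h3
      nth_rw 1 [h3]; exact inv_mul_cancel x
    have h5 : x = zz K := h.hyp.eq_zz hKO (XX_le K hx) h4 hx1
    obtain ⟨-, w, hw, hw4, hne⟩ := h.tt_symm hKO hN ht
    rw [h5] at hxN
    exact hne (hxN w (h.vch.le N hN hw))
  · obtain ⟨-, w, hw, hw4, hne⟩ := h.tt_mul hKO hN ht hxX
    exact hne (hxK w (h.vch.le K hKO hw))

/-- **the permuted product data** -/
theorem data (S : Sylow 2 G) :
    Data (AF Om) S (fun L : {L // L ∈ II Om U (S : Subgroup G)} => PP Om U (S : Subgroup G) L) := by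
  have hS : Syl (S : Subgroup G) ⊤ := syl_sylow S
  refine ⟨h.closedFam, ?_, ?_, ?_, ?_⟩
  · intro L x hx
    have h1 := h.mem_AF_of_PP hS L.2.1 hx
    exact ⟨⟨S, hS, h1⟩, h1.1⟩
  · intro L x hx q hq hqA
    exact h.PP_norm L.2.1 (h.N0_of_AF hS hqA hq) hx
  · intro L x hx hx'
    refine h.pp_indep hS L.2 hx ?_
    refine (iSup_le fun M => ?_ : (⨆ j : {j // j ≠ L}, PP Om U (S : Subgroup G) j : Subgroup G) ≤ _) hx'
    exact le_iSup (fun M : {M : {M // M ∈ II Om U (S : Subgroup G)} // (M : Subgroup G) ≠ L} =>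
      PP Om U (S : Subgroup G) M) ⟨M.1, fun hh => M.2 (Subtype.ext hh)⟩
  · intro L x hx g hg
    obtain ⟨M, hM, hxM⟩ := h.pp_closed hS L.2 hx hg
    exact ⟨⟨M, hM⟩, hxM⟩

/-- every involution of a part lies in a four-subgroup of the part -/
theorem pp_rich (hS : Syl S ⊤) (hK : K ∈ II Om U S) (hx : x ∈ PP Om U S K) (hx2 : orderOf x = 2) :
    ∃ y ∈ PP Om U S K, orderOf y = 2 ∧ y ≠ x ∧ x * y = y * x := by
  obtain ⟨N, hN, hs, ht⟩ := h.exists_tt hS hK
  have hKO := hK.1.1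
  have hx1 : x ≠ 1 := by rintro rfl; rw [orderOf_one] at hx2; norm_num at hx2
  have hxx : x * x = 1 := by rw [← pow_two, ← hx2]; exact pow_orderOf_eq_one x
  have hne : ∀ M ∈ Om, TT U K (zz M) → zz M ≠ zz K := by
    intro M hM htM hh
    obtain ⟨-, w, hw, hw4, hne⟩ := htM
    rw [hh] at hne
    exact hne (h.hyp.comm_zz hKO (le_normalizer (h.vch.le K hKO hw))).symm
  rcases (h.PP_iff hS hK.1 hN hs ht).1 hx with hxX | ⟨x', hx', rfl⟩
  · have h1 : x = zz K := h.hyp.eq_zz hKO (XX_le K hxX) hxx hx1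
    refine ⟨zz N, Subgroup.subset_closure (Or.inr ⟨hs, N, hN, rfl, ht⟩), h.hyp.orderOf_zz hN, ?_, ?_⟩
    · rw [h1]; exact hne N hN ht
    · rw [h1]; exact ht.1.symm
  · obtain ⟨k, hk, hkz⟩ := h.exists_cj_mul hKO hN ht hx'
    have h1 := h.tt_mul hKO hN ht hx'
    refine ⟨zz K, Subgroup.subset_closure (Or.inl (h.zz_mem_XX hKO)), h.hyp.orderOf_zz hKO, ?_, ?_⟩
    · rw [← hkz]
      refine (hne _ (h.hO N hN k) ?_).symm
      rw [hkz]; exact h1
    · exact h1.1

end LW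

/-- **`|II| ≥ 2`** -/
theorem Red.comm_zz_cj (r : Red Om U) (hL : LemT Om U) (hS : Syl S ⊤) (hK : K ∈ II Om U S)
    (hK' : K' ∈ II Om U S) (hne : K ≠ K') (g : G) : g * zz K * g⁻¹ * zz K' = zz K' * (g * zz K * g⁻¹) := by
  have h := r.lw hL
  obtain ⟨S, rfl⟩ := exists_sylow_eq hS
  have hd := h.data S
  have hg : g ∈ fam (AF Om) (⊤ : Subgroup G) := by
    have h1 : sSup Om ≤ fam (AF Om) (⊤ : Subgroup G) := by
      rw [sSup_le_iff]
      intro L hL x hx
      obtain ⟨T, hT, hLT⟩ := exists_top (h.two L hL)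
      exact mem_fam ⟨T, hT, h.N0_of_mem hT ⟨hL, hLT⟩ hx⟩ (mem_top x)
    rw [r.gen] at h1
    exact h1 (mem_top g)
  have h1 := Cfsg.Agent.PermParts.Consumer.commutator_mem_of_data hd
    (fun L x hx hx2 => h.pp_rich (syl_sylow S) L.2 hx hx2)
    (i := ⟨K, hK⟩) (j := ⟨K', hK'⟩) (fun hh => hne (congrArg Subtype.val hh))
    (x := zz K) (y := zz K') (g := g)
    (Subgroup.subset_closure (Or.inl (h.zz_mem_XX hK.1.1))) (Subgroup.subset_closure (Or.inl (h.zz_mem_XX hK'.1.1))) hg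
  have h2 : oddCore G = ⊥ := by
    rw [eq_bot_iff, ← r.core]
    have hn : (oddCore G).Normal := Lib.Cores.pPrimeCore_normal 2
    refine le_OO le_top (by rw [normalizer_eq_top_iff.2 hn]) ?_
    exact (Nat.Prime.coprime_iff_not_dvd Nat.prime_two).1 (Lib.Cores.pPrimeCore_coprime 2).symm
  rw [h2, mem_bot, mul_inv_eq_one, mul_inv_eq_iff_eq_mul] at h1
  exact h1

/-- **`II` has at most one element** -/
theorem Red.subsingleton (r : Red Om U) (hL : LemT Om U) (hR : ¬ R1 Om ⊤) (hS : Syl S ⊤)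
    (hK : K ∈ II Om U S) (hK' : K' ∈ II Om U S) : K = K' := by
  by_contra hne
  have h := r.lw hL
  have hn : (normalClosure {zz K}).Normal := normalClosure_normal
  have h1 : normalClosure {zz K} ≠ ⊥ := by
    intro hh
    have h2 : zz K ∈ normalClosure {zz K} := subset_normalClosure rfl
    rw [hh, mem_bot] at h2
    exact h.hyp.zz_ne hK.1.1 h2
  have h2 : zz K' ∈ centralizer (normalClosure {zz K} : Set G) := by
    have h3 : normalClosure {zz K} ≤ centralizer {zz K'} := by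
      rw [normalClosure, closure_le]
      intro x hx
      obtain ⟨_, rfl, hg⟩ := Group.mem_conjugatesOfSet_iff.1 hx
      obtain ⟨g, rfl⟩ := isConj_iff.1 hg
      exact mem_centralizer_singleton_iff.2 (r.comm_zz_cj hL hS hK hK' hne g)
    exact mem_centralizer_iff.2 fun x hx => mem_centralizer_singleton_iff.1 (h3 hx)
  rw [(r.normal hL hR hn h1).2, mem_bot] at h2
  exact h.hyp.zz_ne hK'.1.1 h2

end

end Cfsg.Agent.Cit.CV1
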