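import Cfsg.Agent.Cit.Nil.CV1.Ends
import Cfsg.Agent.Cit.Nil.CV1.TMany
import Cfsg.Agent.Cit.Nil.CV1.TFree
import Cfsg.Agent.Cit.Nil.CV1.LemT

/-!
# (6b)(CV), rank one: R1 for reduced worlds

`Red.r1_top` : a reduced world with LEMMA T has `R1 Om ⊤`.
-/

set_option autoImplicit false
set_option linter.style.haveILetI false
set_option linter.unusedSectionVars false

namespace Cfsg.Agent.Cit.CV1

open Subgroup Cfsg Cit Tau CV

universe u

variable {G : Type u} [Group G] [Finite G] {Om : Set (Subgroup G)} {U : Subgroup G → Subgroup G}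
  {K L M N S T : Subgroup G}

/-- the Sylow subgroups in the two senses -/
theorem syl_top (S : Sylow 2 G) : Syl (S : Subgroup G) ⊤ :=
  ⟨le_top, S.isPGroup', by
    haveI : Fact (Nat.Prime 2) := ⟨Nat.prime_two⟩
    rw [relIndex_top_right]; exact S.not_dvd_index⟩

theorem LW.noClo (h : LW Om U) : Nil.CV1.TFree.NoClo Om := by
  intro S T u hu hu' h0 K hK hKT
  exact (h.closure' (syl_top S) (syl_top T) ⟨hu, fun K hK => h0 K hK.1 hK.2⟩ hu').2 K ⟨hK, hKT⟩

theorem LW.tf (h : LW Om U) (hn : ∀ K ∈ Om, ∀ N ∈ Om, ¬ TT U K (zz N)) : Nil.CV1.TFree.TF Om := by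
  intro S K hK hz
  exact (h.mem_Phi_of_not_tt (syl_top S) hK hz fun L hL => hn L hL.1 K hK).2

/-- the T-type end -/
theorem Red.no_tt (r : Red Om U) (hT : LemT Om U) (hR : ¬ R1 Om ⊤) (hK : K ∈ Om) (hN : N ∈ Om) (ht : TT U K (zz N)) :
    False := by
  have h := r.lw hT
  obtain ⟨S, hS, hKS⟩ := exists_top (r.two K hK)
  have hKI : K ∈ II Om U S := ⟨⟨hK, hKS⟩, N, hN, ht⟩
  have honly : ∀ L ∈ II Om U S, L = K := fun L hL => r.subsingleton hT hR hS hL hKI
  -- two orthogonal members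
  obtain ⟨A, hA, B, hB, hAB⟩ : ∃ A ∈ Om, ∃ B ∈ Om, Orth A B := by
    by_contra hh
    push Not at hh
    exact hR fun A hA B hB _ _ ho _ => hh A hA B hB ho
  have h2 : IsPGroup 2 (B ⊔ A : Subgroup G) := two_sup_comm (r.two A hA) (r.two B hB) hAB.2
  obtain ⟨S₂, hS₂, hle⟩ := exists_top h2
  have hn2 : 1 < (Phi Om S₂).ncard := by
    rw [Set.one_lt_ncard (Set.toFinite _)]
    exact ⟨A, ⟨hA, le_sup_right.trans hle⟩, B, ⟨hB, le_sup_left.trans hle⟩, hAB.1⟩
  rw [ncard_Phi_eq h.hO hS₂ hS] at hn2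
  obtain ⟨L, hL, hLK⟩ := Set.exists_ne_of_one_lt_ncard hn2 K
  have hLF : L ∈ FF Om U S := ⟨hL, fun M hM htM => hLK (honly L ⟨hL, M, hM, htM⟩)⟩
  refine r.false_of_closed hT hR hS (P := PP Om U S K) (h.PP_le hKI.1) ?_ ?_ (h.PP_inf_WF hS hKI) hLF
  · intro x hx g hg
    obtain ⟨M, hM, hgM⟩ := h.pp_closed hS hKI hx hg
    rwa [honly M hM] at hgM
  · intro hh
    have h3 : zz K ∈ PP Om U S K := subset_closure (Or.inl (h.zz_mem_XX hK))
    rw [hh, mem_bot] at h3
    exact r.hyp.zz_ne hK h3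

/-- **R1 for reduced worlds** -/
theorem Red.r1_top (r : Red Om U) (hT : LemT Om U) (hev : Comp.EvQ G)
    (hgold : ∀ E : Subgroup G, IsSimpleGroup E → Cit.ROne.Gold E) : R1 Om ⊤ := by
  haveI : Fact (Nat.Prime 2) := ⟨Nat.prime_two⟩
  by_contra hR
  have h := r.lw hT
  obtain ⟨K, hK⟩ : Om.Nonempty := by
    by_contra hh
    rw [Set.not_nonempty_iff_eq_empty] at hh
    refine hR fun K hK => ?_
    rw [hh] at hK
    exact absurd hK (Set.notMem_empty K)
  refine Nil.CV1.TFree.tfree_false r.toRW (oddCore_eq_bot_of_OO r.core) ?_ hev hgold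
    (h.tf fun K hK N hN ht => r.no_tt hT hR hK hN ht) h.noClo hK
  exact r.two_eq_bot hT (Lib.Cores.pCore_normal 2) (Lib.Cores.pCore_isPGroup 2)

/-- LEMMA T in a reduced world -/
theorem Red.lemT (r : Red Om U) : LemT Om U := CV1.lemT r.toRW fun _ he => r.ih _ (r.centralizer_ne_top he)

/-- **R1 for all worlds of rank one** -/
theorem r1_all (hev : ∀ (G : Type u) [Group G] [Finite G], Comp.EvQ G)
    (hgold : ∀ (G : Type u) [Group G] [Finite G], IsSimpleGroup G → Cit.ROne.Gold G)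
    (w : RW Om U) (H : Subgroup G) : R1 Om H :=
  r1_of_red (fun G _ _ _ _ r => r.r1_top r.lemT (hev G) fun E hE => hgold E hE) w H

/-- **LEMMA T for all worlds of rank one** -/
theorem lemT_all (hev : ∀ (G : Type u) [Group G] [Finite G], Comp.EvQ G)
    (hgold : ∀ (G : Type u) [Group G] [Finite G], IsSimpleGroup G → Cit.ROne.Gold G)
    (w : RW Om U) : LemT Om U :=
  CV1.lemT w fun e _ => r1_all hev hgold w (centralizer {e})

end Cfsg.Agent.Cit.CV1
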