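import Cfsg.Agent.Cit.Nil.CV1.Basic
import Cfsg.Agent.Transfer.PGroupNormal
import Mathlib.Data.Nat.Multiplicity

/-!
# The abstract `N₀`-closure theorem

`NZ Z Fr zf NC` : frames `Fr S` of pairwise commuting subgroups of the Sylow 2-subgroups `S`, their involutions `zf K`, a
conjugation invariant set `Z` of involutions and a relation `NC` with (U) (`nc`) and the CLAIM (`claim`).
`NZ.closure'` : `N0F Fr S u`, `u ∈ S'` implies `N0F Fr S' u`.
-/

set_option autoImplicit false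
set_option linter.style.haveILetI false
set_option linter.unusedSectionVars false

namespace Cfsg.Agent.Cit.CV1.NZAbs

open Subgroup Cfsg Cit CV1

variable {G : Type*} [Group G]

/-- `u ∈ S` normalises all members of the frame of `S` -/
def N0F (Fr : Subgroup G → Set (Subgroup G)) (S : Subgroup G) (u : G) : Prop := u ∈ S ∧ ∀ K ∈ Fr S, cj u K = K

/-- the data of the abstract `N₀`-closure theorem -/
structure NZ (Z : Set G) (Fr : Subgroup G → Set (Subgroup G)) (zf : Subgroup G → G) (NC : G → G → Prop) : Prop where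
  Zcj : ∀ z ∈ Z, ∀ g : G, g * z * g⁻¹ ∈ Z
  Z2 : ∀ z ∈ Z, z * z = 1
  frcj : ∀ {S : Subgroup G}, Syl S ⊤ → ∀ g, Fr (cj g S) = cj g '' Fr S
  le : ∀ {S : Subgroup G}, Syl S ⊤ → ∀ K ∈ Fr S, K ≤ S
  comm : ∀ {S : Subgroup G}, Syl S ⊤ → ∀ K ∈ Fr S, ∀ L ∈ Fr S, K ≠ L → ∀ x ∈ K, ∀ y ∈ L, x * y = y * x
  zZ : ∀ {S : Subgroup G}, Syl S ⊤ → ∀ K ∈ Fr S, zf K ∈ Z
  zcj : ∀ {S : Subgroup G}, Syl S ⊤ → ∀ K ∈ Fr S, ∀ g, zf (cj g K) = g * zf K * g⁻¹
  one : ∀ {S : Subgroup G}, Syl S ⊤ → ∀ K ∈ Fr S, zf K ≠ 1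
  uniq : ∀ {S : Subgroup G}, Syl S ⊤ → ∀ K ∈ Fr S, ∀ x ∈ K, x ≠ 1 → zf K ∈ zpowers x
  cmt : ∀ {S : Subgroup G}, Syl S ⊤ → ∀ K ∈ Fr S, ∃ v ∈ K, ∃ c ∈ K, v * c * v⁻¹ * c⁻¹ = zf K
  nc : ∀ {S : Subgroup G}, Syl S ⊤ → ∀ {u z : G}, u ∈ S → z ∈ Z → z ∈ S → u * z = z * u → (N0F Fr S u ↔ NC u z)
  nccj : ∀ {u z : G}, NC u z → ∀ g, NC (g * u * g⁻¹) (g * z * g⁻¹)
  claim : ∀ {S S₁ : Subgroup G} {u e : G}, Syl S ⊤ → Syl S₁ ⊤ → u ∈ S → (∀ K ∈ Fr S, cj u K ≠ K) →
    (∀ K ∈ Fr S, ∀ k ∈ K, k * e = e * k) → e * u = u * e → e ≠ 1 → N0F Fr S₁ u → N0F Fr S₁ e → (Fr S₁).Nonempty → False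

variable {Z : Set G} {Fr : Subgroup G → Set (Subgroup G)} {zf : Subgroup G → G} {NC : G → G → Prop}
  {A B K L S S' S₁ T : Subgroup G} {a b c e g s t u v w x y z z' : G}

/-- a bad pair -/
def Bad (Z : Set G) (Fr : Subgroup G → Set (Subgroup G)) (NC : G → G → Prop) (u : G) (S : Subgroup G) : Prop :=
  u ∈ S ∧ ¬ N0F Fr S u ∧ ∃ z ∈ Z, u * z = z * u ∧ NC u z

/-- the group generated by the `k k^u` -/
def DD' (u : G) (J : Set (Subgroup G)) : Subgroup G := closure {x | ∃ K ∈ J, ∃ k ∈ K, x = k * (u * k * u⁻¹)}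

theorem two_mul_card_le [Finite G] (hAB : A ≤ B) (hx : x ∈ B) (hxA : x ∉ A) : 2 * Nat.card A ≤ Nat.card B := by
  have h1 : Nat.card A ∣ Nat.card B := card_dvd_of_le hAB
  obtain ⟨k, hk⟩ := h1
  have hB : 0 < Nat.card B := Nat.card_pos
  have hk0 : k ≠ 0 := by rintro rfl; omega
  have hk1 : k ≠ 1 := by
    rintro rfl
    rw [mul_one] at hk
    have h2 := Subgroup.eq_of_le_of_card_ge hAB hk.le
    exact hxA (h2 ▸ hx)
  rw [hk, mul_comm]
  exact Nat.mul_le_mul_left _ (by omega)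

open Nat

namespace NZ

variable [Finite G] (h : NZ Z Fr zf NC)
include h

theorem cj_mem_Fr (hS : Syl S ⊤) (hu : u ∈ S) (hK : K ∈ Fr S) : cj u K ∈ Fr S := by
  have h1 : cj u S = S := mem_normalizer_iff_cj.1 (le_normalizer hu)
  rw [← h1, h.frcj hS]
  exact ⟨K, hK, rfl⟩

theorem ncard_eq (hS : Syl S ⊤) (hT : Syl T ⊤) : (Fr S).ncard = (Fr T).ncard := by
  obtain ⟨g, -, rfl⟩ := hS.exists_conj hT
  rw [h.frcj hS, Set.ncard_image_of_injective _ (cj_injective g)]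

theorem z_comm (hS : Syl S ⊤) (hK : K ∈ Fr S) (hu : cj u K = K) : u * zf K = zf K * u := by
  have h1 := h.zcj hS K hK u
  rw [hu] at h1
  exact (mul_inv_eq_iff_eq_mul.1 h1.symm)

theorem zf_mem (hS : Syl S ⊤) (hK : K ∈ Fr S) : zf K ∈ K := by
  obtain ⟨v, hv, c, hc, hvc⟩ := h.cmt hS K hK
  rw [← hvc]
  exact K.mul_mem (K.mul_mem (K.mul_mem hv hc) (K.inv_mem hv)) (K.inv_mem hc)

theorem zpow_two (hz : z ∈ Z) : IsPGroup 2 (zpowers z) := by
  have h1 : z ^ 2 = 1 := by rw [pow_two]; exact h.Z2 z hz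
  rintro ⟨x, hx⟩
  refine ⟨1, Subtype.ext ?_⟩
  obtain ⟨k, rfl⟩ := hx
  change (z ^ k) ^ 2 ^ 1 = 1
  rw [pow_one, ← zpow_natCast, ← zpow_mul, mul_comm, zpow_mul, zpow_natCast, h1, one_zpow]

theorem exists_syl_cent (hu2 : IsPGroup 2 (zpowers u)) (hz : z ∈ Z) (hc : u * z = z * u) :
    ∃ R, Syl R (centralizer {u}) ∧ z ∈ R ∧ u ∈ R := by
  have h2 : IsPGroup 2 (zpowers z ⊔ zpowers u : Subgroup G) := by
    refine two_sup_comm hu2 (h.zpow_two hz) ?_
    rintro _ ⟨i, rfl⟩ _ ⟨j, rfl⟩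
    exact (Commute.zpow_zpow (show Commute u z from hc) i j).eq
  obtain ⟨R, hR, hle⟩ := exists_syl_ge h2 (show zpowers z ⊔ zpowers u ≤ centralizer {u} from
    sup_le (zpowers_le.2 (mem_centralizer_singleton_iff.2 hc.symm))
      (zpowers_le.2 (mem_centralizer_singleton_iff.2 rfl)))
  exact ⟨R, hR, hle (mem_sup_left (mem_zpowers _)), hle (mem_sup_right (mem_zpowers _))⟩

omit [Finite G] h in
theorem conj_comm (hcu : c * u = u * c) (hc' : u * z = z * u) : u * (c * z * c⁻¹) = c * z * c⁻¹ * u := by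
  have h1 : u * c⁻¹ = c⁻¹ * u := by
    rw [eq_inv_mul_iff_mul_eq, ← mul_assoc, hcu, mul_inv_cancel_right]
  calc u * (c * z * c⁻¹) = (u * c) * z * c⁻¹ := by group
    _ = c * (u * z) * c⁻¹ := by rw [← hcu]; group
    _ = c * z * (u * c⁻¹) := by rw [hc']; group
    _ = c * z * c⁻¹ * u := by rw [h1]; group

/-- **(U')** -/
theorem nc_indep (hu2 : IsPGroup 2 (zpowers u)) (hz : z ∈ Z) (hz' : z' ∈ Z) (hc : u * z = z * u)
    (hc' : u * z' = z' * u) (h1 : NC u z) : NC u z' := by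
  obtain ⟨R, hR, hzR, huR⟩ := h.exists_syl_cent hu2 hz hc
  obtain ⟨R', hR', hzR', huR'⟩ := h.exists_syl_cent hu2 hz' hc'
  obtain ⟨c, hcu, rfl⟩ := hR'.exists_conj hR
  have hcu' : c * u = u * c := mem_centralizer_singleton_iff.1 hcu
  obtain ⟨S, hS, hRS⟩ := exists_top hR.2.1
  have h2 : N0F Fr S u := (h.nc hS (hRS huR) hz (hRS hzR) hc).2 h1
  have h3 : c * z' * c⁻¹ ∈ S := hRS (conj_mem_cj hzR')
  have h4 := conj_comm hcu' hc'
  have h5 := h.nccj ((h.nc hS (hRS huR) (h.Zcj z' hz' c) h3 h4).1 h2) c⁻¹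
  have e1 : c⁻¹ * u * c⁻¹⁻¹ = u := by rw [inv_inv, mul_assoc, ← hcu', inv_mul_cancel_left]
  have e2 : c⁻¹ * (c * z' * c⁻¹) * c⁻¹⁻¹ = z' := by group
  rwa [e1, e2] at h5

theorem bad_move (hS : Syl S ⊤) (hb : Bad Z Fr NC u S) (hz : z ∈ Z) (hzS : z ∈ S) : u * z ≠ z * u := by
  intro hc
  obtain ⟨huS, hn, z', hz', hcz, hnc⟩ := hb
  exact hn ((h.nc hS huS hz hzS hc).2 (h.nc_indep (hS.2.1.to_le (zpowers_le.2 huS)) hz' hz hcz hc hnc))

theorem bad_cj_ne (hS : Syl S ⊤) (hb : Bad Z Fr NC u S) (hK : K ∈ Fr S) : cj u K ≠ K := fun hh =>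
  h.bad_move hS hb (h.zZ hS K hK) (h.le hS K hK (h.zf_mem hS hK)) (h.z_comm hS hK hh)

theorem exists_S1 (hb : Bad Z Fr NC u S) (hS : Syl S ⊤) :
    ∃ S₁, Syl S₁ (⊤ : Subgroup G) ∧ (∀ x ∈ S, x * u = u * x → x ∈ S₁) ∧ N0F Fr S₁ u := by
  obtain ⟨huS, hn, z, hz, hcz, hnc⟩ := hb
  have h1 : IsPGroup 2 (S ⊓ centralizer {u} : Subgroup G) := hS.2.1.to_le inf_le_left
  obtain ⟨R, hR, hle⟩ := exists_syl_ge h1 inf_le_right
  obtain ⟨R', hR', hzR', -⟩ := h.exists_syl_cent (hS.2.1.to_le (zpowers_le.2 huS)) hz hcz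
  obtain ⟨c, hcu, rfl⟩ := hR'.exists_conj hR
  have hcu' : c * u = u * c := mem_centralizer_singleton_iff.1 hcu
  obtain ⟨S₁, hS₁, hRS⟩ := exists_top hR.2.1
  have hx : ∀ x ∈ S, x * u = u * x → x ∈ S₁ := fun x hxS hxu =>
    hRS (hle ⟨hxS, mem_centralizer_singleton_iff.2 hxu⟩)
  have huS₁ : u ∈ S₁ := hx u huS rfl
  refine ⟨S₁, hS₁, hx, ?_⟩
  have h3 : c * z * c⁻¹ ∈ S₁ := hRS (conj_mem_cj hzR')
  have h5 := h.nccj hnc c
  have e1 : c * u * c⁻¹ = u := by rw [hcu', mul_inv_cancel_right]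
  rw [e1] at h5
  exact (h.nc hS₁ huS₁ (h.Zcj z hz c) h3 (conj_comm hcu' hcz)).2 h5

theorem nonempty_of_not (hu : u ∈ S) (hn : ¬ N0F Fr S u) : (Fr S).Nonempty := by
  by_contra hh
  rw [Set.not_nonempty_iff_eq_empty] at hh
  refine hn ⟨hu, fun K hK => ?_⟩
  rw [hh] at hK
  exact absurd hK (Set.notMem_empty K)

/-- the central elements give bad pairs -/
theorem bad_next (hS : Syl S ⊤) (hb : Bad Z Fr NC u S) (hS₁ : Syl S₁ ⊤) (hx : ∀ x ∈ S, x * u = u * x → x ∈ S₁)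
    (hu1 : N0F Fr S₁ u) (he : e ∈ S) (heD : ∀ K ∈ Fr S, ∀ k ∈ K, k * e = e * k) (heu : e * u = u * e)
    (he1 : e ≠ 1) : Bad Z Fr NC e S₁ := by
  obtain ⟨K, hK⟩ := h.nonempty_of_not hb.1 hb.2.1
  have hne : (Fr S₁).Nonempty := by
    rw [← Set.ncard_pos (Set.toFinite _), ← h.ncard_eq hS hS₁, Set.ncard_pos (Set.toFinite _)]
    exact ⟨K, hK⟩
  have hfix : ∀ K ∈ Fr S, cj e K = K := fun K hK => by
    rw [← mem_normalizer_iff_cj]
    apply centralizer_le_normalizer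
    rw [mem_centralizer_iff]
    exact fun k hk => heD K hK k hk
  have hc : e * zf K = zf K * e := h.z_comm hS hK (hfix K hK)
  exact ⟨hx e he heu, fun h0 => h.claim hS hS₁ hb.1 (fun K hK => h.bad_cj_ne hS hb hK) heD heu he1 hu1 h0 hne,
    zf K, h.zZ hS K hK, hc, (h.nc hS he (h.zZ hS K hK) (h.le hS K hK (h.zf_mem hS hK)) hc).1 ⟨he, hfix⟩⟩

/-- a bad pair with an involution -/
theorem exists_bad (hS : Syl S ⊤) (hb : Bad Z Fr NC u S) :
    ∃ e S₁, Syl S₁ (⊤ : Subgroup G) ∧ Bad Z Fr NC e S₁ ∧ e * e = 1 := by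
  haveI : Fact (Nat.Prime 2) := ⟨Nat.prime_two⟩
  obtain ⟨S₁, hS₁, hx, hu1⟩ := h.exists_S1 hb hS
  have h1 : (⊤ : Subgroup S) ≠ ⊥ := by
    intro hh
    have h2 : (⟨u, hb.1⟩ : S) ∈ (⊥ : Subgroup S) := by rw [← hh]; exact mem_top _
    have h3 : u = 1 := congrArg Subtype.val (mem_bot.1 h2)
    refine hb.2.1 ⟨hb.1, fun K _ => ?_⟩
    rw [h3, cj_one]
  obtain ⟨e, -, hec, heo⟩ := Transfer.PGroupNormal.exists_mem_inf_center_orderOf hS.2.1 (⊤ : Subgroup S) h1
  have hcm : ∀ x ∈ S, x * (e : G) = e * x := fun x hx => by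
    have := mem_center_iff.1 hec ⟨x, hx⟩
    exact congrArg Subtype.val this
  have he1 : (e : G) ≠ 1 := by
    intro hh
    have : e = 1 := Subtype.ext hh
    rw [this, orderOf_one] at heo
    omega
  have hee : (e : G) * e = 1 := by
    have h3 : e ^ 2 = 1 := by rw [← heo]; exact pow_orderOf_eq_one e
    rw [pow_two] at h3
    exact congrArg Subtype.val h3
  exact ⟨e, S₁, hS₁, h.bad_next hS hb hS₁ hx hu1 e.2 (fun K hK k hk => hcm k (h.le hS K hK hk)) (hcm u hb.1).symm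
    he1, hee⟩

/-- the count -/
theorem count (hS : Syl S ⊤) (huS : u ∈ S) (huu : u * u = 1) (hmv : ∀ K ∈ Fr S, cj u K ≠ K)
    {J : Set (Subgroup G)} (hJ : J ⊆ Fr S) : 2 ^ (J ∪ cj u '' J).ncard ≤ Nat.card (DD' u J) := by
  have hJf : J.Finite := Set.toFinite J
  induction J, hJf using Set.Finite.induction_on with
  | empty =>
    rw [Set.image_empty, Set.union_empty, Set.ncard_empty, pow_zero]
    exact Nat.card_pos
  | @insert K J' hKJ hJ' ih =>
    have hJ'' : J' ⊆ Fr S := fun L hL => hJ (Set.mem_insert_of_mem _ hL)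
    have hK : K ∈ Fr S := hJ (Set.mem_insert _ _)
    have hcc : ∀ L : Subgroup G, cj u (cj u L) = L := fun L => by rw [← cj_mul, huu, cj_one]
    have hle : DD' u J' ≤ DD' u (insert K J') := closure_mono fun x ⟨L, hL, k, hk, hx⟩ =>
      ⟨L, Set.mem_insert_of_mem _ hL, k, hk, hx⟩
    by_cases hcase : cj u K ∈ J'
    · have e1 : insert K J' ∪ cj u '' insert K J' = J' ∪ cj u '' J' := by
        refine Set.Subset.antisymm ?_ ?_
        · rintro L (hL | ⟨L', hL', rfl⟩)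
          · rcases hL with rfl | hL
            · exact Or.inr ⟨_, hcase, hcc _⟩
            · exact Or.inl hL
          · rcases hL' with rfl | hL'
            · exact Or.inl hcase
            · exact Or.inr ⟨_, hL', rfl⟩
        · rintro L (hL | ⟨L', hL', rfl⟩)
          · exact Or.inl (Set.mem_insert_of_mem _ hL)
          · exact Or.inr ⟨_, Set.mem_insert_of_mem _ hL', rfl⟩
      rw [e1]
      exact (ih hJ'').trans (Nat.le_of_dvd Nat.card_pos (card_dvd_of_le hle))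
    · have hA : ∀ a ∈ DD' u J', ∀ k ∈ K, a * k = k * a := by
        intro a ha k hk
        have h1 : DD' u J' ≤ centralizer {k} := by
          refine (closure_le _).2 ?_
          rintro _ ⟨L, hL, l, hl, rfl⟩
          have h2 := h.comm hS L (hJ'' hL) K hK (by rintro rfl; exact hKJ hL)
          have h3 := h.comm hS (cj u L) (h.cj_mem_Fr hS huS (hJ'' hL)) K hK (by
            rintro rfl
            rw [hcc] at hcase
            exact hcase hL)
          exact mul_mem (mem_centralizer_singleton_iff.2 (h2 l hl k hk))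
            (mem_centralizer_singleton_iff.2 (h3 _ (conj_mem_cj hl) k hk))
        exact mem_centralizer_singleton_iff.1 (h1 ha)
      obtain ⟨v, hv, c, hc, hvc⟩ := h.cmt hS K hK
      have hvc1 : v * c ≠ c * v := by
        intro hh
        rw [hh] at hvc
        refine h.one hS K hK ?_
        rw [← hvc]; group
      have ho := h.comm hS K hK (cj u K) (h.cj_mem_Fr hS huS hK) (hmv K hK).symm
      have hd : ∀ k ∈ K, ∀ x ∈ K, k * (u * k * u⁻¹) * x = x * (k * (u * k * u⁻¹)) → k * x = x * k := by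
        intro k hk x hx hh
        have h1 := ho x hx _ (conj_mem_cj (g := u) hk)
        rw [mul_assoc, ← h1, ← mul_assoc k x, ← mul_assoc x k] at hh
        exact mul_right_cancel hh
      have hdm : ∀ k ∈ K, k * (u * k * u⁻¹) ∈ DD' u (insert K J') := fun k hk =>
        subset_closure ⟨K, Set.mem_insert _ _, k, hk, rfl⟩
      have hvA : v * (u * v * u⁻¹) ∉ DD' u J' := fun hh => hvc1 (hd v hv c hc (hA _ hh c hc))
      have hB1 : DD' u J' ⊔ zpowers (v * (u * v * u⁻¹)) ≤ DD' u (insert K J') :=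
        sup_le hle (zpowers_le.2 (hdm v hv))
      have hBv : DD' u J' ⊔ zpowers (v * (u * v * u⁻¹)) ≤ centralizer {v} := by
        refine sup_le (fun a ha => mem_centralizer_singleton_iff.2 (hA a ha v hv)) (zpowers_le.2 ?_)
        rw [mem_centralizer_singleton_iff]
        have h1 := ho v hv _ (conj_mem_cj (g := u) hv)
        rw [mul_assoc, ← h1]
      have hcB : c * (u * c * u⁻¹) ∉ DD' u J' ⊔ zpowers (v * (u * v * u⁻¹)) := fun hh =>
        hvc1 (hd c hc v hv (mem_centralizer_singleton_iff.1 (hBv hh))).symm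
      have h1 := two_mul_card_le (le_sup_left : DD' u J' ≤ DD' u J' ⊔ zpowers (v * (u * v * u⁻¹)))
        (mem_sup_right (mem_zpowers _)) hvA
      have h2 := two_mul_card_le hB1 (hdm c hc) hcB
      have h3 : (insert K J' ∪ cj u '' insert K J').ncard ≤ (J' ∪ cj u '' J').ncard + 2 := by
        have e1 : insert K J' ∪ cj u '' insert K J' = insert K (insert (cj u K) (J' ∪ cj u '' J')) := by
          rw [Set.image_insert_eq, Set.insert_union, Set.union_insert]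
        rw [e1]
        have a1 := Set.ncard_insert_le K (insert (cj u K) (J' ∪ cj u '' J'))
        have a2 := Set.ncard_insert_le (cj u K) (J' ∪ cj u '' J')
        omega
      calc 2 ^ (insert K J' ∪ cj u '' insert K J').ncard ≤ 2 ^ ((J' ∪ cj u '' J').ncard + 2) :=
            Nat.pow_le_pow_right (by omega) h3
        _ = 4 * 2 ^ (J' ∪ cj u '' J').ncard := by ring
        _ ≤ 4 * Nat.card (DD' u J') := Nat.mul_le_mul_left _ (ih hJ'')
        _ ≤ Nat.card (DD' u (insert K J')) := by omega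

theorem no_bad_inv (hS : Syl S ⊤) (hb : Bad Z Fr NC u S) (huu : u * u = 1) : False := by
  haveI : Fact (Nat.Prime 2) := ⟨Nat.prime_two⟩
  obtain ⟨S₁, hS₁, hx, hu1⟩ := h.exists_S1 hb hS
  have huS := hb.1
  have hui : u⁻¹ = u := inv_eq_of_mul_eq_one_right huu
  have hmv : ∀ K ∈ Fr S, cj u K ≠ K := fun K hK => h.bad_cj_ne hS hb hK
  have ho : ∀ K ∈ Fr S, ∀ x ∈ K, ∀ y ∈ cj u K, x * y = y * x := fun K hK =>
    h.comm hS K hK _ (h.cj_mem_Fr hS huS hK) (hmv K hK).symm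
  have hDS : DD' u (Fr S) ≤ S := by
    refine (closure_le _).2 ?_
    rintro _ ⟨K, hK, k, hk, rfl⟩
    have hkS := h.le hS K hK hk
    exact S.mul_mem hkS (S.mul_mem (S.mul_mem huS hkS) (S.inv_mem huS))
  have hDu : DD' u (Fr S) ≤ centralizer {u} := by
    refine (closure_le _).2 ?_
    rintro _ ⟨K, hK, k, hk, rfl⟩
    refine mem_centralizer_singleton_iff.2 ?_
    have h1 := ho K hK k hk _ (conj_mem_cj (g := u) hk)
    calc k * (u * k * u⁻¹) * u = (u * k * u⁻¹) * k * u := by rw [h1]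
      _ = u * k * (u⁻¹ * k * u) := by group
      _ = u * (k * (u * k * u⁻¹)) := by rw [hui]; group
  have hDS₁ : DD' u (Fr S) ≤ S₁ := fun x hxD => hx x (hDS hxD) (mem_centralizer_singleton_iff.1 (hDu hxD))
  have hDn : ∀ K ∈ Fr S, DD' u (Fr S) ≤ normalizer (K : Set G) := by
    intro K hK
    have h1 : ∀ L ∈ Fr S, L ≤ normalizer (K : Set G) := by
      intro L hL
      by_cases hLK : L = K
      · rw [hLK]; exact le_normalizer
      · have h2 : L ≤ centralizer (K : Set G) := fun l hl => by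
          rw [mem_centralizer_iff]
          exact fun k hk => (h.comm hS L hL K hK hLK l hl k hk).symm
        exact h2.trans (centralizer_le_normalizer _)
    refine (closure_le _).2 ?_
    rintro _ ⟨L, hL, l, hl, rfl⟩
    exact mul_mem (h1 L hL hl) (h1 _ (h.cj_mem_Fr hS huS hL) (conj_mem_cj hl))
  have hD2 : IsPGroup 2 (DD' u (Fr S)) := hS.2.1.to_le hDS
  let act : MulAction (DD' u (Fr S)) (Fr S₁) :=
    { smul := fun d K => ⟨cj (d : G) K.1, h.cj_mem_Fr hS₁ (hDS₁ d.2) K.2⟩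
      one_smul := fun K => Subtype.ext (cj_one _)
      mul_smul := fun a b K => Subtype.ext (cj_mul _ _ _) }
  have hinj : Function.Injective (MulAction.toPermHom (DD' u (Fr S)) (Fr S₁)) := by
    rw [← MonoidHom.ker_eq_bot_iff]
    by_contra hker
    obtain ⟨e, hek, hec, heo⟩ := Transfer.PGroupNormal.exists_mem_inf_center_orderOf hD2 _ hker
    have he1 : (e : G) ≠ 1 := by
      intro hh
      have : e = 1 := Subtype.ext hh
      rw [this, orderOf_one] at heo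
      omega
    have hfix : ∀ L ∈ Fr S₁, cj (e : G) L = L := by
      intro L hL
      have h1 := congrArg (fun σ : Equiv.Perm (Fr S₁) => (σ ⟨L, hL⟩ : Subgroup G)) (MonoidHom.mem_ker.1 hek)
      exact h1
    have heD : ∀ K ∈ Fr S, ∀ k ∈ K, k * (e : G) = e * k := by
      intro K hK k hk
      have hkD : k * (u * k * u⁻¹) ∈ DD' u (Fr S) := subset_closure ⟨K, hK, k, hk, rfl⟩
      have h1 : k * (u * k * u⁻¹) * (e : G) = e * (k * (u * k * u⁻¹)) := by
        have := mem_center_iff.1 hec ⟨_, hkD⟩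
        exact congrArg Subtype.val this
      have h2 : (e : G) * k * (e : G)⁻¹ ∈ K := (mem_normalizer_iff.1 (hDn K hK e.2) k).1 hk
      have hKu := h.cj_mem_Fr hS huS hK
      have h3 : (e : G) * (u * k * u⁻¹) * (e : G)⁻¹ ∈ cj u K :=
        (mem_normalizer_iff.1 (hDn _ hKu e.2) _).1 (conj_mem_cj hk)
      have h4 : k⁻¹ * (e * k * (e : G)⁻¹) = (u * k * u⁻¹) * (e * (u * k * u⁻¹) * (e : G)⁻¹)⁻¹ := by
        rw [eq_mul_inv_iff_mul_eq]
        calc k⁻¹ * (e * k * (e : G)⁻¹) * (e * (u * k * u⁻¹) * (e : G)⁻¹)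
            = k⁻¹ * (e * (k * (u * k * u⁻¹))) * (e : G)⁻¹ := by group
          _ = u * k * u⁻¹ := by rw [← h1]; group
      have h5 : k⁻¹ * (e * k * (e : G)⁻¹) ∈ cj u K := by
        rw [h4]; exact mul_mem (conj_mem_cj hk) (inv_mem h3)
      have h7 : k⁻¹ * (e * k * (e : G)⁻¹) = 1 := by
        by_contra h6
        have a1 := h.uniq hS K hK _ (K.mul_mem (K.inv_mem hk) h2) h6
        have a2 : zf K ∈ cj u K := (zpowers_le.2 h5) a1
        have a3 := h.uniq hS _ hKu _ a2 (h.one hS K hK)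
        -- `zf (cj u K) = zf K`
        have a4 : zf (cj u K) = zf K := by
          obtain ⟨i, hi⟩ := a3
          have hi : zf K ^ i = zf (cj u K) := hi
          have hz2 := h.Z2 _ (h.zZ hS K hK)
          rcases Int.even_or_odd' i with ⟨j, rfl | rfl⟩
          · exfalso
            refine h.one hS _ hKu ?_
            rw [← hi, zpow_mul, zpow_ofNat, pow_two, hz2, one_zpow]
          · rw [← hi, zpow_add, zpow_mul, zpow_ofNat, pow_two, hz2, one_zpow, one_mul, zpow_one]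
        rw [h.zcj hS K hK] at a4
        exact h.bad_move hS hb (h.zZ hS K hK) (h.le hS K hK (h.zf_mem hS hK)) (mul_inv_eq_iff_eq_mul.1 a4)
      have h8 : (e : G) * k * (e : G)⁻¹ = k := by rw [inv_mul_eq_one] at h7; exact h7.symm
      exact (mul_inv_eq_iff_eq_mul.1 h8).symm
    have hb' := h.bad_next hS hb hS₁ hx hu1 (hDS e.2) heD (mem_centralizer_singleton_iff.1 (hDu e.2)) he1
    exact hb'.2.1 ⟨hDS₁ e.2, hfix⟩
  have h1 := Subgroup.card_dvd_of_injective _ hinj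
  rw [Nat.card_perm, Nat.card_coe_set_eq, ← h.ncard_eq hS hS₁] at h1
  obtain ⟨k, hk⟩ := IsPGroup.iff_card.1 hD2
  have h2 := h.count hS huS huu hmv (le_refl (Fr S))
  rw [hk] at h1 h2
  have hn : (Fr S).ncard ≠ 0 := ((Set.ncard_pos (Set.toFinite _)).2 (h.nonempty_of_not hb.1 hb.2.1)).ne'
  have h3 : (k : ℕ∞) ≤ emultiplicity 2 ((Fr S).ncard)! := le_emultiplicity_of_pow_dvd h1
  have h4 := lt_of_le_of_lt h3 (Nat.emultiplicity_two_factorial_lt hn)
  have h5 : k < (Fr S).ncard := by exact_mod_cast h4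
  have h6 : (Fr S ∪ cj u '' Fr S).ncard ≤ k := (Nat.pow_le_pow_iff_right (by omega)).1 h2
  have h7 : (Fr S).ncard ≤ (Fr S ∪ cj u '' Fr S).ncard :=
    Set.ncard_le_ncard Set.subset_union_left (Set.toFinite _)
  omega

/-- **the abstract `N₀`-closure theorem** -/
theorem closure' (hS : Syl S ⊤) (hS' : Syl S' ⊤) (h0 : N0F Fr S u) (hu : u ∈ S') : N0F Fr S' u := by
  by_contra hn
  obtain ⟨K', hK'⟩ := h.nonempty_of_not hu hn
  obtain ⟨K, hK⟩ : (Fr S).Nonempty := by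
    rw [← Set.ncard_pos (Set.toFinite _), h.ncard_eq hS hS', Set.ncard_pos (Set.toFinite _)]
    exact ⟨K', hK'⟩
  have hc : u * zf K = zf K * u := h.z_comm hS hK (h0.2 K hK)
  have hb : Bad Z Fr NC u S' := ⟨hu, hn, zf K, h.zZ hS K hK, hc,
    (h.nc hS h0.1 (h.zZ hS K hK) (h.le hS K hK (h.zf_mem hS hK)) hc).1 h0⟩
  obtain ⟨e, S₁, hS₁, hb₁, hee⟩ := h.exists_bad hS' hb
  exact h.no_bad_inv hS₁ hb₁ hee

end NZ

end Cfsg.Agent.Cit.CV1.NZAbs
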