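import Cfsg.Agent.Cit.Nil.CV1.Local
import Cfsg.Agent.Transfer.PGroupNormal
import Mathlib.Data.Nat.Multiplicity

/-!
# (6b)(CV), rank one: the `N₀`-closure theorem

`N0 Om S u` : `u ∈ S` normalises all members in `S`.
`NC Om u z` : `u` fixes all blocks of `C(z)`.
`closure'`  : a 2-element `u` of two Sylow subgroups `S`, `S'` with `N0 Om S u` has `N0 Om S' u`.
-/

set_option autoImplicit false
set_option linter.style.haveILetI false
set_option linter.unusedSectionVars false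

namespace Cfsg.Agent.Cit.CV1

open Subgroup Cfsg Cit Tau CV

variable {G : Type*} [Group G]

/-- `u ∈ S` normalises all members in `S` -/
def N0 (Om : Set (Subgroup G)) (S : Subgroup G) (u : G) : Prop := u ∈ S ∧ ∀ K ∈ Phi Om S, cj u K = K

/-- `u` fixes all blocks of `C(z)` -/
def NC (Om : Set (Subgroup G)) (u z : G) : Prop :=
  ∀ M ∈ Om, M ≤ centralizer {z} → Conn Om (centralizer {z}) (cj u M) M

/-- a bad pair -/
def Bad (Om : Set (Subgroup G)) (u : G) (S : Subgroup G) : Prop :=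
  u ∈ S ∧ ¬ N0 Om S u ∧ ∃ N ∈ Om, u * zz N = zz N * u ∧ NC Om u (zz N)

variable {Om : Set (Subgroup G)} {U : Subgroup G → Subgroup G} {A B H K K₁ K₂ L M N N' S S' S₁ T : Subgroup G}
  {a b e g s t u v w x y z : G}

theorem adj_cj (hO : ∀ K ∈ Om, ∀ g, cj g K ∈ Om) (h : Adj Om H K L) (g : G) :
    Adj Om (cj g H) (cj g K) (cj g L) :=
  ⟨⟨hO K h.1.1 g, cj_mono g h.1.2⟩, ⟨hO L h.2.1.1 g, cj_mono g h.2.1.2⟩, by
    rw [← cj_commutator, OO_cj, cj_le_cj]; exact h.2.2⟩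

theorem conn_cj (hO : ∀ K ∈ Om, ∀ g, cj g K ∈ Om) (h : Conn Om H K L) (g : G) :
    Conn Om (cj g H) (cj g K) (cj g L) := by
  induction h with
  | refl => exact Relation.ReflTransGen.refl
  | tail _ h2 ih => exact Relation.ReflTransGen.tail ih (adj_cj hO h2 g)

theorem mem_norm_centralizer (h : u * z = z * u) : u ∈ normalizer ((centralizer {z} : Subgroup G) : Set G) :=
  le_normalizer (mem_centralizer_singleton_iff.2 h)

theorem cj_le_centralizer (h : u * z = z * u) (hM : M ≤ centralizer {z}) : cj u M ≤ centralizer {z} := by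
  have h1 := cj_mono u hM
  rwa [mem_normalizer_iff_cj.1 (mem_norm_centralizer h)] at h1

theorem nc_cj (hO : ∀ K ∈ Om, ∀ g, cj g K ∈ Om) (h : NC Om u z) (g : G) : NC Om (g * u * g⁻¹) (g * z * g⁻¹) := by
  intro M hM hMz
  have h1 : cj g⁻¹ M ≤ centralizer {z} := by
    have h2 := cj_mono g⁻¹ hMz
    rw [cj_centralizer] at h2
    have h3 : g⁻¹ * (g * z * g⁻¹) * g⁻¹⁻¹ = z := by group
    rwa [h3] at h2
  have h2 := conn_cj hO (h _ (hO M hM _) h1) g
  rw [cj_centralizer, cj_cj_inv, ← cj_mul, ← cj_mul] at h2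
  exact h2

theorem cj_mem_Phi (hO : ∀ K ∈ Om, ∀ g, cj g K ∈ Om) (hu : u ∈ S) (hK : K ∈ Phi Om S) : cj u K ∈ Phi Om S := by
  refine ⟨hO K hK.1 u, ?_⟩
  have h1 := cj_mono u hK.2
  rwa [mem_normalizer_iff_cj.1 (le_normalizer hu)] at h1

theorem two_mul_card_le [Finite G] (hAB : A ≤ B) (hx : x ∈ B) (hxA : x ∉ A) : 2 * Nat.card A ≤ Nat.card B := by
  have h1 : Nat.card A ∣ Nat.card B := card_dvd_of_le hAB
  obtain ⟨k, hk⟩ := h1
  have hB : 0 < Nat.card B := Nat.card_pos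
  have hk0 : k ≠ 0 := by rintro rfl; omega
  have hk1 : k ≠ 1 := by
    rintro rfl
    rw [mul_one] at hk
    have h2 := Subgroup.eq_of_le_of_card_ge hAB hk.le
    exact hxA (h2 ▸ hx)
  rw [hk, mul_comm]
  exact Nat.mul_le_mul_left _ (by omega)

/-- the group generated by the `k k^u` -/
def DJ (u : G) (J : Set (Subgroup G)) : Subgroup G := closure {x | ∃ K ∈ J, ∃ k ∈ K, x = k * (u * k * u⁻¹)}

open Nat

namespace LW

variable [Finite G] (h : LW Om U)
include h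

theorem zpowers_two (hS : IsPGroup 2 S) (hu : u ∈ S) : IsPGroup 2 (zpowers u) := hS.to_le (zpowers_le.2 hu)

theorem le_cent_of_not_tt (hK : K ∈ Om) (hN : N ∈ Om) (hc : zz N * zz K = zz K * zz N) (ht : ¬ TT U K (zz N)) :
    K ≤ centralizer {zz N} := by
  rcases h.comm_of_not_tt hK hN hc ht with rfl | h1
  · exact h.hyp.le_centralizer hK
  · exact le_centralizer_singleton fun k hk => h1 k hk _ (h.hyp.zz_mem hN)

/-- a frame of `C(zz N)` -/
theorem frame_zz (hS : Syl S ⊤) (hN : N ∈ Om) (hs : zz N ∈ S) : ∃ F : Set (Subgroup G), F ⊆ Om ∧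
    (∀ K ∈ F, K ≤ centralizer {zz N}) ∧ (∀ K ∈ F, ∀ L ∈ F, K ≠ L → ∀ x ∈ K, ∀ y ∈ L, x * y = y * x) ∧
    (Phi Om S).ncard ≤ F.ncard ∧ ∀ u, N0 Om S u → u * zz N = zz N * u → ∀ K ∈ F, cj u K = K := by
  by_cases hex : ∃ K ∈ Phi Om S, TT U K (zz N)
  · obtain ⟨K, hK, ht⟩ := hex
    obtain ⟨S', hS', hF, -⟩ := h.exists_swap hS hK hN hs ht IsPGroup.of_bot bot_le (fun _ _ _ => bot_le)
    refine ⟨Phi Om S', fun K hK => hK.1, ?_, fun K hK L hL hne => (h.orth_of_Phi hS' hK hL hne).2, ?_, ?_⟩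
    · rw [hF]
      rintro L (rfl | hL)
      · exact h.hyp.le_centralizer hN
      · refine h.le_cent_of_not_tt hL.1.1 hN (h.comm_zz_of_mem hS.2.1 hL.1.1 hL.1.2 hN hs) ?_
        exact fun hh => hL.2 (h.tt_eq hS.2.1 hL.1.1 hL.1.2 hK.1 hK.2 hN hh ht)
    · rw [ncard_Phi_eq h.hO hS hS']
    · intro u hu hc
      rw [hF]
      rintro L (rfl | hL)
      · exact mem_normalizer_iff_cj.1 (h.norm_of_unique hN (fun L hL hz => h.tt_unique' hK.1 hN ht hL hz) hc)
      · exact hu.2 L hL.1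
  · push Not at hex
    refine ⟨Phi Om S, fun K hK => hK.1, fun K hK => ?_, fun K hK L hL hne => (h.orth_of_Phi hS hK hL hne).2, le_rfl,
      fun u hu _ K hK => hu.2 K hK⟩
    exact h.le_cent_of_not_tt hK.1 hN (h.comm_zz_of_mem hS.2.1 hK.1 hK.2 hN hs) (hex K hK)

theorem conn_cj_of_frame (hS : Syl S ⊤) {F : Set (Subgroup G)} (hF : F ⊆ Om) (hFH : ∀ K ∈ F, K ≤ H)
    (hc : ∀ K ∈ F, ∀ L ∈ F, K ≠ L → ∀ x ∈ K, ∀ y ∈ L, x * y = y * x) (hn : (Phi Om S).ncard ≤ F.ncard)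
    (hu : u ∈ normalizer (H : Set G)) (hfix : ∀ K ∈ F, cj u K = K) (hM : M ∈ Om) (hMH : M ≤ H) :
    Conn Om H (cj u M) M := by
  obtain ⟨K, hK, hKM⟩ := h.full hS hF hFH hc hn hM hMH
  have h1 := hKM.cj h.hO hu
  rw [hfix K hK] at h1
  exact h1.symm.trans hKM

/-- **(U)** -/
theorem nc_iff (hS : Syl S ⊤) (hu : u ∈ S) (hN : N ∈ Om) (hs : zz N ∈ S) (hc : u * zz N = zz N * u) :
    N0 Om S u ↔ NC Om u (zz N) := by
  constructor
  · intro h0 M hM hMz
    obtain ⟨F, hF, hFH, hFc, hn, hfix⟩ := h.frame_zz hS hN hs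
    exact h.conn_cj_of_frame hS hF hFH hFc hn (mem_norm_centralizer hc) (hfix u h0 hc) hM hMz
  · intro h0
    refine ⟨hu, fun L hL => ?_⟩
    have hLu := cj_mem_Phi h.hO hu hL
    by_cases ht : TT U L (zz N)
    · have ht' := h.tt_cj hL.1 ht u
      rw [hc, mul_inv_cancel_right] at ht'
      exact h.tt_eq hS.2.1 hLu.1 hLu.2 hL.1 hL.2 hN ht' ht
    · by_contra hne
      have hLz := h.le_cent_of_not_tt hL.1 hN (h.comm_zz_of_mem hS.2.1 hL.1 hL.2 hN hs) ht
      exact h.r1 (zz N) (h.hyp.zz_ne hN) _ hLu.1 _ hL.1 (cj_le_centralizer hc hLz) hLz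
        (h.orth_of_Phi hS hLu hL hne) (h0 L hL.1 hLz)

/-- **(U')** -/
theorem nc_indep (hu2 : IsPGroup 2 (zpowers u)) (hN : N ∈ Om) (hN' : N' ∈ Om) (hc : u * zz N = zz N * u)
    (hc' : u * zz N' = zz N' * u) (h1 : NC Om u (zz N)) : NC Om u (zz N') := by
  have hz2 : ∀ M ∈ Om, IsPGroup 2 (zpowers (zz M)) := fun M hM =>
    (h.two M hM).to_le (zpowers_le.2 (h.hyp.zz_mem hM))
  have key : ∀ M ∈ Om, u * zz M = zz M * u → ∃ R, Syl R (centralizer {u}) ∧ zz M ∈ R ∧ u ∈ R := by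
    intro M hM hcM
    have h2 : IsPGroup 2 (zpowers (zz M) ⊔ zpowers u : Subgroup G) := by
      refine two_sup_comm hu2 (hz2 M hM) ?_
      rintro _ ⟨i, rfl⟩ _ ⟨j, rfl⟩
      exact (Commute.zpow_zpow (show Commute u (zz M) from hcM) i j).eq
    obtain ⟨R, hR, hle⟩ := exists_syl_ge h2 (show zpowers (zz M) ⊔ zpowers u ≤ centralizer {u} from
      sup_le (zpowers_le.2 (mem_centralizer_singleton_iff.2 hcM.symm))
        (zpowers_le.2 (mem_centralizer_singleton_iff.2 rfl)))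
    exact ⟨R, hR, hle (mem_sup_left (mem_zpowers _)), hle (mem_sup_right (mem_zpowers _))⟩
  obtain ⟨R, hR, hzR, huR⟩ := key N hN hc
  obtain ⟨R', hR', hzR', huR'⟩ := key N' hN' hc'
  obtain ⟨c, hcu, rfl⟩ := hR'.exists_conj hR
  have hcu' : c * u = u * c := mem_centralizer_singleton_iff.1 hcu
  obtain ⟨S, hS, hRS⟩ := exists_top hR.2.1
  have h2 : N0 Om S u := (h.nc_iff hS (hRS huR) hN (hRS hzR) hc).2 h1
  have h3 : zz (cj c N') ∈ S := by rw [h.hyp.zz_cj hN']; exact hRS (conj_mem_cj hzR')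
  have h4 : u * zz (cj c N') = zz (cj c N') * u := by
    rw [h.hyp.zz_cj hN']
    calc u * (c * zz N' * c⁻¹) = (u * c) * zz N' * c⁻¹ := by group
      _ = c * (u * zz N') * c⁻¹ := by rw [← hcu']; group
      _ = c * zz N' * (u * c⁻¹) := by rw [hc']; group
      _ = c * zz N' * c⁻¹ * u := by
        have : u * c⁻¹ = c⁻¹ * u := by
          rw [eq_inv_mul_iff_mul_eq, ← mul_assoc, hcu', mul_inv_cancel_right]
        rw [this]; group
  have h5 := nc_cj h.hO ((h.nc_iff hS (hRS huR) (h.hO N' hN' c) h3 h4).1 h2) c⁻¹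
  rw [h.hyp.zz_cj hN'] at h5
  have e1 : c⁻¹ * u * c⁻¹⁻¹ = u := by rw [inv_inv, mul_assoc, ← hcu', inv_mul_cancel_left]
  have e2 : c⁻¹ * (c * zz N' * c⁻¹) * c⁻¹⁻¹ = zz N' := by group
  rwa [e1, e2] at h5

/-- a bad element commutes with no `z` of `S` -/
theorem bad_move (hS : Syl S ⊤) (hb : Bad Om u S) (hN : N ∈ Om) (hs : zz N ∈ S) : u * zz N ≠ zz N * u := by
  intro hc
  obtain ⟨huS, hn, M, hM, hcM, hnc⟩ := hb
  exact hn ((h.nc_iff hS huS hN hs hc).2 (h.nc_indep (h.zpowers_two hS.2.1 huS) hM hN hcM hc hnc))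

theorem bad_cj_ne (hS : Syl S ⊤) (hb : Bad Om u S) (hK : K ∈ Phi Om S) : cj u K ≠ K := by
  intro hh
  exact h.bad_move hS hb hK.1 (hK.2 (h.hyp.zz_mem hK.1)) (h.hyp.comm_zz hK.1 (mem_normalizer_iff_cj.2 hh))

/-- **(1)**, first part -/
theorem exists_S1 (hb : Bad Om u S) (hS : Syl S ⊤) :
    ∃ S₁, Syl S₁ (⊤ : Subgroup G) ∧ (∀ x ∈ S, x * u = u * x → x ∈ S₁) ∧ N0 Om S₁ u := by
  obtain ⟨huS, hn, M, hM, hcM, hnc⟩ := hb
  have h1 : IsPGroup 2 (S ⊓ centralizer {u} : Subgroup G) := hS.2.1.to_le inf_le_left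
  obtain ⟨R, hR, hle⟩ := exists_syl_ge h1 inf_le_right
  have h2 : IsPGroup 2 (zpowers (zz M)) := (h.two M hM).to_le (zpowers_le.2 (h.hyp.zz_mem hM))
  obtain ⟨R', hR', hle'⟩ := exists_syl_ge h2 (show zpowers (zz M) ≤ centralizer {u} from
    zpowers_le.2 (mem_centralizer_singleton_iff.2 hcM.symm))
  obtain ⟨c, hcu, rfl⟩ := hR'.exists_conj hR
  have hcu' : c * u = u * c := mem_centralizer_singleton_iff.1 hcu
  obtain ⟨S₁, hS₁, hRS⟩ := exists_top hR.2.1
  have hx : ∀ x ∈ S, x * u = u * x → x ∈ S₁ := fun x hxS hxu =>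
    hRS (hle ⟨hxS, mem_centralizer_singleton_iff.2 hxu⟩)
  have huS₁ : u ∈ S₁ := hx u huS _root_.rfl
  refine ⟨S₁, hS₁, hx, ?_⟩
  have h3 : zz (cj c M) ∈ S₁ := by
    rw [h.hyp.zz_cj hM]; exact hRS (conj_mem_cj (hle' (mem_zpowers _)))
  have h5 := nc_cj h.hO hnc c
  have e1 : c * u * c⁻¹ = u := by rw [hcu', mul_inv_cancel_right]
  have h4 : u * zz (cj c M) = zz (cj c M) * u := by
    rw [h.hyp.zz_cj hM]
    calc u * (c * zz M * c⁻¹) = (u * c) * zz M * c⁻¹ := by group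
      _ = c * (u * zz M) * c⁻¹ := by rw [← hcu']; group
      _ = c * zz M * (u * c⁻¹) := by rw [hcM]; group
      _ = c * zz M * c⁻¹ * u := by
        have : u * c⁻¹ = c⁻¹ * u := by
          rw [eq_inv_mul_iff_mul_eq, ← mul_assoc, hcu', mul_inv_cancel_right]
        rw [this]; group
  rw [e1, ← h.hyp.zz_cj hM] at h5
  exact (h.nc_iff hS₁ huS₁ (h.hO M hM c) h3 h4).2 h5

/-- `u` fixes no block of `C(e)` -/
theorem no_fix (hS : Syl S ⊤) (heD : ∀ K ∈ Phi Om S, K ≤ centralizer {e}) (he1 : e ≠ 1) (hu : u ∈ S)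
    (hue : u * e = e * u) (hmv : ∀ K ∈ Phi Om S, cj u K ≠ K) (hM : M ∈ Om) (hMe : M ≤ centralizer {e}) :
    cj u M ≠ M := by
  intro hh
  obtain ⟨K, hK, hKM⟩ := h.full hS (F := Phi Om S) (fun K hK => hK.1) heD
    (fun K hK L hL hne => (h.orth_of_Phi hS hK hL hne).2) le_rfl hM hMe
  have h1 := hKM.cj h.hO (mem_norm_centralizer hue)
  rw [hh] at h1
  have hKu := cj_mem_Phi h.hO hu hK
  exact h.r1 e he1 _ hK.1 _ hKu.1 (heD K hK) (heD _ hKu) (h.orth_of_Phi hS hK hKu (hmv K hK).symm)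
    (hKM.trans h1.symm)

/-- a Sylow subgroup of `C(e)` contains `n` members, if `e` centralises `D(S)` -/
theorem Phi_le_cent (hS : Syl S ⊤) (heD : ∀ K ∈ Phi Om S, K ≤ centralizer {e}) {R : Subgroup G}
    (hR : Syl R (centralizer {e})) (hS' : Syl S' ⊤) (hRS : R ≤ S') : ∀ K ∈ Phi Om S', K ≤ centralizer {e} := by
  have hD : IsPGroup 2 (sSup (Phi Om S) : Subgroup G) := hS.2.1.to_le (sSup_le fun K hK => hK.2)
  obtain ⟨T, hT, hDT⟩ := exists_syl_ge hD (sSup_le heD)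
  obtain ⟨c, hc, rfl⟩ := hT.exists_conj hR
  have hcn : cj c (centralizer {e}) = centralizer {e} := mem_normalizer_iff_cj.1 (le_normalizer hc)
  have h1 : cj c '' Phi Om S = Phi Om S' := by
    refine Set.eq_of_subset_of_ncard_le ?_ ?_ (Set.toFinite _)
    · rintro _ ⟨K, hK, rfl⟩
      exact ⟨h.hO K hK.1 c, (cj_mono c ((le_sSup hK).trans hDT)).trans hRS⟩
    · rw [Set.ncard_image_of_injective _ (cj_injective c), ncard_Phi_eq h.hO hS hS']
  rw [← h1]
  rintro _ ⟨K, hK, rfl⟩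
  have h2 := cj_mono c (heD K hK)
  rwa [hcn] at h2

/-- **(1)**: the claim -/
theorem not_n0 (hS : Syl S ⊤) (hb : Bad Om u S) (hu1 : N0 Om S₁ u) (hL : L ∈ Phi Om S₁)
    (heD : ∀ K ∈ Phi Om S, K ≤ centralizer {e}) (heu : e * u = u * e) (he1 : e ≠ 1) :
    ¬ N0 Om S₁ e := by
  intro h0
  have hmv : ∀ K ∈ Phi Om S, cj u K ≠ K := fun K hK => h.bad_cj_ne hS hb hK
  have huL : u * zz L = zz L * u := h.hyp.comm_zz hL.1 (mem_normalizer_iff_cj.2 (hu1.2 L hL))
  have heL : e * zz L = zz L * e := h.hyp.comm_zz hL.1 (mem_normalizer_iff_cj.2 (h0.2 L hL))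
  have hL2 : IsPGroup 2 (zpowers (zz L)) := (h.two L hL.1).to_le (zpowers_le.2 (h.hyp.zz_mem hL.1))
  have h2 : IsPGroup 2 (zpowers (zz L) ⊔ zpowers u : Subgroup G) := by
    refine two_sup_comm (h.zpowers_two hS.2.1 hb.1) hL2 ?_
    rintro _ ⟨i, rfl⟩ _ ⟨j, rfl⟩
    exact (Commute.zpow_zpow (show Commute u (zz L) from huL) i j).eq
  obtain ⟨R, hR, hle⟩ := exists_syl_ge h2 (show zpowers (zz L) ⊔ zpowers u ≤ centralizer {e} from
    sup_le (zpowers_le.2 (mem_centralizer_singleton_iff.2 heL.symm))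
      (zpowers_le.2 (mem_centralizer_singleton_iff.2 heu.symm)))
  obtain ⟨S', hS', hRS⟩ := exists_top hR.2.1
  have hzS : zz L ∈ S' := hRS (hle (mem_sup_left (mem_zpowers _)))
  have huS : u ∈ S' := hRS (hle (mem_sup_right (mem_zpowers _)))
  have hPe := h.Phi_le_cent hS heD hR hS' hRS
  have hnf : ∀ M ∈ Om, M ≤ centralizer {e} → cj u M ≠ M := fun M hM hMe =>
    h.no_fix hS heD he1 hb.1 heu.symm hmv hM hMe
  have hLS : L ∈ Phi Om S' := by
    refine h.mem_Phi_of_not_tt hS' hL.1 hzS fun K hK ht => ?_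
    have ht' := h.tt_cj hK.1 ht u
    rw [huL, mul_inv_cancel_right] at ht'
    have hKu := cj_mem_Phi h.hO huS hK
    exact hnf K hK.1 (hPe K hK) (h.tt_eq hS'.2.1 hKu.1 hKu.2 hK.1 hK.2 hL.1 ht' ht)
  exact hnf L hL.1 (hPe L hLS) (hu1.2 L hL)

/-- the central elements give bad pairs -/
theorem bad_next (hS : Syl S ⊤) (hb : Bad Om u S) (hS₁ : Syl S₁ ⊤) (hx : ∀ x ∈ S, x * u = u * x → x ∈ S₁)
    (hu1 : N0 Om S₁ u) (he : e ∈ S) (heD : ∀ K ∈ Phi Om S, K ≤ centralizer {e}) (heu : e * u = u * e)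
    (he1 : e ≠ 1) : Bad Om e S₁ := by
  obtain ⟨K, hK⟩ : (Phi Om S).Nonempty := by
    by_contra hh
    rw [Set.not_nonempty_iff_eq_empty] at hh
    refine hb.2.1 ⟨hb.1, fun K hK => ?_⟩
    rw [hh] at hK
    exact absurd hK (Set.notMem_empty K)
  obtain ⟨L, hL⟩ : (Phi Om S₁).Nonempty := by
    rw [← Set.ncard_pos (Set.toFinite _), ← ncard_Phi_eq h.hO hS hS₁, Set.ncard_pos (Set.toFinite _)]
    exact ⟨K, hK⟩
  have hfix : ∀ K ∈ Phi Om S, cj e K = K := fun K hK => by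
    refine mem_normalizer_iff_cj.1 (mem_normalizer_of_comm fun k hk => ?_)
    exact (mem_centralizer_singleton_iff.1 (heD K hK hk)).symm
  have hc : e * zz K = zz K * e := h.hyp.comm_zz hK.1 (mem_normalizer_iff_cj.2 (hfix K hK))
  exact ⟨hx e he heu, h.not_n0 hS hb hu1 hL heD heu he1, K, hK.1, hc,
    (h.nc_iff hS he hK.1 (hK.2 (h.hyp.zz_mem hK.1)) hc).1 ⟨he, hfix⟩⟩

/-- a bad pair with an involution -/
theorem exists_bad (hS : Syl S ⊤) (hb : Bad Om u S) : ∃ e S₁, Syl S₁ (⊤ : Subgroup G) ∧ Bad Om e S₁ ∧ e * e = 1 := by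
  haveI : Fact (Nat.Prime 2) := ⟨Nat.prime_two⟩
  obtain ⟨S₁, hS₁, hx, hu1⟩ := h.exists_S1 hb hS
  have h1 : (⊤ : Subgroup S) ≠ ⊥ := by
    intro hh
    have h2 : (⟨u, hb.1⟩ : S) ∈ (⊥ : Subgroup S) := by rw [← hh]; exact mem_top _
    have h3 : u = 1 := congrArg Subtype.val (mem_bot.1 h2)
    refine hb.2.1 ⟨hb.1, fun K _ => ?_⟩
    rw [h3, cj_one]
  obtain ⟨e, -, hec, heo⟩ := Transfer.PGroupNormal.exists_mem_inf_center_orderOf hS.2.1 (⊤ : Subgroup S) h1
  have hcm : ∀ x ∈ S, x * (e : G) = e * x := fun x hx => by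
    have := mem_center_iff.1 hec ⟨x, hx⟩
    exact congrArg Subtype.val this
  have he1 : (e : G) ≠ 1 := by
    intro hh
    have : e = 1 := Subtype.ext hh
    rw [this, orderOf_one] at heo
    omega
  have hee : (e : G) * e = 1 := by
    have h3 : e ^ 2 = 1 := by rw [← heo]; exact pow_orderOf_eq_one e
    rw [pow_two] at h3
    exact congrArg Subtype.val h3
  exact ⟨e, S₁, hS₁, h.bad_next hS hb hS₁ hx hu1 e.2
    (fun K hK => le_centralizer_singleton fun k hk => hcm k (hK.2 hk)) (hcm u hb.1).symm he1, hee⟩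

/-- **(2)**: the count -/
theorem count (hS : Syl S ⊤) (huS : u ∈ S) (huu : u * u = 1) (hmv : ∀ K ∈ Phi Om S, cj u K ≠ K)
    {J : Set (Subgroup G)} (hJ : J ⊆ Phi Om S) : 2 ^ (J ∪ cj u '' J).ncard ≤ Nat.card (DJ u J) := by
  have hJf : J.Finite := Set.toFinite J
  induction J, hJf using Set.Finite.induction_on with
  | empty =>
    rw [Set.image_empty, Set.union_empty, Set.ncard_empty, pow_zero]
    exact Nat.card_pos
  | @insert K J' hKJ hJ' ih =>
    have hJ'' : J' ⊆ Phi Om S := fun L hL => hJ (Set.mem_insert_of_mem _ hL)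
    have hK : K ∈ Phi Om S := hJ (Set.mem_insert _ _)
    have hcc : ∀ L : Subgroup G, cj u (cj u L) = L := fun L => by rw [← cj_mul, huu, cj_one]
    have hle : DJ u J' ≤ DJ u (insert K J') := closure_mono fun x ⟨L, hL, k, hk, hx⟩ =>
      ⟨L, Set.mem_insert_of_mem _ hL, k, hk, hx⟩
    by_cases hcase : cj u K ∈ J'
    · have e1 : insert K J' ∪ cj u '' insert K J' = J' ∪ cj u '' J' := by
        refine Set.Subset.antisymm ?_ ?_
        · rintro L (hL | ⟨L', hL', rfl⟩)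
          · rcases hL with rfl | hL
            · exact Or.inr ⟨_, hcase, hcc _⟩
            · exact Or.inl hL
          · rcases hL' with rfl | hL'
            · exact Or.inl hcase
            · exact Or.inr ⟨_, hL', rfl⟩
        · rintro L (hL | ⟨L', hL', rfl⟩)
          · exact Or.inl (Set.mem_insert_of_mem _ hL)
          · exact Or.inr ⟨_, Set.mem_insert_of_mem _ hL', rfl⟩
      rw [e1]
      exact (ih hJ'').trans (Nat.le_of_dvd Nat.card_pos (card_dvd_of_le hle))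
    · have hA : ∀ a ∈ DJ u J', ∀ k ∈ K, a * k = k * a := by
        intro a ha k hk
        have h1 : DJ u J' ≤ centralizer {k} := by
          refine (closure_le _).2 ?_
          rintro _ ⟨L, hL, l, hl, rfl⟩
          have h2 : Orth L K := h.orth_of_Phi hS (hJ'' hL) hK (by rintro rfl; exact hKJ hL)
          have h3 : Orth (cj u L) K := h.orth_of_Phi hS (cj_mem_Phi h.hO huS (hJ'' hL)) hK (by
            rintro rfl
            rw [hcc] at hcase
            exact hcase hL)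
          exact mul_mem (mem_centralizer_singleton_iff.2 (h2.2 l hl k hk))
            (mem_centralizer_singleton_iff.2 (h3.2 _ (conj_mem_cj hl) k hk))
        exact mem_centralizer_singleton_iff.1 (h1 ha)
      obtain ⟨v, hv, c, hc, hvc⟩ := h.hyp.exists_comm_eq hK.1 (h.two K hK.1)
      have hvc1 : v * c ≠ c * v := by
        intro hh
        rw [hh] at hvc
        refine h.hyp.zz_ne hK.1 ?_
        rw [← hvc]; group
      have ho : Orth K (cj u K) := h.orth_of_Phi hS hK (cj_mem_Phi h.hO huS hK) (hmv K hK).symm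
      have hd : ∀ k ∈ K, ∀ x ∈ K, k * (u * k * u⁻¹) * x = x * (k * (u * k * u⁻¹)) → k * x = x * k := by
        intro k hk x hx hh
        have h1 := ho.2 x hx _ (conj_mem_cj (g := u) hk)
        rw [mul_assoc, ← h1, ← mul_assoc k x, ← mul_assoc x k] at hh
        exact mul_right_cancel hh
      have hdm : ∀ k ∈ K, k * (u * k * u⁻¹) ∈ DJ u (insert K J') := fun k hk =>
        subset_closure ⟨K, Set.mem_insert _ _, k, hk, rfl⟩
      have hvA : v * (u * v * u⁻¹) ∉ DJ u J' := fun hh => hvc1 (hd v hv c hc (hA _ hh c hc))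
      have hB1 : DJ u J' ⊔ zpowers (v * (u * v * u⁻¹)) ≤ DJ u (insert K J') :=
        sup_le hle (zpowers_le.2 (hdm v hv))
      have hBv : DJ u J' ⊔ zpowers (v * (u * v * u⁻¹)) ≤ centralizer {v} := by
        refine sup_le (fun a ha => mem_centralizer_singleton_iff.2 (hA a ha v hv)) (zpowers_le.2 ?_)
        rw [mem_centralizer_singleton_iff]
        have h1 := ho.2 v hv _ (conj_mem_cj (g := u) hv)
        rw [mul_assoc, ← h1]
      have hcB : c * (u * c * u⁻¹) ∉ DJ u J' ⊔ zpowers (v * (u * v * u⁻¹)) := fun hh =>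
        hvc1 (hd c hc v hv (mem_centralizer_singleton_iff.1 (hBv hh))).symm
      have h1 := two_mul_card_le (le_sup_left : DJ u J' ≤ DJ u J' ⊔ zpowers (v * (u * v * u⁻¹)))
        (mem_sup_right (mem_zpowers _)) hvA
      have h2 := two_mul_card_le hB1 (hdm c hc) hcB
      have h3 : (insert K J' ∪ cj u '' insert K J').ncard ≤ (J' ∪ cj u '' J').ncard + 2 := by
        have e1 : insert K J' ∪ cj u '' insert K J' = insert K (insert (cj u K) (J' ∪ cj u '' J')) := by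
          rw [Set.image_insert_eq, Set.insert_union, Set.union_insert]
        rw [e1]
        have a1 := Set.ncard_insert_le K (insert (cj u K) (J' ∪ cj u '' J'))
        have a2 := Set.ncard_insert_le (cj u K) (J' ∪ cj u '' J')
        omega
      calc 2 ^ (insert K J' ∪ cj u '' insert K J').ncard ≤ 2 ^ ((J' ∪ cj u '' J').ncard + 2) :=
            Nat.pow_le_pow_right (by omega) h3
        _ = 4 * 2 ^ (J' ∪ cj u '' J').ncard := by ring
        _ ≤ 4 * Nat.card (DJ u J') := Nat.mul_le_mul_left _ (ih hJ'')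
        _ ≤ Nat.card (DJ u (insert K J')) := by omega

/-- **(2)** -/
theorem no_bad_inv (hS : Syl S ⊤) (hb : Bad Om u S) (huu : u * u = 1) : False := by
  haveI : Fact (Nat.Prime 2) := ⟨Nat.prime_two⟩
  obtain ⟨S₁, hS₁, hx, hu1⟩ := h.exists_S1 hb hS
  have huS := hb.1
  have hui : u⁻¹ = u := inv_eq_of_mul_eq_one_right huu
  have hmv : ∀ K ∈ Phi Om S, cj u K ≠ K := fun K hK => h.bad_cj_ne hS hb hK
  have ho : ∀ K ∈ Phi Om S, Orth K (cj u K) := fun K hK =>
    h.orth_of_Phi hS hK (cj_mem_Phi h.hO huS hK) (hmv K hK).symm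
  have hDS : DJ u (Phi Om S) ≤ S := by
    refine (closure_le _).2 ?_
    rintro _ ⟨K, hK, k, hk, rfl⟩
    exact S.mul_mem (hK.2 hk) (S.mul_mem (S.mul_mem huS (hK.2 hk)) (S.inv_mem huS))
  have hDu : DJ u (Phi Om S) ≤ centralizer {u} := by
    refine (closure_le _).2 ?_
    rintro _ ⟨K, hK, k, hk, rfl⟩
    refine mem_centralizer_singleton_iff.2 ?_
    have h1 := (ho K hK).2 k hk _ (conj_mem_cj (g := u) hk)
    calc k * (u * k * u⁻¹) * u = (u * k * u⁻¹) * k * u := by rw [h1]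
      _ = u * k * (u⁻¹ * k * u) := by group
      _ = u * (k * (u * k * u⁻¹)) := by rw [hui]; group
  have hDS₁ : DJ u (Phi Om S) ≤ S₁ := fun x hxD => hx x (hDS hxD) (mem_centralizer_singleton_iff.1 (hDu hxD))
  have hDn : ∀ K ∈ Phi Om S, DJ u (Phi Om S) ≤ normalizer (K : Set G) := by
    intro K hK
    have h1 : ∀ L ∈ Phi Om S, L ≤ normalizer (K : Set G) := by
      intro L hL
      by_cases hLK : L = K
      · rw [hLK]; exact le_normalizer
      · exact fun l hl => mem_normalizer_of_comm fun k hk => (h.orth_of_Phi hS hL hK hLK).2 l hl k hk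
    refine (closure_le _).2 ?_
    rintro _ ⟨L, hL, l, hl, rfl⟩
    exact mul_mem (h1 L hL hl) (h1 _ (cj_mem_Phi h.hO huS hL) (conj_mem_cj hl))
  have hD2 : IsPGroup 2 (DJ u (Phi Om S)) := hS.2.1.to_le hDS
  let act : MulAction (DJ u (Phi Om S)) (Phi Om S₁) :=
    { smul := fun d K => ⟨cj (d : G) K.1, cj_mem_Phi h.hO (hDS₁ d.2) K.2⟩
      one_smul := fun K => Subtype.ext (cj_one _)
      mul_smul := fun a b K => Subtype.ext (cj_mul _ _ _) }
  have hinj : Function.Injective (MulAction.toPermHom (DJ u (Phi Om S)) (Phi Om S₁)) := by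
    rw [← MonoidHom.ker_eq_bot_iff]
    by_contra hker
    obtain ⟨e, hek, hec, heo⟩ := Transfer.PGroupNormal.exists_mem_inf_center_orderOf hD2 _ hker
    have he1 : (e : G) ≠ 1 := by
      intro hh
      have : e = 1 := Subtype.ext hh
      rw [this, orderOf_one] at heo
      omega
    have hfix : ∀ L ∈ Phi Om S₁, cj (e : G) L = L := by
      intro L hL
      have h1 := congrArg (fun σ : Equiv.Perm (Phi Om S₁) => (σ ⟨L, hL⟩ : Subgroup G)) (MonoidHom.mem_ker.1 hek)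
      exact h1
    have heD : ∀ K ∈ Phi Om S, K ≤ centralizer {(e : G)} := by
      intro K hK
      refine le_centralizer_singleton fun k hk => ?_
      have hkD : k * (u * k * u⁻¹) ∈ DJ u (Phi Om S) := subset_closure ⟨K, hK, k, hk, rfl⟩
      have h1 : k * (u * k * u⁻¹) * (e : G) = e * (k * (u * k * u⁻¹)) := by
        have := mem_center_iff.1 hec ⟨_, hkD⟩
        exact congrArg Subtype.val this
      have h2 : (e : G) * k * (e : G)⁻¹ ∈ K := (mem_normalizer_iff.1 (hDn K hK e.2) k).1 hk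
      have hKu := cj_mem_Phi h.hO huS hK
      have h3 : (e : G) * (u * k * u⁻¹) * (e : G)⁻¹ ∈ cj u K :=
        (mem_normalizer_iff.1 (hDn _ hKu e.2) _).1 (conj_mem_cj hk)
      have h4 : k⁻¹ * (e * k * (e : G)⁻¹) = (u * k * u⁻¹) * (e * (u * k * u⁻¹) * (e : G)⁻¹)⁻¹ := by
        rw [eq_mul_inv_iff_mul_eq]
        calc k⁻¹ * (e * k * (e : G)⁻¹) * (e * (u * k * u⁻¹) * (e : G)⁻¹)
            = k⁻¹ * (e * (k * (u * k * u⁻¹))) * (e : G)⁻¹ := by group
          _ = u * k * u⁻¹ := by rw [← h1]; group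
      have h5 : k⁻¹ * (e * k * (e : G)⁻¹) ∈ cj u K := by
        rw [h4]; exact mul_mem (conj_mem_cj hk) (inv_mem h3)
      have h6 : zz K ∉ cj u K := by
        intro hh
        have h7 := h.hyp.eq_zz hKu.1 hh (h.hyp.zz_mul hK.1) (h.hyp.zz_ne hK.1)
        rw [h.hyp.zz_cj hK.1] at h7
        refine h.bad_move hS hb hK.1 (hK.2 (h.hyp.zz_mem hK.1)) ?_
        exact (mul_inv_eq_iff_eq_mul.1 h7.symm)
      have h7 := h.hyp.eq_one_of_mem hK.1 (h.two K hK.1) h6 (K.mul_mem (K.inv_mem hk) h2) h5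
      have h8 : (e : G) * k * (e : G)⁻¹ = k := by rw [inv_mul_eq_one] at h7; exact h7.symm
      exact (mul_inv_eq_iff_eq_mul.1 h8).symm
    have hb' := h.bad_next hS hb hS₁ hx hu1 (hDS e.2) heD (mem_centralizer_singleton_iff.1 (hDu e.2)) he1
    exact hb'.2.1 ⟨hDS₁ e.2, hfix⟩
  have h1 := Subgroup.card_dvd_of_injective _ hinj
  rw [Nat.card_perm, Nat.card_coe_set_eq, ← ncard_Phi_eq h.hO hS hS₁] at h1
  obtain ⟨k, hk⟩ := IsPGroup.iff_card.1 hD2
  have h2 := h.count hS huS huu hmv (le_refl (Phi Om S))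
  rw [hk] at h1 h2
  have hn : (Phi Om S).ncard ≠ 0 := by
    intro hh
    rw [Set.ncard_eq_zero (Set.toFinite _)] at hh
    refine hb.2.1 ⟨hb.1, fun K hK => ?_⟩
    rw [hh] at hK
    exact absurd hK (Set.notMem_empty K)
  have h3 : (k : ℕ∞) ≤ emultiplicity 2 ((Phi Om S).ncard)! := le_emultiplicity_of_pow_dvd h1
  have h4 := lt_of_le_of_lt h3 (Nat.emultiplicity_two_factorial_lt hn)
  have h5 : k < (Phi Om S).ncard := by exact_mod_cast h4
  have h6 : (Phi Om S ∪ cj u '' Phi Om S).ncard ≤ k := (Nat.pow_le_pow_iff_right (by omega)).1 h2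
  have h7 : (Phi Om S).ncard ≤ (Phi Om S ∪ cj u '' Phi Om S).ncard :=
    Set.ncard_le_ncard Set.subset_union_left (Set.toFinite _)
  omega

/-- **the `N₀`-closure theorem** -/
theorem closure' (hS : Syl S ⊤) (hS' : Syl S' ⊤) (h0 : N0 Om S u) (hu : u ∈ S') : N0 Om S' u := by
  by_contra hn
  obtain ⟨K', hK'⟩ : (Phi Om S').Nonempty := by
    by_contra hh
    rw [Set.not_nonempty_iff_eq_empty] at hh
    refine hn ⟨hu, fun K hK => ?_⟩
    rw [hh] at hK
    exact absurd hK (Set.notMem_empty K)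
  obtain ⟨K, hK⟩ : (Phi Om S).Nonempty := by
    rw [← Set.ncard_pos (Set.toFinite _), ncard_Phi_eq h.hO hS hS', Set.ncard_pos (Set.toFinite _)]
    exact ⟨K', hK'⟩
  have hc : u * zz K = zz K * u := h.hyp.comm_zz hK.1 (mem_normalizer_iff_cj.2 (h0.2 K hK))
  have hb : Bad Om u S' := ⟨hu, hn, K, hK.1, hc,
    (h.nc_iff hS h0.1 hK.1 (hK.2 (h.hyp.zz_mem hK.1)) hc).1 h0⟩
  obtain ⟨e, S₁, hS₁, hb₁, hee⟩ := h.exists_bad hS' hb
  exact h.no_bad_inv hS₁ hb₁ hee

end LW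

end Cfsg.Agent.Cit.CV1
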