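import Cfsg.Agent.Cit.Nil.CV1.WF

/-!
# (6b)(CV), rank one, T-type end: the parts

`exists_cj_mul` : (B3) `s` T-type to `K`, `x ∈ X_K`: `s x` is a conjugate of `s` under `K`.
`PP Om U S K` : `X_K` and all `s ∈ ZZ ∩ S` T-type to `K`.
-/

set_option autoImplicit false
set_option linter.style.haveILetI false
set_option linter.unusedSectionVars false

namespace Cfsg.Agent.Cit.CV1

open Subgroup Cfsg Cit Tau CV Cfsg.Agent.Cit.Nil.CV.XLevel

variable {G : Type*} [Group G]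

/-- `X_K` and all `s ∈ ZZ ∩ S` T-type to `K` -/
def PP (Om : Set (Subgroup G)) (U : Subgroup G → Subgroup G) (S K : Subgroup G) : Subgroup G :=
  closure {x | x ∈ XX U K ∨ (x ∈ S ∧ ∃ N ∈ Om, zz N = x ∧ TT U K x)}

variable [Finite G] {Om : Set (Subgroup G)} {U : Subgroup G → Subgroup G} {K K' L M N N' S S' T : Subgroup G}
  {a b c e g s t u v w x y z : G}

namespace LW

variable (h : LW Om U)
include h

theorem zz_mem_XX (hK : K ∈ Om) : zz K ∈ XX U K := by
  obtain ⟨v, hv, hv4⟩ := h.exists_v hK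
  rw [← h.sq hK hv hv4]
  exact mul_mem (h.U_le_XX hK hv) (h.U_le_XX hK hv)

theorem inv_XX (hK : K ∈ Om) (hN : N ∈ Om) (ht : TT U K (zz N)) (hx : x ∈ XX U K) :
    zz N * x * (zz N)⁻¹ = x⁻¹ := by
  obtain ⟨v, hv, hv4⟩ := h.exists_v hK
  exact inv_xx h.toCVW hN hK hv hv4 (h.tt_inv hK hN ht hv hv4) hx

/-- **(B3)** -/
theorem exists_cj_mul (hK : K ∈ Om) (hN : N ∈ Om) (ht : TT U K (zz N)) (hx : x ∈ XX U K) :
    ∃ k ∈ K, zz (cj k N) = zz N * x := by
  obtain ⟨v, hv, hv4⟩ := h.exists_v hK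
  obtain ⟨y, hy, hyX⟩ := h.exists_y hK
  obtain ⟨hd, hodd⟩ := inv_y h.toCVW hN hK hv hv4 (h.tt_inv hK hN ht hv hv4) hy hyX
  obtain ⟨d, hdd⟩ : ∃ d, d = (zz N * y * (zz N)⁻¹)⁻¹ * y := ⟨_, rfl⟩
  rw [← hdd] at hd hodd
  have hinv : ∀ x ∈ XX U K, zz N * x = x⁻¹ * zz N := fun x hx =>
    mul_inv_eq_iff_eq_mul.1 (h.inv_XX hK hN ht hx)
  have hinv' : ∀ x ∈ XX U K, x * zz N = zz N * x⁻¹ := fun x hx => by
    rw [hinv _ ((XX U K).inv_mem hx), inv_inv]
  have hyd : y⁻¹ * zz N * y = zz N * d := by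
    rw [hdd, hinv _ (by rw [← hdd]; exact hd)]
    group
  by_cases hW : W2 U K x
  · obtain ⟨k, hk, rfl⟩ := (h.W2_iff hK).1 hW
    refine ⟨k⁻¹, K.inv_mem (XX_le K hk), ?_⟩
    rw [h.hyp.zz_cj hN, hinv' _ ((XX U K).inv_mem hk), inv_inv, mul_assoc]
  · have hW' : W2 U K (d⁻¹ * x) := by
      rw [h.W2_mul hK ((XX U K).inv_mem hd) hx, h.W2_inv hK hd]
      tauto
    obtain ⟨k, hk, hkk⟩ := (h.W2_iff hK).1 hW'
    refine ⟨k⁻¹ * y⁻¹, K.mul_mem (K.inv_mem (XX_le K hk)) (K.inv_mem hy), ?_⟩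
    rw [h.hyp.zz_cj hN]
    have hx' : x = d * (k * k) := by rw [← hkk]; group
    calc k⁻¹ * y⁻¹ * zz N * (k⁻¹ * y⁻¹)⁻¹ = k⁻¹ * (y⁻¹ * zz N * y) * k := by group
      _ = k⁻¹ * zz N * d * k := by rw [hyd]; group
      _ = zz N * k * d * k := by rw [hinv' _ ((XX U K).inv_mem hk), inv_inv]
      _ = zz N * (d * k) * k := by
          rw [mul_assoc (zz N) k d, xx_comm_self h.toCVW hK hk hd]
      _ = zz N * x := by rw [hx']; group

theorem tt_mul (hK : K ∈ Om) (hN : N ∈ Om) (ht : TT U K (zz N)) (hx : x ∈ XX U K) : TT U K (zz N * x) := by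
  obtain ⟨k, hk, hkz⟩ := h.exists_cj_mul hK hN ht hx
  have h1 := h.tt_cj hK ht k
  rwa [mem_normalizer_iff_cj.1 (le_normalizer hk), ← h.hyp.zz_cj hN, hkz] at h1

/-- an element commuting with `zz K` and with `V_K` does not change T-type -/
theorem tt_mul_of_comm (ht : TT U K s) (h1 : c * zz K = zz K * c) (h2 : ∀ v ∈ U K, c * v = v * c) :
    TT U K (s * c) := by
  obtain ⟨h3, v, hv, hv4, hne⟩ := ht
  refine ⟨by rw [mul_assoc, h1, ← mul_assoc, h3, mul_assoc], v, hv, hv4, fun hh => hne ?_⟩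
  rw [mul_assoc, h2 v hv, ← mul_assoc, ← mul_assoc] at hh
  exact mul_right_cancel hh

/-- **(6.1)**: the T-partners of `K` in `S` form one coset of `X_K` -/
theorem tt_coset (hS : Syl S ⊤) (hK : K ∈ Phi Om S) (hN : N ∈ Om) (hN' : N' ∈ Om) (hs : zz N ∈ S) (hs' : zz N' ∈ S)
    (ht : TT U K (zz N)) (ht' : TT U K (zz N')) : ∃ x ∈ XX U K, zz N' = zz N * x := by
  haveI : Fact (Nat.Prime 2) := ⟨Nat.prime_two⟩
  obtain ⟨v, hv, hv4⟩ := h.exists_v hK.1
  obtain ⟨y, hy, hyX⟩ := h.exists_y hK.1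
  have hvX := h.U_le_XX hK.1 hv
  obtain ⟨hd, hodd⟩ := inv_y h.toCVW hN hK.1 hv hv4 (h.tt_inv hK.1 hN ht hv hv4) hy hyX
  obtain ⟨hd', hodd'⟩ := inv_y h.toCVW hN' hK.1 hv hv4 (h.tt_inv hK.1 hN' ht' hv hv4) hy hyX
  obtain ⟨s, hsd⟩ : ∃ s, s = zz N := ⟨_, rfl⟩
  obtain ⟨s', hsd'⟩ : ∃ s', s' = zz N' := ⟨_, rfl⟩
  have hss : s * s = 1 := by rw [hsd]; exact h.zz_zz hN
  have hss' : s' * s' = 1 := by rw [hsd']; exact h.zz_zz hN'
  have hsi : s⁻¹ = s := inv_eq_of_mul_eq_one_right hss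
  rw [← hsd] at hd hodd
  rw [← hsd'] at hd' hodd'
  obtain ⟨d, hdd⟩ : ∃ d, d = (s * y * s⁻¹)⁻¹ * y := ⟨_, rfl⟩
  obtain ⟨d', hdd'⟩ : ∃ d, d = (s' * y * s'⁻¹)⁻¹ * y := ⟨_, rfl⟩
  rw [← hdd] at hd hodd
  rw [← hdd'] at hd' hodd'
  have hX : ∀ x ∈ XX U K, s * x * s⁻¹ = x⁻¹ := fun x hx => by rw [hsd]; exact h.inv_XX hK.1 hN ht hx
  have hX' : ∀ x ∈ XX U K, s' * x * s'⁻¹ = x⁻¹ := fun x hx => by rw [hsd']; exact h.inv_XX hK.1 hN' ht' hx
  have hys : s * y * s⁻¹ = y * d⁻¹ := by rw [hdd]; group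
  have hys' : s' * y * s'⁻¹ = y * d'⁻¹ := by rw [hdd']; group
  have hW : W2 U K (d⁻¹ * d') := by
    rw [h.W2_mul hK.1 ((XX U K).inv_mem hd) hd', h.W2_inv hK.1 hd]
    tauto
  obtain ⟨k, hk, hkk⟩ := (h.W2_iff hK.1).1 hW
  -- the element `c`
  obtain ⟨c, hcd⟩ : ∃ c, c = k * (s * s') := ⟨_, rfl⟩
  have hyk : ∀ x ∈ XX U K, y * x * y⁻¹ = x⁻¹ := (h.y_facts hK.1 hy hyX).2.2
  have hcX : ∀ x ∈ XX U K, c * x = x * c := by
    intro x hx
    have h1 : s * s' * x * (s * s')⁻¹ = x := by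
      calc s * s' * x * (s * s')⁻¹ = s * (s' * x * s'⁻¹) * s⁻¹ := by group
        _ = x := by rw [hX' x hx, hX _ ((XX U K).inv_mem hx), inv_inv]
    have h2 : s * s' * x = x * (s * s') := mul_inv_eq_iff_eq_mul.1 h1
    rw [hcd, mul_assoc, h2, ← mul_assoc, xx_comm_self h.toCVW hK.1 hk hx, mul_assoc]
  have hcy : c * y = y * c := by
    have h1 : s * s' * y * (s * s')⁻¹ = y * (k * k) := by
      calc s * s' * y * (s * s')⁻¹ = s * (s' * y * s'⁻¹) * s⁻¹ := by group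
        _ = (s * y * s⁻¹) * (s * d'⁻¹ * s⁻¹) := by rw [hys']; group
        _ = y * (d⁻¹ * d') := by rw [hys, hX _ ((XX U K).inv_mem hd'), inv_inv, mul_assoc]
        _ = _ := by rw [hkk]
    have h2 : s * s' * y = y * (k * k) * (s * s') := mul_inv_eq_iff_eq_mul.1 h1
    have h3 : k * y = y * k⁻¹ := by
      have h4 := hyk k⁻¹ ((XX U K).inv_mem hk)
      rw [inv_inv] at h4
      exact (mul_inv_eq_iff_eq_mul.1 h4).symm
    calc c * y = k * (s * s' * y) := by rw [hcd]; group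
      _ = (k * y) * k * k * (s * s') := by rw [h2]; group
      _ = y * c := by rw [h3, hcd]; group
  have hkS : k ∈ S := hK.2 (XX_le K hk)
  have hcS : c ∈ S := by
    rw [hcd]
    exact S.mul_mem hkS (S.mul_mem (by rw [hsd]; exact hs) (by rw [hsd']; exact hs'))
  -- `s c = s' k`-type element
  have hsc : s * c = s' * k := by
    have h1 : s * k * s⁻¹ = k⁻¹ := hX k hk
    have h2 : s' * k * s'⁻¹ = k⁻¹ := hX' k hk
    calc s * c = (s * k * s⁻¹) * (s * s) * s' := by rw [hcd]; group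
      _ = k⁻¹ * s' := by rw [h1, hss, mul_one]
      _ = s' * k := by rw [← h2]; group
  obtain ⟨k', hk', hzk'⟩ := h.exists_cj_mul hK.1 hN' ht' hk
  have hN'' : cj k' N' ∈ Om := h.hO N' hN' k'
  rw [← hsd', ← hsc] at hzk'
  have hscsc : s * c * (s * c) = 1 := by rw [← hzk']; exact h.zz_zz hN''
  have hci : s * c * s⁻¹ = c⁻¹ := by
    rw [hsi]
    exact (inv_eq_of_mul_eq_one_left (by rw [← hscsc]; group)).symm
  have hcj : ∀ j : ℤ, s * c ^ j * s⁻¹ = c ^ (-j) := fun j => by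
    rw [← conj_zpow, hci, inv_zpow, zpow_neg]
  have hcs : ∀ j : ℤ, c ^ j * s = s * c ^ (-j) := fun j => by
    rw [← hcj j, hsi]
    calc c ^ j * s = s * s * c ^ j * s := by rw [hss, one_mul]
      _ = _ := by group
  have hzc : c * zz K = zz K * c := hcX _ (h.zz_mem_XX hK.1)
  have hTc : ∀ (M : Subgroup G) (j : ℤ), TT U K (zz M) → TT U K (zz M * c ^ j) := by
    intro M j hM
    refine h.tt_mul_of_comm hM ?_ fun v hv => ?_
    · exact ((show Commute c (zz K) from hzc).zpow_left j).eq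
    · exact ((show Commute c v from hcX v (h.U_le_XX hK.1 hv)).zpow_left j).eq
  -- all `s c^j` are in ZZ
  have hall : ∀ j : ℤ, ∃ M ∈ Om, zz M = s * c ^ j := by
    intro j
    rcases Int.even_or_odd' j with ⟨i, rfl | rfl⟩
    · refine ⟨cj (c ^ (-i)) N, h.hO N hN _, ?_⟩
      rw [h.hyp.zz_cj hN, ← hsd, hcs, mul_assoc, ← zpow_neg, ← zpow_add]
      congr 2; ring
    · refine ⟨cj (c ^ (-i)) (cj k' N'), h.hO _ hN'' _, ?_⟩
      rw [h.hyp.zz_cj hN'', hzk', ← mul_assoc, hcs, ← zpow_neg]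
      calc s * c ^ (- -i) * c * c ^ (- -i) = s * (c ^ (- -i) * c ^ (1 : ℤ) * c ^ (- -i)) := by rw [zpow_one]; group
        _ = s * c ^ (2 * i + 1) := by rw [← zpow_add, ← zpow_add]; congr 2; ring
  have hcjS : ∀ j : ℤ, c ^ j ∈ S := fun j => S.zpow_mem hcS j
  have hTs : TT U K s := by rw [hsd]; exact ht
  -- `(eps)`
  have heps : ∀ q : G, q ∈ S → (∃ M ∈ Om, zz M = s * q) → TT U K (s * q) → s * q = q * s → q = 1 ∨ q = zz K := by
    intro q hq hM hT hc
    obtain ⟨M, hM, hMq⟩ := hM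
    have h1 := h.tt_two hS hK hN hM hs (by rw [hMq]; exact S.mul_mem (by rw [hsd]; exact hs) hq) ht
      (by rw [hMq]; exact hT) (by rw [hMq, ← hsd, mul_assoc, ← hc])
    rw [hMq, ← hsd] at h1
    rcases h1 with h1 | h1
    · exact Or.inl (mul_eq_left.1 h1)
    · exact Or.inr (mul_left_cancel h1)
  have hTT0 : ∀ j : ℤ, TT U K (s * c ^ j) := fun j => by rw [hsd]; exact hTc N j ht
  -- `c ∈ ⟨z⟩`
  have hcz : c = 1 ∨ c = zz K := by
    by_cases hcc : c * c = 1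
    · have hcinv : c⁻¹ = c := inv_eq_of_mul_eq_one_right hcc
      have h1 := hall 1
      have h2 := hTT0 1
      rw [zpow_one] at h1 h2
      refine heps c hcS h1 h2 ?_
      rw [hcinv] at hci
      exact mul_inv_eq_iff_eq_mul.1 hci
    · exfalso
      -- an element of order four
      obtain ⟨m, hm⟩ := (IsPGroup.iff_orderOf.1 hS.2.1) ⟨c, hcS⟩
      rw [Subgroup.orderOf_mk] at hm
      have hm2 : 2 ≤ m := by
        by_contra hlt
        have h1 : m = 0 ∨ m = 1 := by omega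
        rcases h1 with rfl | rfl
        · rw [pow_zero, orderOf_eq_one_iff] at hm
          exact hcc (by rw [hm, one_mul])
        · rw [pow_one] at hm
          exact hcc (by rw [← pow_two, ← hm]; exact pow_orderOf_eq_one c)
      obtain ⟨f, hf⟩ : ∃ f, f = c ^ ((2 ^ (m - 2) : ℕ) : ℤ) := ⟨_, rfl⟩
      have hff : f * f = c ^ (2 ^ (m - 1)) := by
        rw [hf, zpow_natCast, ← pow_add]
        congr 1
        have : m - 1 = (m - 2) + 1 := by omega
        rw [this, pow_succ]; ring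
      have hff1 : f * f ≠ 1 := by
        rw [hff]
        intro hh
        have h1 := orderOf_dvd_of_pow_eq_one hh
        rw [hm, Nat.pow_dvd_pow_iff_le_right (by norm_num)] at h1
        omega
      have hff4 : f * f * (f * f) = 1 := by
        rw [hff, ← pow_add, ← two_mul, ← pow_succ', show m - 1 + 1 = m by omega, ← hm, pow_orderOf_eq_one]
      have hfS : f ∈ S := by rw [hf]; exact hcjS _
      have hfX : ∀ x ∈ XX U K, f * x = x * f := fun x hx => by
        rw [hf]; exact ((show Commute c x from hcX x hx).zpow_left _).eq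
      have hfy : f * y = y * f := by rw [hf]; exact ((show Commute c y from hcy).zpow_left _).eq
      have hsf : s * f * s⁻¹ = f⁻¹ := by rw [hf, hcj, zpow_neg]
      -- `f² = z`
      have hfz : f * f = zz K := by
        have e1 : f * f = c ^ ((2 ^ (m - 2) : ℕ) + (2 ^ (m - 2) : ℕ) : ℤ) := by rw [hf, zpow_add]
        have h1 := hall ((2 ^ (m - 2) : ℕ) + (2 ^ (m - 2) : ℕ) : ℤ)
        have h2 := hTT0 ((2 ^ (m - 2) : ℕ) + (2 ^ (m - 2) : ℕ) : ℤ)
        rw [← e1] at h1 h2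
        have h3 : s * (f * f) = f * f * s := by
          have h4 : s * (f * f) * s⁻¹ = f * f := by
            calc s * (f * f) * s⁻¹ = (s * f * s⁻¹) * (s * f * s⁻¹) := by group
              _ = (f * f)⁻¹ := by rw [hsf]; group
              _ = f * f := inv_eq_of_mul_eq_one_right hff4
          exact mul_inv_eq_iff_eq_mul.1 h4
        rcases heps (f * f) (S.mul_mem hfS hfS) h1 h2 h3 with h4 | h4
        · exact absurd h4 hff1
        · exact h4
      -- `b = f v`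
      have hfv : f * v = v * f := hfX v hvX
      have hvv := h.sq hK.1 hv hv4
      have hbb : f * v * (f * v) = 1 := by
        calc f * v * (f * v) = f * (v * f) * v := by group
          _ = (f * f) * (v * v) := by rw [← hfv]; group
          _ = 1 := by rw [hfz, hvv, h.zz_zz hK.1]
      have hsb : s * (f * v) * s⁻¹ = f * v := by
        calc s * (f * v) * s⁻¹ = (s * f * s⁻¹) * (s * v * s⁻¹) := by group
          _ = (v * f)⁻¹ := by rw [hsf, hX v hvX]; group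
          _ = f * v := by rw [← hfv]; exact inv_eq_of_mul_eq_one_right hbb
      obtain ⟨M, hM, hMf⟩ := hall ((2 ^ (m - 2) : ℕ) : ℤ)
      have hTf : TT U K (zz M) := by rw [hMf]; exact hTT0 _
      obtain ⟨q, hq, hzq⟩ := h.exists_cj_mul hK.1 hM hTf hvX
      have hTq := h.tt_mul hK.1 hM hTf hvX
      rw [hMf, ← hf, mul_assoc] at hzq hTq
      have h5 := heps (f * v) (S.mul_mem hfS (hK.2 (h.vch.le K hK.1 hv))) ⟨_, h.hO M hM q, hzq⟩ hTq
        (mul_inv_eq_iff_eq_mul.1 hsb)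
      -- `f ∈ {v, v⁻¹}`
      have h6 : f = v⁻¹ ∨ f = v := by
        rcases h5 with h5 | h5
        · exact Or.inl (eq_inv_of_mul_eq_one_left h5)
        · right
          rw [← hvv] at h5
          exact mul_right_cancel h5
      have h7 : y * v * y⁻¹ = v⁻¹ := hyk v hvX
      have h8 : v * y = y * v := by
        rcases h6 with h6 | h6
        · rw [h6] at hfy
          calc v * y = v * (y * v⁻¹) * v := by group
            _ = y * v := by rw [← hfy]; group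
        · rw [h6] at hfy; exact hfy
      rw [← h8, mul_inv_cancel_right] at h7
      exact inv_ne_of_four hv4 h7.symm
  -- end
  have hs'e : s' = s * (c * k⁻¹) := by rw [← mul_assoc, hsc]; group
  refine ⟨c * k⁻¹, mul_mem ?_ ((XX U K).inv_mem hk), by rw [← hsd, ← hsd']; exact hs'e⟩
  rcases hcz with h1 | h1
  · rw [h1]; exact one_mem _
  · rw [h1]; exact h.zz_mem_XX hK.1

end LW

end Cfsg.Agent.Cit.CV1
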