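import Cfsg.Agent.Cit.Nil.CV1.TPartA

/-!
# (6b)(CV), rank one, T-type end: T-partners

`exists_tt` : (6.0) a member of `S` with a T-partner has a T-partner in `S`;
`tt_orth`   : (6.2) T-partners of different members of `S` commute, as members.
-/

set_option autoImplicit false
set_option linter.style.haveILetI false
set_option linter.unusedSectionVars false

namespace Cfsg.Agent.Cit.CV1

open Subgroup Cfsg Cit Tau CV

variable {G : Type*} [Group G] [Finite G] {Om : Set (Subgroup G)} {U : Subgroup G → Subgroup G}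
  {K K' L M N N' S S' T : Subgroup G} {a b c e g s t u v w x y z : G}

/-- the kernel of the action on the members of `S` -/
def KP (Om : Set (Subgroup G)) (S : Subgroup G) : Subgroup G where
  carrier := {g | ∀ K ∈ Phi Om S, cj g K = K}
  one_mem' := fun K _ => cj_one K
  mul_mem' := fun {a b} ha hb K hK => by rw [cj_mul, hb K hK, ha K hK]
  inv_mem' := fun {a} ha K hK => by
    have h1 := congrArg (cj a⁻¹) (ha K hK)
    rw [cj_inv_cj] at h1
    exact h1.symm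

theorem mem_KP : g ∈ KP Om S ↔ ∀ K ∈ Phi Om S, cj g K = K := Iff.rfl

namespace LW

variable (h : LW Om U)
include h

theorem le_norm_D {A : Subgroup G} (hA : ∀ g ∈ A, ∀ K ∈ Phi Om S, cj g K ∈ Phi Om S) :
    A ≤ normalizer ((sSup (Phi Om S) : Subgroup G) : Set G) := by
  have key : ∀ g ∈ A, sSup (Phi Om S) ≤ cj g (sSup (Phi Om S)) := by
    intro g hg
    refine sSup_le fun K hK => ?_
    have h1 := cj_mono g (le_sSup (hA g⁻¹ (A.inv_mem hg) K hK))
    rwa [cj_cj_inv] at h1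
  intro g hg
  rw [mem_normalizer_iff_cj]
  refine le_antisymm ?_ (key g hg)
  have h1 := cj_mono g (key g⁻¹ (A.inv_mem hg))
  rwa [cj_cj_inv] at h1

theorem cj_mem_Phi_of_norm (hg : g ∈ normalizer ((sSup (Phi Om S) : Subgroup G) : Set G)) (hK : K ∈ Phi Om S) :
    cj g K ∈ Phi Om S := by
  refine ⟨h.hO K hK.1 g, ?_⟩
  have h1 := cj_mono g (le_sSup hK)
  rw [mem_normalizer_iff_cj.1 hg] at h1
  exact h1.trans (sSup_le fun L hL => hL.2)

/-- **(6.0)** -/
theorem exists_tt (hS : Syl S ⊤) (hK : K ∈ II Om U S) : ∃ N ∈ Om, zz N ∈ S ∧ TT U K (zz N) := by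
  obtain ⟨hK, N, hN, ht⟩ := hK
  have hun : ∀ L ∈ Om, zz L = zz K → L = K := fun L hL hz => h.tt_unique hK.1 hN ht hL hz
  have h1 : IsPGroup 2 (zpowers (zz N)) := (h.two N hN).to_le (zpowers_le.2 (h.hyp.zz_mem hN))
  obtain ⟨R, hR, hle⟩ := exists_syl_ge h1 (show zpowers (zz N) ≤ centralizer {zz K} from
    zpowers_le.2 (mem_centralizer_singleton_iff.2 ht.1))
  have hD : IsPGroup 2 (sSup (Phi Om S) : Subgroup G) := hS.2.1.to_le (sSup_le fun K hK => hK.2)
  obtain ⟨R', hR', hle'⟩ := exists_syl_ge hD (show sSup (Phi Om S) ≤ centralizer {zz K} from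
    sSup_le fun L hL => by
      by_cases hKL : L = K
      · rw [hKL]; exact h.hyp.le_centralizer hK.1
      · exact le_centralizer_singleton fun l hl => (h.orth_of_Phi hS hL hK hKL).2 l hl _ (h.hyp.zz_mem hK.1))
  obtain ⟨c, hc, rfl⟩ := hR.exists_conj hR'
  have hcK : cj c K = K := mem_normalizer_iff_cj.1 (h.norm_of_unique hK.1 hun (mem_centralizer_singleton_iff.1 hc))
  have ht1 : TT U K (zz (cj c N)) := by
    have := h.tt_cj hK.1 ht c
    rwa [hcK, ← h.hyp.zz_cj hN] at this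
  have hN1 : cj c N ∈ Om := h.hO N hN c
  obtain ⟨S', hS', hRS⟩ := exists_top hR'.2.1
  have hPhi : Phi Om S' = Phi Om S :=
    Phi_eq_of_le h.hO hS hS'.2.1 fun L hL => (le_sSup hL).trans (hle'.trans hRS)
  have hz1 : zz (cj c N) ∈ S' := by
    rw [h.hyp.zz_cj hN]
    exact hRS (conj_mem_cj (hle (mem_zpowers _)))
  -- the kernel
  have hSn : S ≤ normalizer ((sSup (Phi Om S) : Subgroup G) : Set G) :=
    h.le_norm_D fun g hg K hK => cj_mem_Phi h.hO hg hK
  have hS'n : S' ≤ normalizer ((sSup (Phi Om S) : Subgroup G) : Set G) :=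
    h.le_norm_D fun g hg K hK => by
      rw [← hPhi] at hK ⊢
      exact cj_mem_Phi h.hO hg hK
  have hMn : KP Om S ≤ normalizer ((sSup (Phi Om S) : Subgroup G) : Set G) :=
    h.le_norm_D fun g hg K hK => by rw [mem_KP.1 hg K hK]; exact hK
  have hnM : normalizer ((sSup (Phi Om S) : Subgroup G) : Set G) ≤ normalizer (KP Om S : Set G) := by
    have key : ∀ g ∈ normalizer ((sSup (Phi Om S) : Subgroup G) : Set G), ∀ m ∈ KP Om S, g * m * g⁻¹ ∈ KP Om S := by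
      intro g hg m hm K hK
      have h2 := h.cj_mem_Phi_of_norm (inv_mem hg) hK
      rw [cj_mul, cj_mul, mem_KP.1 hm _ h2, cj_cj_inv]
    intro g hg
    rw [mem_normalizer_iff]
    intro m
    refine ⟨key g hg m, fun hm => ?_⟩
    have h2 := key g⁻¹ (inv_mem hg) _ hm
    have h3 : g⁻¹ * (g * m * g⁻¹) * g⁻¹⁻¹ = m := by group
    rwa [h3] at h2
  have a1 : Syl (S ⊓ KP Om S) (KP Om S) := LB.syl_inf_normal (LB.syl_of_le hS hSn le_top) hMn hnM
  have a2 : Syl (S' ⊓ KP Om S) (KP Om S) := LB.syl_inf_normal (LB.syl_of_le hS' hS'n le_top) hMn hnM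
  obtain ⟨m, hm, hmc⟩ := a2.exists_conj a1
  have hz2 : zz (cj c N) ∈ S' ⊓ KP Om S := by
    refine ⟨hz1, fun L hL => ?_⟩
    rw [← hPhi] at hL
    exact mem_normalizer_iff_cj.1 (h.norm_mem hS'.2.1 hL.1 hL.2 hN1 hz1)
  refine ⟨cj m (cj c N), h.hO _ hN1 m, ?_, ?_⟩
  · rw [h.hyp.zz_cj hN1]
    have h2 := conj_mem_cj (g := m) hz2
    rw [hmc] at h2
    exact h2.1
  · have h2 := h.tt_cj hK.1 ht1 m
    rwa [mem_KP.1 hm K hK, ← h.hyp.zz_cj hN1] at h2

/-- first part of (6.2) -/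
theorem tt_tt_zz (hS : Syl S ⊤) (hK : K ∈ Phi Om S) (hK' : K' ∈ Phi Om S) (hne : K ≠ K') (hN : N ∈ Om)
    (hN' : N' ∈ Om) (hs : zz N ∈ S) (hs' : zz N' ∈ S) (ht : TT U K (zz N)) (ht' : TT U K' (zz N')) :
    zz N * zz N' = zz N' * zz N := by
  haveI : Fact (Nat.Prime 2) := ⟨Nat.prime_two⟩
  by_contra hcon
  have hn1 : ¬ TT U K (zz N') := fun hh => hne (h.tt_eq hS.2.1 hK.1 hK.2 hK'.1 hK'.2 hN' hh ht')
  have hn2 : ¬ TT U K' (zz N) := fun hh => hne (h.tt_eq hS.2.1 hK.1 hK.2 hK'.1 hK'.2 hN ht hh)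
  have c1 := h.le_cent_of_not_tt hK.1 hN' (h.comm_zz_of_mem hS.2.1 hK.1 hK.2 hN' hs') hn1
  have c2 := h.le_cent_of_not_tt hK'.1 hN (h.comm_zz_of_mem hS.2.1 hK'.1 hK'.2 hN hs) hn2
  obtain ⟨s, hsd⟩ : ∃ s, s = zz N := ⟨_, rfl⟩
  obtain ⟨s', hsd'⟩ : ∃ s', s' = zz N' := ⟨_, rfl⟩
  have hss : s * s = 1 := by rw [hsd]; exact h.zz_zz hN
  have hss' : s' * s' = 1 := by rw [hsd']; exact h.zz_zz hN'
  have hsi : s⁻¹ = s := inv_eq_of_mul_eq_one_right hss
  have hsi' : s'⁻¹ = s' := inv_eq_of_mul_eq_one_right hss'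
  rw [← hsd, ← hsd'] at hcon
  obtain ⟨p, hpd⟩ : ∃ p, p = s * s' := ⟨_, rfl⟩
  have hpS : p ∈ S := by rw [hpd, hsd, hsd']; exact S.mul_mem hs hs'
  have hp1 : s * p * s⁻¹ = p⁻¹ := by
    rw [hpd, mul_inv_rev, hsi, hsi']
    calc s * (s * s') * s = (s * s) * (s' * s) := by group
      _ = s' * s := by rw [hss, one_mul]
  have hp2 : s' * p * s'⁻¹ = p⁻¹ := by
    rw [hpd, mul_inv_rev, hsi, hsi']
    calc s' * (s * s') * s' = s' * s * (s' * s') := by group
      _ = s' * s := by rw [hss', mul_one]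
  have hpp : p * p ≠ 1 := by
    intro hh
    apply hcon
    have h1 : p⁻¹ = p := inv_eq_of_mul_eq_one_right hh
    rw [← hpd, ← h1, hpd, mul_inv_rev, hsi, hsi']
  obtain ⟨m, hm⟩ := (IsPGroup.iff_orderOf.1 hS.2.1) ⟨p, hpS⟩
  rw [Subgroup.orderOf_mk] at hm
  have hm2 : 2 ≤ m := by
    by_contra hlt
    have h1 : m = 0 ∨ m = 1 := by omega
    rcases h1 with rfl | rfl
    · rw [pow_zero, orderOf_eq_one_iff] at hm
      exact hpp (by rw [hm, one_mul])
    · rw [pow_one] at hm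
      exact hpp (by rw [← pow_two, ← hm]; exact pow_orderOf_eq_one p)
  obtain ⟨f, hf⟩ : ∃ f, f = p ^ (2 ^ (m - 2)) := ⟨_, rfl⟩
  have hff : f * f = p ^ (2 ^ (m - 1)) := by
    rw [hf, ← pow_add]
    congr 1
    have : m - 1 = (m - 2) + 1 := by omega
    rw [this, pow_succ]; ring
  have hff1 : f * f ≠ 1 := by
    rw [hff]
    intro hh
    have h1 := orderOf_dvd_of_pow_eq_one hh
    rw [hm, Nat.pow_dvd_pow_iff_le_right (by norm_num)] at h1
    omega
  have hff4 : f * f * (f * f) = 1 := by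
    rw [hff, ← pow_add, ← two_mul, ← pow_succ', show m - 1 + 1 = m by omega, ← hm, pow_orderOf_eq_one]
  have hff2 : f * f = (p * p) ^ (2 ^ (m - 2)) := by
    rw [hf, ← pow_add, ← pow_two, ← pow_mul]; congr 1; ring
  have hfS : f ∈ S := by rw [hf]; exact S.pow_mem hpS _
  have hf1 : s * f * s⁻¹ = f⁻¹ := by rw [hf, ← conj_pow, hp1, inv_pow]
  have hf2 : s' * f * s'⁻¹ = f⁻¹ := by rw [hf, ← conj_pow, hp2, inv_pow]
  -- the general step
  have key : ∀ (A B : Subgroup G) (q : G), A ∈ Phi Om S → B ∈ Om → zz B = q → q ∈ S → q * q = 1 →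
      TT U A (zz B) → q * f * q⁻¹ = f⁻¹ → (∀ v ∈ U A, orderOf v = 4 → p * v * p⁻¹ = v⁻¹) →
      (p * zz A = zz A * p) → f * f = zz A := by
    intro A B q hA hB hBq hqS hqq htA hqf hpv hpz
    obtain ⟨v, hv, hv4⟩ := h.exists_v hA.1
    have hqi : q⁻¹ = q := inv_eq_of_mul_eq_one_right hqq
    have e1 : f⁻¹ * q * f = q * (f * f) := by
      calc f⁻¹ * q * f = (q * f * q⁻¹) * q * f := by rw [hqf]
        _ = q * (f * f) := by group
    have e2 : zz (cj f⁻¹ B) = q * (f * f) := by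
      rw [h.hyp.zz_cj hB, hBq, inv_inv, e1]
    have hcv : ∀ w ∈ U A, p * p * w = w * (p * p) := by
      have h0 : p * p * v = v * (p * p) := by
        have h1 : p * p * v * (p * p)⁻¹ = v := by
          calc p * p * v * (p * p)⁻¹ = p * (p * v * p⁻¹) * p⁻¹ := by group
            _ = p * v⁻¹ * p⁻¹ := by rw [hpv v hv hv4]
            _ = (p * v * p⁻¹)⁻¹ := by group
            _ = v := by rw [hpv v hv hv4, inv_inv]
        exact mul_inv_eq_iff_eq_mul.1 h1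
      intro w hw
      obtain ⟨n, rfl⟩ := h.exists_pw_U hA.1 hv hv4 hw
      exact pw_comm h0 n
    have hcz : p * p * zz A = zz A * (p * p) := by
      rw [mul_assoc, hpz, ← mul_assoc, hpz, mul_assoc]
    have hTT : TT U A (zz B * (f * f)) := by
      rw [hff2]
      refine h.tt_mul_of_comm htA ?_ fun w hw => ?_
      · exact ((show Commute (p * p) (zz A) from hcz).pow_left _).eq
      · exact ((show Commute (p * p) w from hcv w hw).pow_left _).eq
    rw [hBq, ← e2] at hTT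
    have hcm : q * (f * f) = f * f * q := by
      have h4 : q * (f * f) * q⁻¹ = f * f := by
        calc q * (f * f) * q⁻¹ = (q * f * q⁻¹) * (q * f * q⁻¹) := by group
          _ = (f * f)⁻¹ := by rw [hqf]; group
          _ = f * f := inv_eq_of_mul_eq_one_right hff4
      exact mul_inv_eq_iff_eq_mul.1 h4
    have h5 := h.tt_two hS hA hB (h.hO B hB f⁻¹) (by rw [hBq]; exact hqS)
      (by rw [e2]; exact S.mul_mem hqS (S.mul_mem hfS hfS)) htA hTT (by
        rw [e2, hBq, mul_assoc, ← hcm])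
    rw [e2, hBq] at h5
    rcases h5 with h5 | h5
    · exact absurd (mul_eq_left.1 h5) hff1
    · exact mul_left_cancel h5
  have i1 : ∀ v ∈ U K, orderOf v = 4 → p * v * p⁻¹ = v⁻¹ := by
    intro v hv hv4
    have h1 : s' * v = v * s' := by
      rw [hsd']; exact (mem_centralizer_singleton_iff.1 (c1 (h.vch.le K hK.1 hv))).symm
    calc p * v * p⁻¹ = s * (s' * v) * s'⁻¹ * s⁻¹ := by rw [hpd]; group
      _ = s * v * s⁻¹ := by rw [h1]; group
      _ = v⁻¹ := by rw [hsd]; exact h.tt_inv hK.1 hN ht hv hv4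
  have i2 : ∀ v ∈ U K', orderOf v = 4 → p * v * p⁻¹ = v⁻¹ := by
    intro v hv hv4
    have h1 : s * v⁻¹ = v⁻¹ * s := by
      rw [hsd]; exact (mem_centralizer_singleton_iff.1 (c2 (K'.inv_mem (h.vch.le K' hK'.1 hv)))).symm
    calc p * v * p⁻¹ = s * (s' * v * s'⁻¹) * s⁻¹ := by rw [hpd]; group
      _ = s * v⁻¹ * s⁻¹ := by rw [hsd', h.tt_inv hK'.1 hN' ht' hv hv4]
      _ = v⁻¹ := by rw [h1, mul_inv_cancel_right]
  have z1 : ∀ A ∈ Phi Om S, p * zz A = zz A * p := by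
    intro A hA
    have h1 : s * zz A = zz A * s := by rw [hsd]; exact h.comm_zz_of_mem hS.2.1 hA.1 hA.2 hN hs
    have h2 : s' * zz A = zz A * s' := by rw [hsd']; exact h.comm_zz_of_mem hS.2.1 hA.1 hA.2 hN' hs'
    rw [hpd, mul_assoc, h2, ← mul_assoc, h1, mul_assoc]
  have k1 := key K N s hK hN hsd.symm (by rw [hsd]; exact hs) hss ht hf1 i1 (z1 K hK)
  have k2 := key K' N' s' hK' hN' hsd'.symm (by rw [hsd']; exact hs') hss' ht' hf2 i2 (z1 K' hK')
  exact hne (h.tt_unique hK'.1 hN' ht' hK.1 (k1.symm.trans k2))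

/-- **(6.2)** -/
theorem tt_orth (hS : Syl S ⊤) (hK : K ∈ Phi Om S) (hK' : K' ∈ Phi Om S) (hne : K ≠ K') (hN : N ∈ Om)
    (hN' : N' ∈ Om) (hs : zz N ∈ S) (hs' : zz N' ∈ S) (ht : TT U K (zz N)) (ht' : TT U K' (zz N')) :
    ∀ x ∈ N, ∀ y ∈ N', x * y = y * x := by
  have hc := h.tt_tt_zz hS hK hK' hne hN hN' hs hs' ht ht'
  have hun : ∀ L ∈ Om, zz L = zz N → L = N := fun L hL hz => h.tt_unique' hK.1 hN ht hL hz
  have hP : IsPGroup 2 (zpowers (zz N')) := (h.two N' hN').to_le (zpowers_le.2 (h.hyp.zz_mem hN'))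
  obtain ⟨S', hS', hF, hle⟩ := h.exists_swap hS hK hN hs ht hP
    (zpowers_le.2 (h.norm_of_unique hN hun hc.symm))
    (fun L hL _ => zpowers_le.2 (h.norm_mem hS.2.1 hL.1 hL.2 hN' hs'))
  have hNS : N ∈ Phi Om S' := by rw [hF]; exact Set.mem_insert _ _
  have hK'S : K' ∈ Phi Om S' := by rw [hF]; exact Set.mem_insert_of_mem _ ⟨hK', fun hh => hne hh.symm⟩
  have hzS : zz N' ∈ S' := hle (mem_zpowers _)
  have h1 : ¬ TT U N (zz N') := by
    intro hh
    have h2 := h.tt_eq hS'.2.1 hNS.1 hNS.2 hK'S.1 hK'S.2 hN' hh ht'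
    subst h2
    exact h.not_tt_of_comm hK.1 hN (Or.inr (h.orth_of_Phi hS hK hK' hne).2) ht
  rcases h.comm_of_not_tt hN hN' hc.symm h1 with h2 | h2
  · subst h2
    exact absurd (h.tt_eq hS.2.1 hK.1 hK.2 hK'.1 hK'.2 hN ht ht') hne
  · exact h2

theorem tt_comm (hS : Syl S ⊤) (hK : K ∈ Phi Om S) (hK' : K' ∈ Phi Om S) (hne : K ≠ K') (hN : N ∈ Om)
    (hN' : N' ∈ Om) (hs : zz N ∈ S) (hs' : zz N' ∈ S) (ht : TT U K (zz N)) (ht' : TT U K' (zz N')) :
    ∀ x ∈ N, zz N' * x = x * zz N' := fun x hx =>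
  (h.tt_orth hS hK hK' hne hN hN' hs hs' ht ht' x hx _ (h.hyp.zz_mem hN')).symm

end LW

end Cfsg.Agent.Cit.CV1
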