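import Cfsg.Agent.Cit.Nil.CV.XLevel

/-!
# (6b)(CV), rank one: the world, the block relation, R1

`RW Om U` : helper748's `CVW` with "nothing linked": commuting `V_K`, `V_L` implies `K = L` or `[K, L] = 1`.
`Orth K L` : `K ≠ L`, `[K, L] = 1`.
`Conn Om H` : connectedness in the graph "`[K, L]` not contained in `O(H)`" on the members contained in `H`.
`R1 Om H` : orthogonal members of `H` are not connected.
`LemT Om U` : LEMMA T.

Text: `blueprints/CIT-6b-CV-rank1-helper516.md`.
-/

set_option autoImplicit false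
set_option linter.style.haveILetI false
set_option linter.unusedSectionVars false

namespace Cfsg.Agent.Cit.CV1

open Subgroup Cfsg Cit Tau CV

variable {G : Type*} [Group G]

/-- the world of (CV), rank one, members are 2-groups -/
structure RW (Om : Set (Subgroup G)) (U : Subgroup G → Subgroup G) : Prop extends CVW Om U where
  lin : ∀ K ∈ Om, ∀ L ∈ Om, ∀ v ∈ U K, ∀ w ∈ U L, orderOf v = 4 → orderOf w = 4 → v * w = w * v →
    K = L ∨ ∀ x ∈ K, ∀ y ∈ L, x * y = y * x

/-- distinct commuting subgroups -/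
def Orth (K L : Subgroup G) : Prop := K ≠ L ∧ ∀ x ∈ K, ∀ y ∈ L, x * y = y * x

/-- adjacency in the block graph of `H` -/
def Adj (Om : Set (Subgroup G)) (H K L : Subgroup G) : Prop :=
  (K ∈ Om ∧ K ≤ H) ∧ (L ∈ Om ∧ L ≤ H) ∧ ¬ ⁅K, L⁆ ≤ OO H

/-- the block relation of `H` -/
def Conn (Om : Set (Subgroup G)) (H : Subgroup G) : Subgroup G → Subgroup G → Prop :=
  Relation.ReflTransGen (Adj Om H)

/-- **R1** for `H` -/
def R1 (Om : Set (Subgroup G)) (H : Subgroup G) : Prop :=
  ∀ K ∈ Om, ∀ L ∈ Om, K ≤ H → L ≤ H → Orth K L → ¬ Conn Om H K L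

/-- LEMMA T: if `zz N` commutes with `zz K` and not with `v ∈ U K` of order 4, then `K`, `N` are the only members over
`zz K`, `zz N` -/
def LemT (Om : Set (Subgroup G)) (U : Subgroup G → Subgroup G) : Prop :=
  ∀ K ∈ Om, ∀ N ∈ Om, ∀ v ∈ U K, orderOf v = 4 → zz N * zz K = zz K * zz N → zz N * v ≠ v * zz N →
    (∀ K' ∈ Om, zz K' = zz K → K' = K) ∧ ∀ N' ∈ Om, zz N' = zz N → N' = N

end Cfsg.Agent.Cit.CV1
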